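import Cfsg.Agent.H9.FB3
import Cfsg.Agent.H26.NFr2

/-! Case 1 of N4: `H9.fb : H26.FB2`. -/

set_option autoImplicit false
set_option linter.unusedSectionVars false

namespace H9.FB
open Subgroup H18
open H1 hiding card_mul_relIndex
open scoped commutatorElement

variable {G : Type*} [Group G] [Finite G] {S V V₀ B₁ A : Subgroup G} {v e b s η a u : G}

theorem comm_C1 (h : Elem 2 V) (ha : a ∈ N(V)) (a2 : a * a = 1) (hu : u ∈ V) : ⁅u, a⁆ ∈ V ⊓ C1(a) := by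
  have m : ⁅u, a⁆ ∈ V := comm_le_left (zpowers_le.2 ha) (commutator_mem_commutator hu (mem_zpowers a))
  refine ⟨m, mem_C1.2 ?_⟩
  conv_rhs => rw [← eiv h m, commutatorElement_inv]
  simp only [commutatorElement_def, inv_eq_of_mul_eq_one_right a2, eiv h hu, ← mul_assoc, a2, one_mul]
  rw [mul_assoc, a2, mul_one]

/-- step 6 -/
theorem D2.false (h : D2 S V V₀ B₁ v e b η s) (hR : S ⊓ C(V) ≤ N(V₀ ⊔ cj e V₀)) : False := by
  have k := h.e2
  have d := h.d0
  set R := S ⊓ C(V)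
  set E := H4.commStab R V
  have nR : cj e V₀ ≤ N(R) := h.BS.trans h.SL
  have sB := h.sB
  have s2 := esq d.eB sB
  have BE : cj e V₀ ≤ E := H4.le_commStab_iff.2 ⟨d.BN, fun x hx => by
    obtain ⟨a, ha, y, hy, rfl⟩ := (mem_sup_of_norm' (h.BS.trans h.SV0)).1
      ((comm_mono le_sup_right le_rfl).trans (comm_le_left hR) hx)
    exact mul_mem (h.le ha) (d.IV (d.faith hy ((mul_mem_cancel_left (h.eV.abel (h.le ha))).1 (comm_le_right nR hx).2)))⟩
  have nE := norm_stab k.ηL k.ηN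
  have ηE : η ∈ E := inv_mem_iff.1 (mem_of_sq k.oη.inv (by
    have := mul_mem (BE k.bB) (conj_mem_N nE (BE k.bB)); rwa [← mul_assoc, ← mul_assoc, k.iη] at this))
  have cE : ⁅s, η⁆ ∈ E := mul_mem (mul_mem (mul_mem (BE sB) ηE) (inv_mem (BE sB))) (inv_mem ηE)
  have cL : ⁅s, η⁆ ∈ N(R) := mul_mem (mul_mem (mul_mem (nR sB) k.ηL) (inv_mem (nR sB))) (inv_mem k.ηL)
  have cC := k.cη s k.sB
  have cR : ⁅s, η⁆ ∈ R := by
    generalize ⁅s, η⁆ = c at *
    have o : PiElt {2}ᶜ (piPart {2}ᶜ c) := piElt_piPart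
    have := (H4.le_commStab_iff.1 (zpowers_le.2 (piPart_mem (π := {2}ᶜ) cE))).2
    rw [comm_comm] at this
    have := h.cR (cent_symm (cent_of_comm_le this (cent_symm (zpowers_le.2 (piPart_mem cC))) (o.zpowers.coprime' h.pV))
      (mem_zpowers _))
    refine (h.hallR.of_le (le_inf inf_le_right le_N) inf_le_left).mem_of_nml inf_le_right ⟨cC, cL⟩ ?_
    rw [← compl_compl {2}, ← piPart_eq_one_iff]
    exact (h.syl.pi.inf_left.elt this).eq_one' o
  have TS : R ⊔ zpowers s ≤ S := sup_le inf_le_left (zpowers_le.2 (h.BS sB))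
  have c1 : ⁅R ⊔ zpowers s, zpowers η⁆ ≤ R := by
    rw [comm_comm]
    refine (H4.le_commStab_iff.1 (zpowers_le.2 ⟨k.ηL, fun t ht => ?_⟩)).2
    rw [← commutatorElement_inv]
    refine inv_mem (((sup_le (fun r hr => ⟨le_N hr, fun _ e => e ▸ comm_le_left (zpowers_le.2 k.ηL)
      (commutator_mem_commutator hr (mem_zpowers η))⟩) (zpowers_le.2 ⟨nR sB, fun _ e => e ▸ cR⟩) :
        _ ≤ H4.commStab {η} R) ht).2 η rfl)
  have pT := h.syl.pi.of_le TS
  have cop := cop_of_pi' (norm_of_comm_le (by rw [comm_comm]; exact c1.trans le_sup_left)) k.oη.zpowers pT (.inr pT.solv)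
  have cV : ⁅s, η⁆ ∈ V := by
    have := (H4.le_commStab_iff.1 (zpowers_le.2 ηE)).2
    rw [comm_comm] at this
    exact (cop.comm_comm.ge.trans ((comm_mono c1 le_rfl).trans this))
      (commutator_mem_commutator (mem_sup_right (mem_zpowers s)) (mem_zpowers η))
  set U := V ⊓ C1(s)
  have sU : zpowers s ≤ C(U) := cent_symm (inf_le_right.trans C_zpowers.ge)
  have nA : ∀ g, (∀ u ∈ U, ⁅g, u⁆ ∈ U ⊔ zpowers s) → ⁅g, s⁆ ∈ U → g ∈ N(U ⊔ zpowers s) := fun g h1 h2 => mem_N_of_cj_le (by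
    rw [cj_sup, cj_zpowers]
    refine sup_le (fun y hy => ?_) (zpowers_le.2 ?_)
    · obtain ⟨u, hu, rfl⟩ := mem_cj'.1 hy
      rw [show g * u * g⁻¹ = ⁅g, u⁆ * u by group]
      exact mul_mem (h1 u hu) (mem_sup_left hu)
    · rw [show g * s * g⁻¹ = ⁅g, s⁆ * s by group]
      exact mul_mem_sup h2 (mem_zpowers s))
  have cB : Nat.card B₁ = Nat.card Zs(S) * 2 := by
    have := card_mul_relIndex k.le1
    rw [k.two1, card_cj, k.card0] at this
    rw [h.cardZ]; omega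
  have ZB : Zs(S) ≤ B₁ := h.IZ.ge.trans ((le_inf inf_le_right (d.IV.trans h.eV.abel)).trans k.k1)
  have lB : ∀ Y, Zs(S) ≤ Y → s ∈ Y → B₁ ≤ Y := fun Y hZ hs =>
    le_two (relIndex_eq_of_mul ZB cB) hZ k.sB (fun c => k.s0 (h.eV.abel (h.ZV c))) hs
  have pA : PiGrp {2} (U ⊔ zpowers s) := h.syl.pi.of_le (sup_le (inf_le_left.trans h.VS) (le_sup_right.trans TS))
  refine k.WV0 (d.sol1 (h.sol _ pA fun c => h.Z1 (eq_bot_iff.2 (c ▸ h.ZU.trans le_sup_left))) (sup_le (fun g hg => nA g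
    (fun u hu => by rw [commutatorElement_eq_one_iff_mul_comm.2 (ecv h.eV hg hu.1)]; exact one_mem _)
    (comm_C1 h.eV (d.BN sB) s2 hg)) fun g hg => nA g (fun u hu => ?_) (by
      rw [commutatorElement_eq_one_iff_mul_comm.2 (ecv d.eV' hg (cj_mono h.le sB))]; exact one_mem _))
    (nA η (fun u hu => mem_sup_left (comm_le_right (zpowers_le.2 (k.nU k.sB)) (commutator_mem_commutator (mem_zpowers η) hu)))
      ?_) k.ηN k.oη k.bB k.iη)
  · have u0 := k.UV0 hu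
    have m := d.c2 (commutator_mem_commutator hg u0)
    have c := (comm_C1 d.eV' (h.Q1N (mem_sup_right u0)) (esq h.eV hu.1) hg).2
    by_cases uZ : u ∈ Zs(S)
    · rw [commutatorElement_eq_one_iff_mul_comm.2 (mem_C.1 (d.ID (h.ZI uZ)) g (mem_sup_right hg))]; exact one_mem _
    refine lB _ (h.ZU.trans le_sup_left) (mem_sup_right (mem_zpowers s)) ?_
    by_contra nb
    have := lB C1(u) ((h.ZV.trans h.eV.abel).trans (C_le_C1 hu.1)) (mem_C1_comm.1 hu.2) (mul_two k.two1 m k.bB nb k.nb)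
    exact uZ (h.IZ.le (k.Ub.le (mem_inf.2 ⟨hu, mem_C1_comm.1 ((mul_mem_cancel_left (H := C1(u)) c).1 this)⟩)))
  · have m : ⁅η, s⁆ ∈ V := commutatorElement_inv s η ▸ inv_mem cV
    refine ⟨m, mem_C1.2 ?_⟩
    have : ⁅η, s⁆ * s * (⁅η, s⁆ * s) = 1 := by
      calc _ = η * (s * s) * η⁻¹ := by group
        _ = 1 := by rw [s2]; group
    calc ⁅η, s⁆ * s = (⁅η, s⁆ * s)⁻¹ := (inv_eq_of_mul_eq_one_right this).symm
      _ = _ := by rw [mul_inv_rev, eiv h.eV m, inv_eq_of_mul_eq_one_right s2]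

theorem fb_of_fr (h : H26.Fr S V) (hV : IsPGroup 2 V) : Fb S V := by
  have p2 := Nat.prime_two
  refine ⟨⟨le_top, piGrp_of_isPGroup p2 h.isP, (piNat_compl_iff p2).2 h.syl.not_dvd_relIndex⟩, elem_iff.2 (h.ea hV), h.le,
    h.oz_le, fun A hA h1 => h.sol hA.isPGroup h1, fun A hA h1 => ?_, ?_, h.L_le hV, fun A hA h1 hR =>
      h.pu hV (h.charP_c hA.isPGroup h1) ⟨hR.le, hR.pi.isPGroup, fun _ h1 h2 h3 =>
        (hR.eq_of_le h2 h3 (piGrp_of_isPGroup p2 h1)).le⟩, h.ne_bot⟩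
  · have := h.charP hA.isPGroup h1
    rw [H26.CharPOf, Cfsg.pCoreOf, pCore_map p2] at this
    exact eq_bot_iff.2 ((le_inf ((le_inf pcore_le (cent_symm pcore_cent_compl)).trans this) le_rfl).trans pcore_inf_compl.le)
  · have e : mim (actf V) Ps(2,V) = _ := mim_mpre pcore_le
    rw [← e, mim_eq_bot_iff Ps_nml.le, mker_actf]
    refine h.red hV _ Ps_nml.le Ps_nml.norm ?_
    rw [← mker_actf, ← mim_eq_bot_iff ((H26.pResidualOf_le _ _).trans Ps_nml.le), mim,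
      ← H26.pResidualOf_subgroupOf Ps_nml.le, H26.map_pResidualOf]
    exact H26.pResidualOf_eq_bot (e.symm ▸ pcore_pi.isPGroup :)

end H9.FB

theorem H9.fb.{u} : H26.FB2.{u} := fun _ _ _ _ _ h hV => by
  by_contra c
  rw [Cfsg.pCoreOf, H18.pCore_map Nat.prime_two] at c
  obtain ⟨_, _, _, _, _, _, _, d, hR⟩ := (H9.FB.fb_of_fr h hV).exists_D2 c
  exact d.false hR
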