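import Cfsg.Agent.H24.SL2Norm
import Cfsg.Agent.H10.PSL2Sub

/-! Class products and class sizes in `PSL₂(q)`: `exists_factor` (write `g = a · (a⁻¹ g)` with prescribed
traces), `prod_class`, `index_cent` (class size of the image of `g ∈ SL₂` in `PSL₂`). -/

set_option autoImplicit false

namespace H9.L2
open Matrix H24
open scoped MatrixGroups
open H10 (π π_eq_iff π_eq_one_iff π_surjective)

variable {F : Type*} [Field F]

theorem exists_factor {g : SL(2, F)} (hg : ¬ IsScal (g : M2 F)) {t r a b : F}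
    (h : a ^ 2 - (g : M2 F).trace * a * b + b ^ 2 - t * a + r * b + 1 = 0) :
    ∃ x : SL(2, F), (x : M2 F).trace = t ∧ ((x⁻¹ * g : SL(2, F)) : M2 F).trace = r := by
  obtain ⟨v, hv⟩ := exists_Qf_ne_zero hg
  have e := mul_cyc (g : M2 F) v
  rw [← det_cyc] at hv
  generalize cyc (g : M2 F) v = m at e hv
  have u : IsUnit m.det := hv.isUnit
  rw [g.2] at e
  generalize hs : (g : M2 F).trace = s at h e
  let x : M2 F := !![a, b; r + b - a * s, t - a]
  have k : ∀ y : M2 F, (m * y * m⁻¹).trace = y.trace := fun y => by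
    rw [trace_mul_cycle, nonsing_inv_mul _ u, one_mul]
  have k1 : (m * x * m⁻¹).trace = t := (k _).trans (by simp [x, trace_fin_two])
  have e2 : (g : M2 F) = m * H24.comp s 1 * m⁻¹ := by rw [← e, mul_nonsing_inv_cancel_right _ _ u]
  obtain ⟨y, hy⟩ : ∃ y : SL(2, F), (y : M2 F) = m * x * m⁻¹ := ⟨⟨_, by
    rw [det_conj (isUnit_iff_isUnit_det _ |>.2 u)]; simp [x]; linear_combination -h⟩, rfl⟩
  refine ⟨y, hy ▸ k1, ?_⟩
  rw [coe_mul_SL, coe_inv_SL, hy, k1, Matrix.add_mul, Matrix.smul_mul, Matrix.smul_mul, Matrix.one_mul, trace_add, trace_smul,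
    trace_smul, hs, e2, show m * x * m⁻¹ * (m * H24.comp s 1 * m⁻¹) = m * (x * H24.comp s 1) * m⁻¹ by
      simp only [Matrix.mul_assoc, nonsing_inv_mul_cancel_left _ _ u], k]
  simp [x, H24.comp, trace_fin_two]; ring

theorem π_neg (g : SL(2, F)) : π F (-g) = π F g := (π_eq_iff _ _).2 (.inr rfl)

theorem not_isScal_of_ne_one {g : SL(2, F)} (h : π F g ≠ 1) : ¬ IsScal (g : M2 F) := fun k =>
  h ((π_eq_one_iff g).2 ((isScal_SL_iff g).1 k))

theorem tr_sq {g h : SL(2, F)} (e : IsConj (π F g) (π F h)) :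
    (g : M2 F).trace ^ 2 = (h : M2 F).trace ^ 2 := by
  obtain ⟨c, hc⟩ := isConj_iff.1 e
  obtain ⟨c, rfl⟩ := π_surjective c
  rw [← map_inv, ← map_mul, ← map_mul, π_eq_iff] at hc
  rw [← trace_conj_SL c g]
  rcases hc with k | k <;> rw [k]
  simp

variable [Fintype F]

theorem isConj_of_sq {g h : SL(2, F)} (hr : RS h) (e : (g : M2 F).trace ^ 2 = (h : M2 F).trace ^ 2) :
    IsConj (π F h) (π F g) := by
  rcases sq_eq_sq_iff_eq_or_eq_neg.1 e with k | k
  · exact (π F).map_isConj (isConj_SL_of_trace hr k).symm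
  · rw [← π_neg g]
    exact (π F).map_isConj (isConj_SL_of_trace hr (by simp [k])).symm

theorem prod_class {x g : SL(2, F)} (hx : RS x) (hg : ¬ IsScal (g : M2 F)) {r a b : F}
    (hr : r ^ 2 = (x : M2 F).trace ^ 2)
    (h : a ^ 2 - (g : M2 F).trace * a * b + b ^ 2 - (x : M2 F).trace * a + r * b + 1 = 0) :
    ∃ u v : PSL(2, F), π F g = (u * π F x * u⁻¹) * (v * π F x * v⁻¹) := by
  obtain ⟨y, h1, h2⟩ := exists_factor hg h
  obtain ⟨u, hu⟩ := isConj_iff.1 (isConj_of_sq (g := y) hx (by rw [h1]))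
  obtain ⟨v, hv⟩ := isConj_iff.1 (isConj_of_sq (g := y⁻¹ * g) hx (by rw [h2, hr]))
  exact ⟨u, v, by rw [hu, hv, ← map_mul, mul_inv_cancel_left]⟩

omit [Fintype F] in
theorem pow_char_of_not_rs (p : ℕ) [Fact p.Prime] [CharP F p] {g : SL(2, F)} (h : ¬ RS g) :
    π F g ^ p = 1 := by
  rw [RS, not_not, show (4 : F) = 2 ^ 2 by norm_num, sq_eq_sq_iff_eq_or_eq_neg] at h
  rw [← map_pow, π_eq_one_iff, ← isScal_SL_iff, H10.SL2_coe_pow]
  rcases h with h | h
  · rw [pow_char_of_trace p (a := 1) (by rw [h]; norm_num) (by rw [g.2]; norm_num)]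
    exact isScal_smul_one _
  · rw [pow_char_of_trace p (a := -1) (by rw [h]; norm_num) (by rw [g.2]; norm_num)]
    exact isScal_smul_one _

omit [Fintype F] in
theorem sq_of_trace_zero {g : SL(2, F)} (h : (g : M2 F).trace = 0) : π F g ^ 2 = 1 := by
  rw [← map_pow, pow_two, mul_self_of_trace_zero h, π_eq_one_iff]; exact .inr rfl

omit [Fintype F] in
theorem index_cent (g : SL(2, F)) : (Subgroup.centralizer ({π F g} : Set PSL(2, F))).index =
    ((Subgroup.centralizer ({π F g} : Set PSL(2, F))).comap (π F)).index :=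
  (Subgroup.index_comap_of_surjective _ π_surjective).symm

omit [Fintype F] in
theorem mem_comap_cent {g x : SL(2, F)} :
    x ∈ (Subgroup.centralizer ({π F g} : Set PSL(2, F))).comap (π F) ↔
      x * g * x⁻¹ = g ∨ x * g * x⁻¹ = -g := by
  rw [Subgroup.mem_comap, Subgroup.mem_centralizer_singleton_iff, ← π_eq_iff, map_mul, map_mul, map_inv,
    mul_inv_eq_iff_eq_mul]

omit [Fintype F] in
theorem comap_cent {g : SL(2, F)} (h : (2 : F) = 0 ∨ (g : M2 F).trace ≠ 0) :
    (Subgroup.centralizer ({π F g} : Set PSL(2, F))).comap (π F) = C2 g := by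
  ext x
  rw [mem_comap_cent, mem_C2_iff_conj, or_iff_left_iff_imp]
  intro k
  by_cases h2 : (2 : F) = 0
  · rw [k]
    apply Subtype.ext
    ext i j
    simp only [Matrix.SpecialLinearGroup.coe_neg, Matrix.neg_apply]
    linear_combination (-(g.1 i j)) * h2
  · have := trace_conj_SL x g
    rw [k] at this
    simp only [Matrix.SpecialLinearGroup.coe_neg, trace_neg] at this
    exact absurd (mul_left_cancel₀ h2 (by linear_combination -this)) (h.resolve_left h2)

omit [Fintype F] in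
theorem comap_cent_zero (h2 : (2 : F) ≠ 0) {g : SL(2, F)} (h : (g : M2 F).trace = 0) :
    (Subgroup.centralizer ({π F g} : Set PSL(2, F))).comap (π F) =
      Subgroup.normalizer (C2 g : Set SL(2, F)) := by
  ext x
  rw [mem_comap_cent, (rs_of_trace_zero h2 h).mem_norm_iff, show g⁻¹ = -g by
    rw [inv_eq_iff_mul_eq_one, mul_neg, mul_self_of_trace_zero h, neg_neg]]

theorem index_eq {H : Subgroup SL(2, F)} {n m : ℕ} (h : Nat.card H = n)
    (e : n * m = Fintype.card F * (Fintype.card F - 1) * (Fintype.card F + 1)) : H.index = m := by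
  have := H.card_mul_index
  rw [H10.card_SL2, h, ← e] at this
  exact Nat.eq_of_mul_eq_mul_left (h ▸ Nat.card_pos) this

theorem card_par {g : SL(2, F)} (hg : ¬ IsScal (g : M2 F)) (h : ¬ RS g) :
    Nat.card (C2 g) = Nat.card {x : F // x ^ 2 = 1} * Fintype.card F := by
  rw [RS, not_not, show (4 : F) = 2 ^ 2 by norm_num, sq_eq_sq_iff_eq_or_eq_neg] at h
  rcases h with h | h
  · exact card_cent_SL_par hg (a := 1) (by rw [h]; norm_num) (by norm_num)
  · exact card_cent_SL_par hg (a := -1) (by rw [h]; norm_num) (by norm_num)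

theorem exists_split (h4 : 4 ≤ Fintype.card F) : ∃ g : SL(2, F), RS g ∧
    Nat.card (C2 g) = Fintype.card F - 1 ∧ orderOf g = Fintype.card F - 1 := by
  classical
  obtain ⟨a, ha⟩ := IsCyclic.exists_ofOrder_eq_natCard (α := Fˣ)
  rw [Nat.card_eq_fintype_card, Fintype.card_units] at ha
  have ne : (a : F) ≠ (a : F)⁻¹ := fun e => by
    have : a ^ 2 = 1 := Units.ext (by rw [pow_two, Units.val_mul]; nth_rw 1 [e]; simp)
    have := Nat.le_of_dvd two_pos (ha ▸ orderOf_dvd_of_pow_eq_one this)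
    omega
  let f : Fˣ →* SL(2, F) := MonoidHom.mk' (fun b => ⟨!![(b : F), 0; 0, (b : F)⁻¹], by simp⟩) fun b c =>
    Subtype.ext (by
      change _ = !![(b : F), 0; 0, (b : F)⁻¹] * !![(c : F), 0; 0, (c : F)⁻¹]
      ext i j; fin_cases i <;> fin_cases j <;> simp [mul_comm])
  have ht : (f a : M2 F).trace = a + (a : F)⁻¹ := trace_fin_two _
  exact ⟨f a, rs_of_split ne ht (by simp), card_cent_SL_split ne ht (by simp),
    (orderOf_injective f (fun b c e => Units.ext (congrFun (congrFun (congrArg Subtype.val e) 0) 0)) a).trans ha⟩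

end H9.L2
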