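import Mathlib.NumberTheory.LSeries.PrimesInAP
import Mathlib.NumberTheory.LegendreSymbol.QuadraticReciprocity
import Mathlib.RingTheory.LittleWedderburn
import Mathlib.Algebra.MonoidAlgebra.Basic
import Mathlib.Tactic

/-! Pieces D (Dirichlet) and P (characteristic `p`) of S4294. -/

set_option autoImplicit false

namespace H9.AmD

theorem ns : ∀ r : ZMod 5, ((3 : ℤ) : ZMod 5) ≠ r * r := by decide

theorem pD (l : ℕ) (hl : l.Prime) (h2 : l ≠ 2) (h5 : l ≠ 5) :
    ∃ p : ℕ, p.Prime ∧ p % 4 = 3 ∧ IsSquare (-5 : ZMod p) ∧ l ∣ p + 1 := by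
  have c2 : Nat.Coprime 2 l := (Nat.coprime_primes Nat.prime_two hl).2 h2.symm
  have c5 : Nat.Coprime 5 l := (Nat.coprime_primes (by norm_num) hl).2 h5.symm
  have co : Nat.Coprime 20 l := by
    rw [show 20 = 2 ^ 2 * 5 from rfl]
    exact Nat.Coprime.mul_left (c2.pow_left 2) c5
  obtain ⟨a, h1, h3⟩ := Nat.chineseRemainder co 3 (l - 1)
  have l2 := hl.two_le
  have ca : a.Coprime (20 * l) := by
    refine Nat.Coprime.mul_right ?_ ?_
    · rw [Nat.Coprime, h1.gcd_eq]; norm_num
    · rw [Nat.Coprime, h3.gcd_eq]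
      obtain ⟨k, rfl⟩ : ∃ k, l = k + 1 := ⟨l - 1, by omega⟩
      simp
  obtain ⟨p, -, hp, e⟩ := Nat.forall_exists_prime_gt_and_modEq 0 (q := 20 * l) (by omega) ca
  have e1 : p % 20 = 3 := (e.of_mul_right l).trans h1
  have e2 : p ≡ l - 1 [MOD l] := (e.of_mul_left 20).trans h3
  haveI := Fact.mk hp
  haveI : Fact (Nat.Prime 5) := ⟨by norm_num⟩
  have p2 : p ≠ 2 := by omega
  refine ⟨p, hp, by omega, ?_, ?_⟩
  · have a1 : legendreSym p (-1) = -1 := by
      rw [legendreSym.at_neg_one p2, ZMod.χ₄_nat_three_mod_four (by omega)]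
    have a2 : legendreSym p 5 = -1 := by
      have := legendreSym.quadratic_reciprocity_one_mod_four (p := 5) (q := p) rfl p2
      rw [show ((5 : ℕ) : ℤ) = 5 from rfl] at this
      rw [this, legendreSym.mod, show (p : ℤ) % (5 : ℕ) = 3 by omega]
      refine (legendreSym.eq_neg_one_iff 5).2 ?_
      rintro ⟨r, hr⟩
      exact ns r hr
    have a3 : legendreSym p (-5) = 1 := by
      rw [show (-5 : ℤ) = -1 * 5 from rfl, legendreSym.mul, a1, a2]; rfl
    have a4 : ((-5 : ℤ) : ZMod p) ≠ 0 := fun h => by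
      rw [(legendreSym.eq_zero_iff p _).2 h] at a3; omega
    simpa using (legendreSym.eq_one_iff p a4).1 a3
  · have := e2.add_right 1
    rw [show l - 1 + 1 = l by omega] at this
    exact (Nat.modEq_zero_iff_dvd.1 (this.trans (Nat.modEq_zero_iff_dvd.2 dvd_rfl)))

theorem pP {D : Type*} [DivisionRing D] (H : Subgroup Dˣ) [Finite H] (p : ℕ) [Fact p.Prime]
    [CharP D p] (a b : H) : a * b = b * a := by
  letI : Algebra (ZMod p) D := ZMod.algebra D p
  let f := MonoidAlgebra.lift (ZMod p) D H ((Units.coeHom D).comp H.subtype)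
  haveI : Finite (MonoidAlgebra (ZMod p) H) := Module.finite_of_finite (ZMod p)
  haveI : Finite f.range := Finite.of_surjective _ f.rangeRestrict_surjective
  have m : ∀ c : H, ((c : Dˣ) : D) ∈ f.range := fun c =>
    ⟨MonoidAlgebra.of _ _ c, by simp [f]⟩
  have := (Finite.isDomain_to_isField f.range).mul_comm ⟨_, m a⟩ ⟨_, m b⟩
  exact Subtype.ext (Units.ext (congrArg Subtype.val this))

end H9.AmD
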