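import Cfsg.Agent.H9.FB1

/-! The abstract core of case 1 of N4.  `D0 V V₀ v e` (`v ∈ V \ V₀` inverts `e`, `V₀ ^ e` and `V₀` normalize each other):
`D0.inj`, `D0.sur`, `D0.sol1`.  `NQ L V V₀ I B` (nearly quadratic action of `B ≤ L` on `V`): `NQ.cases` gives a
transvection (`E1.tv`) or `|V| = 16` (`E2`). -/

set_option autoImplicit false
set_option linter.unusedSectionVars false

namespace H9.FB
open Subgroup H18
open H1 hiding card_mul_relIndex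
open scoped commutatorElement

variable {G : Type*} [Group G] [Finite G] {L S V V₀ I B B₁ A K N X Y : Subgroup G} {v e a b c g s t u w x η : G} {p : ℕ}

theorem esq (h : Elem 2 V) (hu : u ∈ V) : u * u = 1 := by rw [← pow_two]; exact h.pow u hu
theorem eiv (h : Elem 2 V) (hu : u ∈ V) : u⁻¹ = u := inv_eq_of_mul_eq_one_right (esq h hu)
theorem ecv (h : Elem 2 V) (hu : u ∈ V) (hw : w ∈ V) : u * w = w * u := comm_of_cent h.abel hu hw
theorem act_one (hx : x ∈ N(V)) : mfun (actf V) x = 1 ↔ x ∈ C(V) := by rw [← mker_actf, mem_mker]; simp [hx]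
theorem act_comm (hx : x ∈ N(V)) (hg : g ∈ N(V))
    (e : mfun (actf V) x * mfun (actf V) g = mfun (actf V) g * mfun (actf V) x) : ⁅x, g⁆ ∈ C(V) := by
  rw [← act_one (x := ⁅x, g⁆) (mul_mem (mul_mem (mul_mem hx hg) (inv_mem hx)) (inv_mem hg)), mfun_comm hx hg,
    commutatorElement_eq_one_iff_mul_comm, e]
theorem cc (hu : u ∈ V) (hg : g ∈ N(V)) (hc : c ∈ C(V)) : ⁅u, c * g⁆ = ⁅u, g⁆ := by
  rw [commutatorElement_mul_right_eq_mul_conj, commutatorElement_eq_one_iff_mul_comm.2 (mem_C.1 hc u hu), one_mul,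
    ← mem_C.1 hc _ (comm_le_left (zpowers_le.2 hg) (commutator_mem_commutator hu (mem_zpowers g))), mul_inv_cancel_right]

/-- `v ∈ V \ V₀` inverts `e` of odd order, `B₀ = V₀ ^ e`, `I = V₀ ∩ B₀`, `D = ⟨V, V ^ e⟩` -/
structure D0 (V V₀ : Subgroup G) (v e : G) : Prop where
  eV : Elem 2 V
  vV : v ∈ V
  v0 : v ∉ V₀
  le : V₀ ≤ V
  two : V₀.relIndex V = 2
  odd : PiElt {2}ᶜ e
  inv : v * e * v = e⁻¹
  BN : cj e V₀ ≤ N(V)
  c1 : ⁅V, cj e V₀⁆ ≤ V₀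
  c2 : ⁅cj e V, V₀⁆ ≤ cj e V₀

namespace D0
variable (h : D0 V V₀ v e)
include h

theorem pV : PiGrp {2} V := h.eV.pi Nat.prime_two
theorem eV' : Elem 2 (cj e V) := h.eV.cj e
theorem eB : Elem 2 (cj e V₀) := h.eV'.of_le (cj_mono h.le)
theorem cVB (hu : u ∈ V) (hb : b ∈ cj e V₀) : ⁅u, b⁆ ∈ V₀ := h.c1 (commutator_mem_commutator hu hb)
theorem cB : ⁅V₀, cj e V₀⁆ ≤ V₀ ⊓ cj e V₀ := le_inf ((comm_mono h.le le_rfl).trans h.c1) (by
  rw [comm_comm]; exact (comm_mono (cj_mono h.le) le_rfl).trans h.c2)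
theorem c0B (hu : u ∈ V₀) (hb : b ∈ cj e V₀) : ⁅u, b⁆ ∈ V₀ ⊓ cj e V₀ := h.cB (commutator_mem_commutator hu hb)
theorem ID : V₀ ⊓ cj e V₀ ≤ C(V ⊔ cj e V) :=
  cent_sup ((inf_le_left.trans h.le).trans h.eV.abel) ((inf_le_right.trans (cj_mono h.le)).trans h.eV'.abel)
theorem IB : V₀ ⊓ cj e V₀ ≤ C(cj e V₀) := inf_le_right.trans h.eB.abel
theorem IV : V₀ ⊓ cj e V₀ ≤ V := inf_le_left.trans h.le
theorem eD : e ∈ V ⊔ cj e V := inv_mem_iff.1 (mem_of_sq h.odd.inv (by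
  rw [← h.inv, mul_assoc, mul_assoc, h.inv, ← mul_assoc e]
  exact mul_mem_sup h.vV (conj_mem_cj h.vV)))

theorem inj (hu : u ∈ V) (u0 : u ∉ V₀) (hb : b ∈ cj e V₀) (c : ⁅u, b⁆ ∈ V₀ ⊓ cj e V₀) : b ∈ V₀ ⊓ cj e V₀ := by
  have n : V ⊔ cj e V ≤ N(V₀ ⊓ cj e V₀) := cent_norm (cent_symm h.ID)
  have l : V ⊔ cj e V ≤ H4.commStab {b} (V₀ ⊓ cj e V₀) := sup_le
    (le_two h.two (fun x hx => ⟨n (mem_sup_left (h.le hx)), fun _ e => e ▸ h.c0B hx hb⟩) hu u0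
      ⟨n (mem_sup_left hu), fun _ e => e ▸ c⟩) fun x hx => ⟨n (mem_sup_right hx), fun _ e => by
        rw [e, commutatorElement_eq_one_iff_mul_comm.2 (comm_of_cent h.eV'.abel hx (cj_mono h.le hb))]; exact one_mem _⟩
  have : ⁅e⁻¹, b⁆ ∈ V₀ := ((l (inv_mem h.eD)).2 b rfl).1
  rw [commutatorElement_def, inv_inv] at this
  exact mem_inf.2 ⟨inv_mem_iff.1 ((mul_mem_cancel_left (mem_cj.1 hb)).1 this), hb⟩

theorem sur (hu : u ∈ V) (u0 : u ∉ V₀) (hK : ∀ b ∈ cj e V₀, ⁅u, b⁆ ∈ K) : V₀ ≤ K ⊔ V₀ ⊓ cj e V₀ := by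
  set I := V₀ ⊓ cj e V₀
  have n0 : V₀ ≤ N(I) := h.le.trans (h.eV.abel.norm h.IV)
  obtain ⟨J, hJ, cJ⟩ := homc (A := cj e V₀) (K := I) (fun b => cs I ⁅u, b⁆) (fun a ha b hb => by
      have m := h.cVB hu hb
      have m' := h.c0B m ha
      rw [commutatorElement_mul_right_eq_mul_conj, show ⁅u, a⁆ * a * ⁅u, b⁆ * a⁻¹ = ⁅u, a⁆ * (⁅⁅u, b⁆, a⁆⁻¹ * ⁅u, b⁆) by
        group, mfun_mul (n0 (h.cVB hu ha)) (n0 (mul_mem (inv_mem m'.1) m)), mfun_mul (n0 (inv_mem m'.1)) (n0 m),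
        cs_eq_one (inv_mem m'), one_mul])
    fun b hb => (cs_eq_one_iff (n0 (h.cVB hu hb))).trans ⟨h.inj hu u0 hb, fun c => by
      rw [commutatorElement_eq_one_iff_mul_comm.2 (comm_of_cent (cent_symm h.ID) (mem_sup_left hu) c)]; exact one_mem _⟩
  have l : K ⊓ V₀ ⊔ I ≤ V₀ := sup_le inf_le_right inf_le_left
  have := card_le (show J ≤ (K ⊓ V₀ ⊔ I) ⫽ I from fun y hy => by
    obtain ⟨b, hb, rfl⟩ := (hJ y).1 hy
    exact mfun_mem_mim (mem_sup_left ⟨hK b hb, h.cVB hu hb⟩))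
  rw [cJ, card_quo (l.trans n0)] at this
  have := Nat.mul_le_mul_left (Nat.card I) this
  rw [card_mul_relIndex inf_le_right, card_mul_relIndex le_sup_right, card_cj] at this
  exact (eq_of_card_ge l this).ge.trans (sup_le_sup_right inf_le_left _)

theorem faith (hb : b ∈ cj e V₀) (c : b ∈ C(V)) : b ∈ V₀ ⊓ cj e V₀ := h.inj h.vV h.v0 hb (by
  rw [commutatorElement_eq_one_iff_mul_comm.2 (mem_C.1 c v h.vV)]; exact one_mem _)

/-- step 2 -/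
theorem sol1 (hs : Solv Y) (hD : V ⊔ cj e V ≤ Y) (hx : x ∈ Y) (xN : x ∈ N(V)) (ox : PiElt {2}ᶜ x) (hb : b ∈ cj e V₀)
    (i : b * x * b = x⁻¹) : ⁅V, zpowers x⁆ ≤ V₀ := by
  by_contra nc
  have VY : V ≤ Y := le_sup_left.trans hD
  have BY : cj e V₀ ≤ Y := ((cj_mono h.le).trans le_sup_right).trans hD
  have cop : Cop (zpowers x) V := cop_of_pi' (zpowers_le.2 xN) ox.zpowers h.pV (.inr h.pV.solv)
  have key : ∀ N, N ⊴ Y → ∀ j ∈ V₀ ⊓ cj e V₀, b * j ∈ N → ∀ W ≤ V, ∀ L, ⁅W, N⁆ ≤ L → ⁅W, zpowers x⁆ ≤ L :=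
    fun N n j hj m W hW L hL => by
      have jV := h.IV hj
      have bN := h.BN hb
      have : zpowers x ≤ (N ⊓ N(V)) ⊔ C(V) := zpowers_le.2 (inv_mem_iff.1 (mem_of_sq ox.inv (by
        have m1 : b * j * (x * (b * j)⁻¹ * x⁻¹) ∈ N ⊓ N(V) := by
          have : b * j ∈ N(V) := mul_mem bN (le_N jV)
          exact mem_inf.2 ⟨mul_mem m (conj_mem n.norm hx (inv_mem m)),
            mul_mem this (mul_mem (mul_mem xN (inv_mem this)) (inv_mem xN))⟩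
        have : x⁻¹ * x⁻¹ = b * j * (x * (b * j)⁻¹ * x⁻¹) * ((x * b) * (j * (x⁻¹ * j⁻¹ * x)) * (x * b)⁻¹) := by
          have bi := inv_eq_of_mul_eq_one_right (esq h.eB hb)
          calc _ = b * x * b⁻¹ * x⁻¹ := by rw [bi, i]
            _ = _ := by rw [← bi, inv_inv]; simp only [mul_inv_rev, bi]; simp [mul_assoc, ← mul_assoc b b, esq h.eB hb]
        rw [this]
        exact mul_mem_sup m1 (h.eV.abel (conj_mem_N (mul_mem xN bN) (mul_mem jV (conj_mem_N' xN (inv_mem jV))))))))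
      refine commutator_le.2 fun w hw k hk => ?_
      obtain ⟨a, ha, c, hc, rfl⟩ := (mem_sup_of_norm (inf_le_right.trans N_le_N_C)).1 (this hk)
      rw [commutatorElement_mul_right_eq_mul_conj, commutatorElement_eq_one_iff_mul_comm.2 (mem_C.1 hc w (hW hw)),
        mul_one, mul_inv_cancel_right]
      exact hL (commutator_mem_commutator hw ha.1)
  obtain ⟨j, hj, m⟩ := sol_ind hs (fun N => ∃ j ∈ V₀ ⊓ cj e V₀, b * j ∈ N) ⟨1, one_mem _, by rw [mul_one]; exact BY hb⟩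
    fun N n ⟨j, hj, m⟩ => by
      have l1 := key N n j hj m V le_rfl N (comm_le_right (VY.trans n.norm))
      have l2 := key N n j hj m _ (comm_le_left cop.norm) _ (comm_mono l1 le_rfl)
      rw [cop.comm_comm] at l2
      obtain ⟨u, hu, u0⟩ := SetLike.not_le_iff_exists.1 nc
      have := cj_mono (g := e) (h.sur (comm_le_left cop.norm hu) u0 (K := ⁅N, N⁆) fun b hb =>
        comm_le_left (BY.trans n.der.norm) (commutator_mem_commutator (l2 hu) hb))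
      rw [cj_sup, cj_eq_self (n.der.norm (hD h.eD)), cj_eq_self_of_cent (cent_symm h.ID h.eD)] at this
      obtain ⟨a, ha, c, hc, rfl⟩ := (mem_sup_of_norm' ((h.IV.trans VY).trans n.der.norm)).1 (this hb)
      exact ⟨c⁻¹, inv_mem hc, by rwa [mul_inv_cancel_right]⟩
  refine nc ((key ⊥ .bot j hj m V le_rfl ⊥ (by simp)).trans bot_le)

end D0

/-- the configuration of step 3: `B ≤ L` acts nearly quadratically on `V > V₀ ≥ I` -/
structure NQ (L V V₀ I B : Subgroup G) : Prop where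
  eV : Elem 2 V
  LN : L ≤ N(V)
  solL : Solv L
  red : O[{2}](mim (actf V) L) = ⊥
  BL : B ≤ L
  eB : Elem 2 B
  le : V₀ ≤ V
  two : V₀.relIndex V = 2
  I0 : I ≤ V₀
  c1 : ⁅V, B⁆ ≤ V₀
  cB : ⁅V₀, B⁆ ≤ I
  IB : I ≤ C(B)
  inj : ∀ u ∈ V, u ∉ V₀ → ∀ b ∈ B, ⁅u, b⁆ ∈ I → b ∈ C(V)
  sur : ∀ u ∈ V, u ∉ V₀ → ∀ K : Subgroup G, (∀ b ∈ B, ⁅u, b⁆ ∈ K) → V₀ ≤ K ⊔ I
  card : Nat.card V₀ = Nat.card I * C(V).relIndex B
  sol1 : ∀ x ∈ L, PiElt {2}ᶜ x → ∀ b ∈ B, b * x * b = x⁻¹ → I ⊓ C1(x) ≠ ⊥ → ⁅V, zpowers x⁆ ≤ V₀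

/-- `b ∈ B` inverts the `p`-element `η` of `F(L/C_L(V))`, the hyperplane `B₁` centralizes `η` modulo `C(V)` -/
structure E1 (L V V₀ I B B₁ : Subgroup G) (b η : G) (p : ℕ) : Prop extends NQ L V V₀ I B where
  pp : p.Prime
  p2 : p ≠ 2
  ηL : η ∈ L
  pη : PiElt {p} η
  bB : b ∈ B
  iη : b * η * b = η⁻¹
  nc : η ∉ C(V)
  mem : mfun (actf V) η ∈ O[{p}](mim (actf V) L)
  le1 : B₁ ≤ B
  two1 : B₁.relIndex B = 2
  nb : b ∉ B₁
  k1 : B ⊓ C(V) ≤ B₁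
  cη : ∀ x ∈ B₁, ⁅x, η⁆ ∈ C(V)

namespace NQ
variable (h : NQ L V V₀ I B)
include h

theorem pV : PiGrp {2} V := h.eV.pi Nat.prime_two
theorem BN : B ≤ N(V) := h.BL.trans h.LN
theorem IV : I ≤ V := h.I0.trans h.le
theorem cVB (hu : u ∈ V) (hb : b ∈ B) : ⁅u, b⁆ ∈ V₀ := h.c1 (commutator_mem_commutator hu hb)
theorem c0B (hu : u ∈ V₀) (hb : b ∈ B) : ⁅u, b⁆ ∈ I := h.cB (commutator_mem_commutator hu hb)
theorem cardV : Nat.card V = Nat.card V₀ * 2 := by rw [← h.two, card_mul_relIndex h.le]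
theorem ex : ∃ v ∈ V, v ∉ V₀ := SetLike.not_le_iff_exists.1 fun l => by
  have := h.two; rw [relIndex_eq_one.2 l] at this; omega

theorem exists_E1 (hb : b ∈ B) (b0 : b ∉ C(V)) : ∃ p η B₁, E1 L V V₀ I B B₁ b η p := by
  obtain ⟨p, η, B₁, pp, p2, L, pη, i, n1, m, l, two, nb, k, c⟩ := dl (f := actf V) h.LN h.solL h.red h.BL h.eB hb
    fun c => b0 ((act_one (h.BN hb)).1 c)
  exact ⟨p, η, B₁, h, pp, p2, L, pη, hb, i, fun c => n1 ((act_one (h.LN L)).2 c), m, l, two,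
    nb, fun x hx => k x hx.1 ((act_one (h.BN hx.1)).2 hx.2), fun x hx => act_comm (h.BN (l hx)) (h.LN L) (c x hx)⟩

end NQ

namespace E1
variable (h : E1 L V V₀ I B B₁ b η p)
include h

theorem ηN : η ∈ N(V) := h.LN h.ηL
theorem oη : PiElt {2}ᶜ η := h.pη.p'_of_ne h.p2
theorem b2 : b * b = 1 := esq h.eB h.bB
theorem cop : Cop (zpowers η) V := cop_of_pi' (zpowers_le.2 h.ηN) h.oη.zpowers h.pV (.inr h.pV.solv)
theorem nK : B ≤ N(zpowers η ⊔ C(V)) := by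
  have k : ∀ x ∈ B, x * η * x⁻¹ ∈ zpowers η ⊔ C(V) → x ∈ N(zpowers η ⊔ C(V)) := fun x hx m => mem_N_of_cj_le (by
    rw [cj_sup, cj_zpowers, cj_eq_self (N_le_N_C (h.BN hx))]; exact sup_le (zpowers_le.2 m) le_sup_right)
  refine le_two h.two1 (fun x hx => k x (h.le1 hx) ?_) h.bB h.nb (k b h.bB ?_)
  · rw [show x * η * x⁻¹ = ⁅x, η⁆ * η by group]
    exact mul_mem (mem_sup_right (h.cη x hx)) (mem_sup_left (mem_zpowers η))
  · rw [inv_eq_of_mul_eq_one_right h.b2, h.iη]; exact mem_sup_left (inv_mem (mem_zpowers η))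
theorem BC : B ≤ N(V ⊓ C1(η)) := by
  have : V ⊓ C1(η) = V ⊓ C(zpowers η ⊔ C(V)) := by
    rw [C_sup, C_zpowers, ← inf_assoc, inf_right_comm, inf_eq_left.2 (cent_symm le_rfl : V ≤ C(C(V)))]
  rw [this]; exact norm_inf h.BN (norm_C h.nK)
theorem BW : B ≤ N(⁅V, zpowers η⁆) := by
  have : ⁅V, zpowers η⁆ = ⁅V, zpowers η ⊔ C(V)⁆ := le_antisymm (comm_mono le_rfl le_sup_left)
    (comm_sup_le' le_rfl ((comm_eq_bot_iff.2 (cent_symm le_rfl)).le.trans bot_le) norm_comm_right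
      (cent_norm (C_anti (comm_le_left h.cop.norm))))
  rw [this]; exact norm_comm h.BN h.nK
theorem CV0 : V ⊓ C1(η) ≤ V₀ := fun u hu => by
  by_contra u0
  have l := le_two h.two (h.sur u hu.1 u0 _ fun b hb => comm_le_left h.BC (commutator_mem_commutator hu hb)) hu.1 u0
    (mem_sup_left hu)
  have n : η ∈ N(V ⊓ C1(η)) := norm_inf (zpowers_le.2 h.ηN) (norm_C1 (zpowers_le.2 C1_self)) (mem_zpowers η)
  have m : b ∈ H4.commStab V (V ⊓ C1(η)) := ⟨h.BC h.bB, fun a ha => by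
    obtain ⟨x, hx, y, hy, rfl⟩ := (mem_sup_of_cent (cent_mono h.eV.abel inf_le_left h.IV)).1 (l ha)
    rw [commutatorElement_mul_right_eq_mul_conj, commutatorElement_eq_one_iff_mul_comm.2 (mem_C.1 (h.IB hy) b h.bB),
      mul_one, mul_inv_cancel_right]
    exact comm_le_right h.BC (commutator_mem_commutator h.bB hx)⟩
  have m' : η * b * η⁻¹ ∈ H4.commStab V (V ⊓ C1(η)) := ⟨mul_mem (mul_mem n m.1) (inv_mem n), fun a ha => by
    have := conj_mem_N n (m.2 _ (conj_mem_N' h.ηN ha))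
    rwa [conjugate_commutatorElement, show η * (η⁻¹ * a * η) * η⁻¹ = a by group] at this⟩
  have := inv_mem_iff.1 (mem_of_sq h.oη.inv (K := H4.commStab V (V ⊓ C1(η))) (by
    have := mul_mem m m'; rwa [← mul_assoc, ← mul_assoc, h.iη] at this))
  have := (H4.le_commStab_iff.1 (zpowers_le.2 this)).2
  rw [comm_comm] at this
  exact h.nc (cent_symm (h.cop.cent_of_comm_cent (this.trans (inf_le_right.trans C_zpowers.ge))) (mem_zpowers η))
theorem WV0 : ¬ ⁅V, zpowers η⁆ ≤ V₀ := fun l => by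
  obtain ⟨v, vV, v0⟩ := h.ex
  exact v0 (h.cop.comm_sup.ge.trans (sup_le l ((inf_le_inf_left _ C_zpowers.le).trans h.CV0)) vV)
theorem IC : I ⊓ C1(η) = ⊥ := by
  by_contra c
  exact h.WV0 (h.sol1 η h.ηL h.oη b h.bB h.iη c)
theorem CB : V ⊓ C1(η) ≤ C(B) := comm_eq_bot_iff.1 (eq_bot_iff.2 (le_trans (le_inf
  ((comm_mono h.CV0 le_rfl).trans h.cB) ((comm_le_left h.BC).trans inf_le_right)) h.IC.le))
theorem nV0 : η ∉ N(V₀) := fun n => h.WV0 (commutator_le.2 fun u hu k hk => by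
  have nk := zpowers_le.2 n hk
  rw [commutatorElement_def, mul_assoc, mul_assoc, ← mul_assoc k]
  by_cases u0 : u ∈ V₀
  · exact mul_mem u0 (conj_mem_N nk (inv_mem u0))
  · exact mul_two h.two hu (conj_mem h.cop.norm hk (inv_mem hu)) u0 fun c => u0 (inv_mem_iff.1 (by
      simpa [mul_assoc] using conj_mem_N' nk c)))
theorem idxB : C(V).relIndex B = C(V).relIndex B₁ * 2 := by
  rw [← h.two1, ← inf_relIndex_right C(V) B, ← relIndex_mul_relIndex _ _ _ ((inf_comm _ _).le.trans h.k1) h.le1,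
    ← inf_relIndex_right C(V) B₁, ← inf_relIndex_right (C(V) ⊓ B) B₁, inf_assoc, inf_eq_right.2 h.le1]

/-- the transvection case -/
theorem tv (l : B₁ ≤ C(V)) : V₀ ≤ C1(b) ∧ Nat.card V₀ = Nat.card I * 2 ∧ Nat.card ↥(V ⊓ C1(η)) = Nat.card I ∧
    Nat.card I ≤ 2 := by
  obtain ⟨v, vV, v0⟩ := h.ex
  have c0 := h.card
  rw [h.idxB, relIndex_eq_one.2 l, one_mul] at c0
  have m := h.cVB vV h.bB
  have lb : V₀ ≤ C1(b) := le_two (relIndex_eq_of_mul h.I0 c0) (h.IB.trans (C_le_C1 h.bB)) m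
    (fun c => h.nb (h.k1 ⟨h.bB, h.inj v vV v0 b h.bB c⟩)) (mem_C1.2 (by
      conv_rhs => rw [← eiv h.eV (h.le m), commutatorElement_inv]
      simp only [commutatorElement_def, inv_eq_of_mul_eq_one_right h.b2, eiv h.eV vV, ← mul_assoc, h.b2, one_mul]
      rw [mul_assoc, h.b2, mul_one]))
  have c1 := pair_card h.oη h.b2 h.iη lb h.le h.ηN
  have c2 := card_mul_le h.I0 h.CV0
  rw [inf_left_comm, h.IC, inf_bot_eq, card_bot, one_mul] at c2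
  have c3 := card_mod h.pη.zpowers h.pp h.cop.norm
  rw [C_zpowers] at c3
  rw [h.cardV] at c1 c3
  have d := card_pos' (H := I)
  have d' := card_pos' (H := V ⊓ C1(η))
  have c4 : Nat.card I ≤ Nat.card ↥(V ⊓ C1(η)) := by nlinarith
  have c5 : Nat.card ↥(V ⊓ C1(η)) ≤ 2 := by nlinarith
  refine ⟨lb, c0, ?_, c4.trans c5⟩
  by_contra c
  rw [c0, show Nat.card I = 1 by omega, show Nat.card ↥(V ⊓ C1(η)) = 2 by omega] at c3
  exact h.p2 ((Nat.prime_dvd_prime_iff_eq h.pp Nat.prime_two).1 ((Nat.modEq_iff_dvd' (by norm_num)).1 c3.symm))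

theorem cj_eq (hs : s ∈ B₁) (hu : u ∈ V) : η * ⁅u, s⁆ * η⁻¹ = ⁅η * u * η⁻¹, s⁆ := by
  rw [conjugate_commutatorElement, show η * s * η⁻¹ = ⁅s, η⁆⁻¹ * s by group,
    cc (conj_mem_N h.ηN hu) (h.BN (h.le1 hs)) (inv_mem (h.cη s hs))]
theorem nU (hs : s ∈ B₁) : η ∈ N(V ⊓ C1(s)) := mem_N_of_finite fun u hu => ⟨conj_mem_N h.ηN hu.1, mem_C1.2 (by
  rw [← commutatorElement_eq_one_iff_mul_comm, ← h.cj_eq hs hu.1,
    commutatorElement_eq_one_iff_mul_comm.2 (mem_C1.1 hu.2)]; simp)⟩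

theorem main (hs : s ∈ B₁) (s0 : s ∉ C(V)) : p = 3 ∧ V ⊓ C1(η) = ⊥ ∧ Nat.card V = Nat.card ↥(V ⊓ C1(s)) * 4 ∧
    Nat.card ↥(V ⊓ C1(s)) = Nat.card I * Nat.card I := by
  obtain ⟨v, vV, v0⟩ := h.ex
  have sB := h.le1 hs
  have hom : ∀ u ∈ V, ∀ w ∈ V, ⁅u * w, s⁆ = ⁅u, s⁆ * ⁅w, s⁆ := fun u hu w hw => by
    rw [commutatorElement_mul_left_eq_conj_mul, ecv h.eV hu (h.le (h.cVB hw sB)), mul_inv_cancel_right,
      ecv h.eV (h.le (h.cVB hw sB)) (h.le (h.cVB hu sB))]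
  obtain ⟨J, hJ, cJ⟩ := homc (A := V) (K := C1(s)) (fun u => ⁅u, s⁆) hom
    fun u _ => commutatorElement_eq_one_iff_mul_comm.trans mem_C1.symm
  have nJ : η ∈ N(J) := mem_N_of_finite fun y hy => by
    obtain ⟨u, hu, rfl⟩ := (hJ y).1 hy
    exact (hJ _).2 ⟨_, conj_mem_N h.ηN hu, (h.cj_eq hs hu).symm⟩
  have JC : J ⊓ C1(η) = ⊥ := eq_bot_iff.2 (le_trans (inf_le_inf (fun y hy => by
    obtain ⟨u, hu, rfl⟩ := (hJ y).1 hy
    obtain ⟨a, ha, c, hc, rfl⟩ := h.cop.exists_mul hu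
    have e : ⁅c, s⁆ = 1 := commutatorElement_eq_one_iff_mul_comm.2 (mem_C.1 (h.CB ⟨hc.1, C_zpowers.le hc.2⟩) s sB).symm
    rw [hom a (comm_le_left h.cop.norm ha) c hc.1, e, mul_one]
    exact comm_le_left h.BW (commutator_mem_commutator ha sB)) C_zpowers.ge)
    (abel_comm_inf_cent h.eV.abel h.cop.norm h.cop.cop).le)
  have nI : ∀ u ∈ V, u ∉ V₀ → ⁅u, s⁆ ∉ I := fun u hu u0 c => s0 (h.inj u hu u0 s sB c)
  have i2 : I.relIndex J = 2 := relIndex_eq_two_iff.2 ⟨_, (hJ _).2 ⟨v, vV, rfl⟩, fun y hy => by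
    obtain ⟨u, hu, rfl⟩ := (hJ y).1 hy
    rw [← hom u hu v vV]
    by_cases u0 : u ∈ V₀
    · exact .inr ⟨h.c0B u0 sB, nI _ (mul_mem hu vV) fun c => v0 ((mul_mem_cancel_left u0).1 c)⟩
    · exact .inl ⟨h.c0B (mul_two h.two hu vV u0 v0) sB, nI u hu u0⟩⟩
  have c1 := pair_card h.oη h.b2 h.iη ((inf_le_left : I ⊓ J ≤ I).trans (h.IB.trans (C_le_C1 h.bB))) inf_le_right nJ
  have c2 := card_mul_relIndex' (A := I) (B := J)
  have c3 := card_mod h.pη.zpowers h.pp (zpowers_le.2 nJ)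
  rw [C_zpowers, JC, card_bot] at c3
  rw [JC, card_bot, one_mul] at c1
  rw [i2] at c2
  have c4 : Nat.card J = 4 := by
    have := card_pos' (H := I ⊓ J)
    have c5 : Nat.card ↥(I ⊓ J) ≤ 2 := by nlinarith
    by_contra c
    rw [show Nat.card J = 2 by omega] at c3
    exact h.pp.one_lt.ne' (Nat.dvd_one.1 ((Nat.modEq_iff_dvd' one_le_two).1 c3.symm))
  rw [c4] at c3
  have cV : Nat.card V = Nat.card ↥(V ⊓ C1(s)) * 4 := by rw [← c4, cJ, inf_comm, card_mul_relIndex']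
  obtain ⟨w, hw, w0⟩ := SetLike.not_le_iff_exists.1 fun c => h.nV0 (inv_mem_iff.1 (mem_N_of_cj_le (g := η⁻¹) c))
  have wV : w ∈ V := cj_le_of_mem_N h.le (inv_mem h.ηN) hw
  rw [mem_cj, inv_inv] at hw
  obtain ⟨T, hT, cT⟩ := homc (A := B₁) (K := C(V)) (fun x => ⁅η * w * η⁻¹, x⁆) (fun x hx y hy => by
      rw [commutatorElement_mul_right_eq_mul_conj, mul_assoc _ x, mem_C.1 (h.IB (h.c0B hw (h.le1 hy))) x (h.le1 hx)]
      group)
    fun x hx => by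
      rw [← h.cj_eq hx wV, conj_eq_one_iff]
      exact ⟨fun c => h.inj w wV w0 x (h.le1 hx) (c ▸ one_mem _),
        fun c => commutatorElement_eq_one_iff_mul_comm.2 (mem_C.1 c w wV)⟩
  have c5 := card_le (show T ≤ I from fun y hy => by
    obtain ⟨x, hx, rfl⟩ := (hT y).1 hy
    exact h.c0B hw (h.le1 hx))
  have CU : V ⊓ C1(η) ≤ V ⊓ C1(s) := le_inf inf_le_left (h.CB.trans (C_le_C1 sB))
  have c7 := pair_card h.oη h.b2 h.iη (sup_le (h.IB.trans (C_le_C1 h.bB)) (h.CB.trans (C_le_C1 h.bB)))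
    (sup_le (le_inf h.IV (h.IB.trans (C_le_C1 sB))) CU) (h.nU hs)
  rw [card_sup_of_cent (cent_mono h.eV.abel h.IV inf_le_left) (by rw [inf_left_comm, h.IC, inf_bot_eq]),
    show V ⊓ C1(s) ⊓ C1(η) = V ⊓ C1(η) from le_antisymm (inf_le_inf_right _ inf_le_left) (le_inf CU inf_le_right)] at c7
  have c8 := h.cardV
  have c9 := h.card
  have d1 := card_pos' (H := V ⊓ C1(η))
  have d2 := card_pos' (H := I)
  rw [h.idxB, ← cT] at c9
  generalize Nat.card I = i at *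
  generalize Nat.card ↥(V ⊓ C1(s)) = U at *
  have d3 : U ≤ i * i := by nlinarith
  have d4 : i * i * Nat.card ↥(V ⊓ C1(η)) ≤ U := by nlinarith
  have d5 : Nat.card ↥(V ⊓ C1(η)) = 1 := by
    have := d4.trans d3
    have := Nat.mul_pos d2 d2
    nlinarith
  refine ⟨((Nat.prime_dvd_prime_iff_eq h.pp Nat.prime_three).1 ((Nat.modEq_iff_dvd' (by norm_num)).1 c3.symm)),
    card_eq_one.1 d5, cV, by rw [d5] at d4; omega⟩

end E1

/-- the case `|V| = 16` -/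
structure E2 (L V V₀ I B B₁ : Subgroup G) (b η s : G) : Prop extends E1 L V V₀ I B B₁ b η 3 where
  sB : s ∈ B₁
  s0 : s ∉ C(V)
  fpf : V ⊓ C1(η) = ⊥
  cardI : Nat.card I = 2
  cardU : Nat.card ↥(V ⊓ C1(s)) = 4
  card0 : Nat.card V₀ = 8

/-- step 3 -/
theorem NQ.cases (h : NQ L V V₀ I B) (hb : b ∈ B) (b0 : b ∉ C(V)) :
    (∃ p η B₁, E1 L V V₀ I B B₁ b η p ∧ B₁ ≤ C(V)) ∨ ∃ η B₁ s, E2 L V V₀ I B B₁ b η s := by
  obtain ⟨p, η, B₁, k⟩ := h.exists_E1 hb b0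
  refine (em (B₁ ≤ C(V))).imp (fun l => ⟨p, η, B₁, k, l⟩) fun l => ?_
  have i1 : C(V).relIndex B₁ ≠ 1 := fun c => l (relIndex_eq_one.1 c)
  obtain ⟨s, hs, s0⟩ := SetLike.not_le_iff_exists.1 l
  obtain ⟨rfl, c1, c2, c3⟩ := k.main hs s0
  obtain ⟨p', η', B', k'⟩ := h.exists_E1 (k.le1 hs) s0
  obtain ⟨s', hs', s0'⟩ := SetLike.not_le_iff_exists.1 fun l' : B' ≤ C(V) => i1 (by
    have := k'.idxB
    rw [k.idxB, relIndex_eq_one.2 l'] at this; omega)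
  have c4 := pair_card k'.oη k'.b2 k'.iη (inf_le_right : V ⊓ C1(s) ≤ _) inf_le_left k'.ηN
  rw [(k'.main hs' s0').2.1, card_bot, one_mul] at c4
  have c5 := h.card
  have c6 := h.cardV
  have d := card_pos' (H := I)
  have c7 : Nat.card ↥(V ⊓ C1(s)) ≤ 4 := by nlinarith
  have c8 : Nat.card I ≤ 2 := by nlinarith
  have c9 : Nat.card I = 2 := by
    by_contra c
    rw [k.idxB] at c5
    rw [show Nat.card I = 1 by omega] at c3 c5
    omega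
  rw [c9] at c3
  exact ⟨η, B₁, s, k, hs, s0, c1, c9, c3, by omega⟩

namespace E2
variable (h : E2 L V V₀ I B B₁ b η s)
include h

theorem IU : I ≤ V ⊓ C1(s) := le_inf h.IV (h.IB.trans (C_le_C1 (h.le1 h.sB)))
theorem Ub : V ⊓ C1(s) ⊓ C1(b) = I := by
  have := pair_card h.oη h.b2 h.iη (inf_le_right : V ⊓ C1(s) ⊓ C1(b) ≤ _) inf_le_left (h.nU h.sB)
  rw [inf_right_comm V C1(s) C1(η), h.fpf, bot_inf_eq, card_bot, h.cardU] at this
  exact (eq_of_card_ge (le_inf h.IU (h.IB.trans (C_le_C1 h.bB))) (by rw [h.cardI]; nlinarith)).symm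
theorem CB_eq : V ⊓ C(B) = I := le_antisymm
  (h.Ub ▸ le_inf (inf_le_inf_left _ (C_le_C1 (h.le1 h.sB))) (inf_le_right.trans (C_le_C1 h.bB))) (le_inf h.IV h.IB)
theorem UV0 : V ⊓ C1(s) ≤ V₀ := fun u hu => by
  by_contra u0
  exact h.s0 (h.inj u hu.1 u0 s (h.le1 h.sB) (commutatorElement_eq_one_iff_mul_comm.2 (mem_C1.1 hu.2) ▸ one_mem _))
theorem card16 : Nat.card V = 16 := by rw [h.cardV, h.card0]

end E2
end H9.FB
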