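import Cfsg.Agent.H9.MS3
import Cfsg.Agent.H2.IdD
import Cfsg.Agent.S0810
import Cfsg.Agent.S0494

/-! Minimal simple groups with three prime divisors (`three_primes`), and non-nilpotent `ℓ'`-subgroups (`ML.nn`, `nil_crit`). -/

set_option autoImplicit false

namespace H9
open Subgroup H18 Cfsg H10
open scoped MatrixGroups
universe u
namespace MSi

theorem two_three {i j : ℕ} (h : 2 ^ i + 1 = 3 ^ j) : i = 1 ∨ i = 3 := by
  obtain ⟨k, rfl | rfl⟩ := Nat.even_or_odd' j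
  · have e : (3 ^ k - 1) * (3 ^ k + 1) = 2 ^ i := by
      obtain ⟨a, ha⟩ : ∃ a, 3 ^ k = a + 1 := ⟨3 ^ k - 1, by have := Nat.one_le_pow k 3 (by norm_num); omega⟩
      rw [pow_mul', ha] at h
      rw [ha, Nat.add_sub_cancel]
      linarith
    obtain ⟨a, -, ha⟩ := (Nat.dvd_prime_pow Nat.prime_two).1 (Dvd.intro _ e)
    obtain ⟨b, -, hb⟩ := (Nat.dvd_prime_pow Nat.prime_two).1 (Dvd.intro_left _ e)
    have : 3 ^ k - 1 = 2 ∧ 3 ^ k + 1 = 4 := by
      have := Nat.one_le_pow k 3 (by norm_num)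
      have : 3 ^ k % 2 = 1 := by simp [Nat.pow_mod]
      have := Nat.two_pow_pos a
      generalize 3 ^ k = z at *
      obtain _ | _ | a := a <;> obtain _ | _ | b := b <;> omega
    rw [this.1, this.2] at e
    exact Or.inr (Nat.pow_right_injective le_rfl (e.symm.trans (by norm_num : 2 * 4 = 2 ^ 3)))
  · have : 3 ^ (2 * k + 1) % 8 = 3 := by rw [pow_succ, pow_mul]; simp [Nat.mul_mod, Nat.pow_mod]
    obtain _ | _ | _ | i := i <;> omega

theorem three_two {i j : ℕ} (h : 3 ^ j + 1 = 2 ^ i) : j = 0 ∨ j = 1 := by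
  have : 3 ^ j % 8 = 1 ∨ 3 ^ j % 8 = 3 := by
    obtain ⟨k, rfl | rfl⟩ := Nat.even_or_odd' j
    · rw [pow_mul]; simp [Nat.pow_mod]
    · rw [pow_succ, pow_mul]; simp [Nat.mul_mod, Nat.pow_mod]
  obtain _ | _ | j := j
  exacts [Or.inl rfl, Or.inr rfl, by obtain _ | _ | _ | i := i <;> omega]

theorem smooth {a : ℕ} (h0 : a ≠ 0) (h1 : PiNat {2, 3} a) (h2 : PiNat {2, 3} (a + 1)) : a = 1 ∨ a = 2 ∨ a = 3 ∨ a = 8 := by
  have k2 : ∀ n, n ≠ 0 → PiNat {2, 3} n → ¬ 3 ∣ n → ∃ i, n = 2 ^ i := fun n n0 h c =>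
    PiNat.eq_pow (fun r hr d => (h r hr d).resolve_right fun e => c (e ▸ d)) n0
  have k3 : ∀ n, n ≠ 0 → PiNat {2, 3} n → ¬ 2 ∣ n → ∃ i, n = 3 ^ i := fun n n0 h c =>
    PiNat.eq_pow (fun r hr d => (h r hr d).resolve_left fun e => c (e ▸ d)) n0
  by_cases e : 2 ∣ a
  · obtain ⟨j, hj⟩ := k3 _ (by omega) h2 (by omega)
    obtain ⟨i, rfl⟩ := k2 _ h0 h1 (by obtain _ | j := j <;> omega)
    rcases two_three hj with rfl | rfl <;> simp
  · obtain ⟨j, rfl⟩ := k3 _ h0 h1 e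
    obtain _ | j := j
    · simp
    obtain ⟨i, hi⟩ := k2 _ (by omega) h2 (by omega)
    rcases three_two hi with e | e <;> simp [e]

theorem four_primes {n a b c d : ℕ} (h : n.primeFactors.card ≤ 3) (n0 : n ≠ 0) (ha : a.Prime) (hb : b.Prime) (hc : c.Prime)
    (hd : d.Prime) (a1 : a ∣ n) (b1 : b ∣ n) (c1 : c ∣ n) (d1 : d ∣ n) (ab : a ≠ b) (ac : a ≠ c) (ad : a ≠ d) (bc : b ≠ c)
    (bd : b ≠ d) : c = d := by
  by_contra cd
  have := Finset.card_le_card (s := {a, b, c, d}) (t := n.primeFactors) (by simp [Finset.insert_subset_iff, *])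
  rw [Finset.card_insert_of_notMem (by simp [*]), Finset.card_insert_of_notMem (by simp [*]), Finset.card_pair cd] at this
  omega

variable {G : Type*} [Group G]

theorem ms_congr {H : Type*} [Group H] (h : IsMinimalSimple G) (e : G ≃* H) : IsMinimalSimple H := by
  have := h.1
  refine ⟨e.symm.isSimpleGroup, fun c => h.2.1 ⟨⟨fun a b => e.injective (by simp [c.1.1 (e a)])⟩⟩, fun K hK => ?_⟩
  have := h.2.2 (K.comap e.toMonoidHom) fun c => hK (comap_injective (f := e.toMonoidHom) e.surjective (c.trans (comap_top _).symm))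
  exact Group.isSolvable_of_surjective (e.toMonoidHom.subgroupComap_surjective_of_surjective K e.surjective)

theorem psl_four {F : Type*} [Field F] [Fintype F] (h : Fintype.card F = 4) : Nonempty (PSL(2, F) ≃* PSL(2, ZMod 5)) := by
  have := Fact.mk Nat.prime_five
  have := H27.simple_PSL h.ge
  have := H27.simple_PSL (F := ZMod 5) (by simp)
  obtain ⟨a⟩ := Cfsg.Agent.S0494.result (card_PSL2_of 60 h (by norm_num))
  obtain ⟨b⟩ := Cfsg.Agent.S0494.result (card_PSL2_of 60 (ZMod.card 5) (by norm_num))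
  exact ⟨a.trans b.symm⟩

theorem psl_three {F : Type*} [Field F] [Fintype F] (h : IsMinimalSimple PSL(2, F)) (h3 : (Nat.card PSL(2, F)).primeFactors.card ≤ 3) :
    Fintype.card F = 4 ∨ Fintype.card F = 5 ∨ Fintype.card F = 7 ∨ Fintype.card F = 8 ∨ Fintype.card F = 17 := by
  have c := card_PSL2 (F := F)
  have n0 : Nat.card PSL(2, F) ≠ 0 := Nat.card_pos.ne'
  have l := (Cfsg.Agent.S0810.result rfl).1 h
  generalize Nat.card PSL(2, F) = n, Fintype.card F = q at c n0 l h3 ⊢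
  have k : ∀ r : ℕ, r.Prime → r ≠ 2 → r ∣ q * (q - 1) * (q + 1) → r ∣ n := fun r hr r2 d =>
    (hr.dvd_mul.1 (c ▸ d)).resolve_left fun e => r2 ((Nat.prime_dvd_prime_iff_eq hr Nat.prime_two).1 (e.trans (Nat.gcd_dvd_left _ _)))
  have k1 : ∀ r : ℕ, r.Prime → r ≠ 2 → r ∣ q → r ∣ n := fun r hr r2 d => k r hr r2 ((d.mul_right _).mul_right _)
  have k2 : ∀ r : ℕ, r.Prime → r ≠ 2 → r ∣ q - 1 → r ∣ n := fun r hr r2 d => k r hr r2 ((d.mul_left _).mul_right _)
  have k3 : ∀ r : ℕ, r.Prime → r ≠ 2 → r ∣ q + 1 → r ∣ n := fun r hr r2 d => k r hr r2 (d.mul_left _)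
  have cop : 1 ≤ q → ∀ r : ℕ, r.Prime → r ∣ q - 1 → r ∣ q + 1 → r = 2 := fun q1 r hr a b =>
    (Nat.prime_dvd_prime_iff_eq hr Nat.prime_two).1 (by simpa [show q + 1 - (q - 1) = 2 by omega] using Nat.dvd_sub b a)
  have ev : 3 ≤ q → q % 2 = 1 → 2 ∣ n := fun q3 o => by
    obtain ⟨a, rfl⟩ : ∃ a, q = 2 * a + 1 := ⟨q / 2, by omega⟩
    rw [Nat.add_sub_cancel, Nat.gcd_mul_right_right, mul_comm _ (2 * a), mul_assoc, mul_assoc] at c
    exact (Nat.eq_of_mul_eq_mul_left two_pos c).symm ▸ ((by omega : 2 ∣ 2 * a + 1 + 1).mul_left _).mul_left _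
  have odd : 5 ≤ q → q.Prime → q = 4 ∨ q = 5 ∨ q = 7 ∨ q = 8 ∨ q = 17 := fun q5 hq => by
    have o := hq.eq_two_or_odd.resolve_left (by omega)
    have t : ¬ 3 ∣ q := fun d => by have := (Nat.prime_dvd_prime_iff_eq Nat.prime_three hq).1 d; omega
    have t3 : 3 ∣ n := by
      by_cases e : 3 ∣ q + 1
      exacts [k3 3 Nat.prime_three (by norm_num) e, k2 3 Nat.prime_three (by norm_num) (by clear ev o; omega)]
    have s : ∀ r : ℕ, r.Prime → (r ∣ q - 1 ∨ r ∣ q + 1) → r = 2 ∨ r = 3 := fun r hr d => by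
      by_contra! e
      obtain rfl := four_primes h3 n0 Nat.prime_two Nat.prime_three hr hq (ev (by omega) o) t3
        (d.elim (k2 r hr e.1) (k3 r hr e.1)) (k1 q hq (by omega) dvd_rfl) (by norm_num) e.1.symm (by omega) e.2.symm (by omega)
      rcases d with d | d
      exacts [by have := Nat.le_of_dvd (by omega) d; omega, hr.not_dvd_one ((Nat.dvd_add_right dvd_rfl).1 d)]
    obtain ⟨a, rfl⟩ : ∃ a, q = 2 * a + 1 := ⟨q / 2, by omega⟩
    have := smooth (a := a) (by omega) (fun r hr d => s r hr (Or.inl (by simpa using d.mul_left 2)))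
      fun r hr d => s r hr (Or.inr (by simpa [mul_add] using d.mul_left 2))
    omega
  rcases l with ⟨r, hr, rfl⟩ | ⟨r, hr, r2, rfl⟩ | ⟨hq, q5, -⟩ | rfl
  · rcases hr.eq_two_or_odd' with rfl | ⟨r, rfl⟩
    · simp
    have r1 : r ≠ 0 := by rintro rfl; exact Nat.not_prime_one hr
    have e : 2 ^ (2 * r + 1) % 3 = 2 := by rw [pow_succ, pow_mul]; simp [Nat.mul_mod, Nat.pow_mod]
    have e2 : 2 ∣ 2 ^ (2 * r + 1) := dvd_pow_self _ (by omega)
    have e8 : 2 ^ 3 ≤ 2 ^ (2 * r + 1) := Nat.pow_le_pow_right two_pos (by omega)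
    have pi : PiNat {2, 3} (2 ^ (2 * r + 1)) := (piNat_pow_self Nat.prime_two _).sub (by simp)
    generalize 2 ^ (2 * r + 1) = q at *
    have t2 : 2 ∣ n := by
      rw [Nat.coprime_iff_gcd_eq_one.1 (Nat.prime_two.coprime_iff_not_dvd.2 (by omega)), one_mul] at c
      exact c ▸ (e2.mul_right _).mul_right _
    obtain ⟨s, hs, ds⟩ := Nat.exists_prime_and_dvd (n := q - 1) (by omega)
    have := smooth (a := q) (by omega) pi fun v hv d => by
      by_contra! e
      simp only [Set.mem_insert_iff, Set.mem_singleton_iff, not_or] at e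
      have s2 : s ≠ 2 := by rintro rfl; omega
      obtain rfl := four_primes h3 n0 Nat.prime_two Nat.prime_three hs hv t2 (k3 3 Nat.prime_three (by norm_num) (by omega))
        (k2 s hs s2 ds) (k3 v hv e.1 d) (by norm_num) s2.symm (Ne.symm e.1) (by rintro rfl; omega) (Ne.symm e.2)
      exact s2 (cop (by omega) s hs ds d)
    omega
  · obtain ⟨r, rfl⟩ := hr.eq_two_or_odd'.resolve_left r2
    have r1 : r ≠ 0 := by rintro rfl; exact Nat.not_prime_one hr
    have e : 3 ^ (2 * r + 1) % 8 = 3 := by rw [pow_succ, pow_mul]; simp [Nat.mul_mod, Nat.pow_mod]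
    have e3 : 3 ∣ 3 ^ (2 * r + 1) := dvd_pow_self _ (by omega)
    have e8 : 3 ^ 3 ≤ 3 ^ (2 * r + 1) := Nat.pow_le_pow_right (by norm_num) (by omega)
    generalize 3 ^ (2 * r + 1) = q at *
    obtain ⟨s, hs, ds⟩ := Nat.exists_prime_and_dvd (n := (q - 1) / 2) (by omega)
    obtain ⟨v, hv, dv⟩ := Nat.exists_prime_and_dvd (n := (q + 1) / 4) (by omega)
    have s2 : s ≠ 2 := by rintro rfl; omega
    have v2 : v ≠ 2 := by rintro rfl; omega
    have ds' : s ∣ q - 1 := ds.trans (Nat.div_dvd_of_dvd (by omega))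
    have dv' : v ∣ q + 1 := dv.trans (Nat.div_dvd_of_dvd (by omega))
    obtain rfl := four_primes h3 n0 Nat.prime_two Nat.prime_three hs hv (ev (by omega) (by omega))
      (k1 3 Nat.prime_three (by norm_num) e3) (k2 s hs s2 ds') (k3 v hv v2 dv') (by norm_num) s2.symm v2.symm
      (by rintro rfl; omega) (by rintro rfl; omega)
    exact absurd (cop (by omega) s hs ds' dv') s2
  · exact odd q5.le hq
  · simp

open H13 H13.Sz in
theorem sz_four {F : Type*} [Field F] [Fintype F] {m : ℕ} [IsSz F m] : ¬ (Nat.card (Cfsg.Sz F m)).primeFactors.card ≤ 3 := fun h => by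
  have := eight_le_card (F := F)
  have := (ell_t1 (F := F)).five_le
  have := (ell_t2 (F := F)).five_le
  obtain ⟨s, hs, ds⟩ := Nat.exists_prime_and_dvd (n := Fintype.card F - 1) (by omega)
  obtain ⟨a, ha, da⟩ := Nat.exists_prime_and_dvd (n := Nat.card C1(t1 F m)) (by omega)
  obtain ⟨b, hb, db⟩ := Nat.exists_prime_and_dvd (n := Nat.card C1(t2 F m)) (by omega)
  have da' := da.trans ell_t1.card_centralizer_dvd
  have db' := db.trans ell_t2.card_centralizer_dvd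
  have o : ∀ r, r ∣ Fintype.card F ^ 2 + 1 → 2 ≠ r := by
    rintro _ d rfl
    exact (Nat.not_even_iff_odd.2 odd_card_sq_add_one) (even_iff_two_dvd.2 d)
  have c : ∀ r, r ∣ Fintype.card F ^ 2 + 1 → s ≠ r := by
    rintro _ d rfl
    exact hs.one_lt.ne' (Nat.eq_one_of_dvd_coprimes coprime_sub_add ds d)
  obtain rfl := four_primes h Nat.card_pos.ne' Nat.prime_two hs ha hb
    ((orderOf_u_zero (m := m) (one_ne_zero (α := F))) ▸ orderOf_dvd_natCard _) (by rw [card_Sz]; exact ds.mul_left _)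
    (da.trans (card_subgroup_dvd_card _)) (db.trans (card_subgroup_dvd_card _))
    (by rintro rfl; exact (Nat.not_even_iff_odd.2 odd_card_sub_one) (even_iff_two_dvd.2 ds)) (o a da') (o b db') (c a da') (c b db')
  exact ha.one_lt.ne' (Nat.eq_one_of_dvd_coprimes (ell_t1.coprime ell_t2 fun e =>
    Set.disjoint_left.1 disjoint_T e ell_t2.self_mem_conjUnion) da db)

theorem three_primes (h : IsMinimalSimple G) (l : ML G) (h3 : (Nat.card G).primeFactors.card ≤ 3) :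
    (∃ (F : Type) (_ : Field F) (_ : Fintype F), (Fintype.card F = 5 ∨ Fintype.card F = 7 ∨ Fintype.card F = 8 ∨
      Fintype.card F = 17) ∧ Nonempty (G ≃* PSL(2, F))) ∨ Nonempty (G ≃* PSL(3, ZMod 3)) := by
  rcases l with ⟨F, _, _, -, ⟨e⟩⟩ | l | l
  · rcases psl_three (ms_congr h e) (Nat.card_congr e.toEquiv ▸ h3) with k | k
    · have := Fact.mk Nat.prime_five
      obtain ⟨f⟩ := psl_four k
      exact Or.inl ⟨ZMod 5, _, _, Or.inl (ZMod.card 5), ⟨e.trans f⟩⟩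
    · exact Or.inl ⟨F, _, _, k, ⟨e⟩⟩
  · exact Or.inr l
  · obtain ⟨F, _, _, m, _, ⟨e⟩⟩ := H27.isoSuzuki_iff.1 l
    exact absurd (Nat.card_congr e.toEquiv ▸ h3) sz_four

/-- a solvable non-nilpotent `ℓ'`-subgroup -/
def NN (ℓ : ℕ) (G : Type*) [Group G] : Prop := ∃ K : Subgroup G, Solv K ∧ ¬ ℓ ∣ Nat.card K ∧ ¬ Nil K

variable {ℓ : ℕ}

theorem NN.map {H : Type*} [Group H] (h : NN ℓ G) (f : G →* H) (hf : Function.Injective f) : NN ℓ H := by
  obtain ⟨K, h1, h2, h3⟩ := h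
  have e := K.equivMapOfInjective f hf
  exact ⟨K.map f, Group.isSolvable_of_surjective (f := e.toMonoidHom) e.surjective, Nat.card_congr e.toEquiv ▸ h2,
    fun _ => h3 (Group.nilpotent_of_mulEquiv e.symm)⟩

theorem nn_of [Finite G] (hℓ : ℓ.Prime) {a : G} {T : Subgroup G} (n : a ∈ N(T)) (hT : Solv T) (h1 : ¬ ℓ ∣ orderOf a)
    (h2 : ¬ ℓ ∣ Nat.card T) (c : (orderOf a).Coprime (Nat.card T)) (h : a ∉ C(T)) : NN ℓ G :=
  ⟨zpowers a ⊔ T, Solv.sup_norm abel_zpowers.solv hT (zpowers_le.2 n), fun d => (hℓ.dvd_mul.1 (d.trans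
    (Nrm2.card_sup_dvd (Or.inl (zpowers_le.2 n))))).elim (by rwa [card_zpowers']) h2, fun k =>
      h (k.cent_coprime le_sup_left le_sup_right (by rwa [card_zpowers']) (mem_zpowers a))⟩

theorem _root_.H9.Tri.nn [Finite G] {t x : G} {p r : ℕ} (h : Tri t x p r) (hℓ : ℓ.Prime) (l2 : ℓ ≠ 2) (lp : ℓ ≠ p) : NN ℓ G := by
  obtain ⟨g, hg⟩ := h.inv
  have o := (orderOf_conj' g _).trans h.ot
  have c := (Nat.coprime_primes Nat.prime_two h.pp).2 h.p2.symm
  refine nn_of hℓ (norm_of_inv (x := x) (by rwa [inv_eq_of_orderOf o])) abel_zpowers.solv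
    (fun d => l2 ((Nat.prime_dvd_prime_iff_eq hℓ Nat.prime_two).1 (o ▸ d)))
    (fun d => lp ((Nat.prime_dvd_prime_iff_eq hℓ h.pp).1 (by rwa [card_zpowers', h.ox] at d)))
    (by rwa [o, card_zpowers', h.ox]) fun k => h.x1 (orderOf_eq_one_iff.1 (Nat.eq_one_of_dvd_coprimes c
      (orderOf_dvd_of_pow_eq_one ?_) h.ox.dvd))
  rw [← mem_C.1 k x (mem_zpowers x), mul_assoc, mul_self_of_orderOf o, mul_one] at hg
  rw [pow_two]
  nth_rw 1 [hg]
  exact inv_mul_cancel x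

theorem nn_A4 (hℓ : ℓ.Prime) (l3 : 3 < ℓ) : NN ℓ (alternatingGroup (Fin 4)) := by
  refine ⟨⊤, solv_top_iff.2 (isSolvable_of_card_dvd_24 (by rw [card_alt_four]; norm_num)), fun d => ?_, fun k => ?_⟩
  · rw [card_top, card_alt_four, show 12 = 2 ^ 2 * 3 by norm_num] at d
    rcases hℓ.dvd_mul.1 d with d | d
    · have := Nat.le_of_dvd two_pos (hℓ.dvd_of_dvd_pow d); omega
    · have := Nat.le_of_dvd three_pos d; omega
  · let a : alternatingGroup (Fin 4) := ⟨Equiv.swap 0 1 * Equiv.swap 2 3, Equiv.Perm.mem_alternatingGroup.2 (by decide)⟩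
    let b : alternatingGroup (Fin 4) := ⟨Equiv.swap 0 1 * Equiv.swap 1 2, Equiv.Perm.mem_alternatingGroup.2 (by decide)⟩
    have := comm_of_cent (k.cent_coprime (A := zpowers a) (B := zpowers b) le_top le_top (by
      rw [card_zpowers', card_zpowers']
      exact Nat.Coprime.coprime_dvd_left (orderOf_dvd_of_pow_eq_one (n := 2) (by decide))
        (Nat.Coprime.coprime_dvd_right (orderOf_dvd_of_pow_eq_one (n := 3) (by decide)) (by norm_num)))) (mem_zpowers a) (mem_zpowers b)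
    exact absurd this (by decide)

theorem nn_PSL2 {F : Type*} [Field F] [Fintype F] (h : 4 ≤ Fintype.card F) (hℓ : ℓ.Prime) (l3 : 3 < ℓ) : NN ℓ PSL(2, F) := by
  by_cases h2 : (2 : F) = 0
  · have : CharP F 2 := (CharP.charP_iff_prime_eq_zero Nat.prime_two).2 h2
    have ev := FiniteField.even_card_of_char_two (F := F) (ringChar.eq F 2)
    obtain ⟨p, hp, dp⟩ := Nat.exists_prime_and_dvd (n := Fintype.card F - 1) (by omega)
    obtain ⟨r, hr, dr⟩ := Nat.exists_prime_and_dvd (n := Fintype.card F + 1) (by omega)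
    have p2 : p ≠ 2 := by rintro rfl; omega
    have r2 : r ≠ 2 := by rintro rfl; omega
    have pr : p ≠ r := by
      rintro rfl
      have := Nat.dvd_sub dr dp
      rw [show Fintype.card F + 1 - (Fintype.card F - 1) = 2 by omega] at this
      exact p2 ((Nat.prime_dvd_prime_iff_eq hp Nat.prime_two).1 this)
    by_cases c : ℓ = p
    · obtain ⟨t, x, e⟩ := tri_even h2 hr hp r2 p2 pr.symm (dr.mul_left _) (dp.mul_right _)
      exact e.nn hℓ (by omega) (c ▸ pr)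
    · obtain ⟨t, x, e⟩ := tri_even h2 hp hr p2 r2 pr (dp.mul_right _) (dr.mul_left _)
      exact e.nn hℓ (by omega) c
  · obtain ⟨a, c, e⟩ := exists_root_of_odd h2 1
    obtain ⟨H, ⟨f⟩⟩ := exists_A4_of_root e
    exact ((nn_A4 hℓ l3).map f.symm.toMonoidHom f.symm.injective).map _ H.subtype_injective

open H13 H13.Sz in
theorem nn_Sz {F : Type*} [Field F] [Fintype F] {m : ℕ} [IsSz F m] (hℓ : ℓ.Prime) (l2 : ℓ ≠ 2) : NN ℓ (Cfsg.Sz F m) := by
  have k : ∀ z : Cfsg.Sz F m, Elliptic z → ¬ ℓ ∣ Nat.card C1(z) → NN ℓ (Cfsg.Sz F m) := fun z hz d => by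
    obtain ⟨c, c1, c2, c3⟩ := hz.exists_order_four
    have c4 : c * c * (c * c) = 1 := by rw [← c2]; simp [pow_succ, mul_assoc]
    have o := orderOf_eq_two.2 ⟨c4, c3⟩
    have cop : (orderOf (c * c)).Coprime (Nat.card C1(z)) := by
      rw [o]
      exact Nat.coprime_two_left.2 (odd_card_sq_add_one.of_dvd_nat hz.card_centralizer_dvd)
    refine nn_of hℓ (mul_mem c1 c1) (Cyc.solv hz.isCyclic) (fun d => l2 ((Nat.prime_dvd_prime_iff_eq hℓ Nat.prime_two).1 (o ▸ d)))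
      d cop fun e => c3 (orderOf_eq_one_iff.1 (Nat.eq_one_of_dvd_coprimes cop dvd_rfl (orderOf_dvd_card (C_le_C1 C1_self e))))
  by_cases c : ℓ ∣ Nat.card (T1 F m)
  · exact k _ ell_t2 fun d => hℓ.one_lt.ne' (Nat.eq_one_of_dvd_coprimes (ell_t1.coprime ell_t2 fun e =>
      Set.disjoint_left.1 disjoint_T e ell_t2.self_mem_conjUnion) c d)
  · exact k _ ell_t1 c

theorem _root_.H9.ML.nn (h : ML G) (hℓ : ℓ.Prime) (l3 : 3 < ℓ) : NN ℓ G := by
  rcases h with ⟨F, _, _, h, ⟨e⟩⟩ | ⟨⟨e⟩⟩ | h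
  · exact (nn_PSL2 h hℓ l3).map e.symm.toMonoidHom e.symm.injective
  · obtain ⟨f⟩ := iso33
    obtain ⟨t, x, h⟩ := tri_SL33
    exact (h.nn hℓ (by omega) (by omega)).map (f.trans e.symm).toMonoidHom (f.trans e.symm).injective
  · obtain ⟨F, _, _, m, _, ⟨e⟩⟩ := H27.isoSuzuki_iff.1 h
    exact (nn_Sz hℓ (by omega)).map e.symm.toMonoidHom e.symm.injective

theorem _root_.H9.Sec.nn [Finite G] {S : Type*} [Group S] [Finite S] {D : Subgroup G} {f : D →* S} (s : Sec f) (hℓ : ℓ.Prime)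
    (h : NN ℓ S) : NN ℓ G := by
  obtain ⟨K, h1, h2, h3⟩ := h
  have e : mim f (mpre f K) = K := mim_mpre (s.surj ▸ le_top)
  have a : Solv (mpre f K) := (s.solv_iff mpre_le).1 (e.symm ▸ h1)
  obtain ⟨L, hL⟩ := H23.hall_exists {ℓ}ᶜ a
  have := hL.mim (f := f) mpre_le
  rw [e] at this
  exact ⟨L, a.of_le hL.le, (piNat_compl_iff hℓ).1 hL.pi, fun k => h3 (this.eq_self ((piNat_compl_iff hℓ).2 h2) ▸ k.mim)⟩

theorem nn_of_not_solv [MS.{u}] {G : Type u} [Group G] [Finite G] (h : ¬ Group.IsSolvable G) (hℓ : ℓ.Prime) (l3 : 3 < ℓ) : NN ℓ G := by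
  obtain ⟨D, N, _, s, l⟩ := exists_ML h
  exact s.nn hℓ (l.nn hℓ l3)

end MSi
end H9
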