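import Cfsg.Agent.H9.NQ

/-! Case 1 of N4, steps 1-4: the frame facts `Fb S V`, the data `D1 S V V₀ v e` (`v ∈ V \ O₂(H)` inverts `e`),
`D1.exists_D2` (`|V| = 16`), `D2.V0_eq` (`V₀ = V ∩ Q`), `D2.nV0'` (`N(V₀) ≤ M`). -/

set_option autoImplicit false
set_option linter.unusedSectionVars false

namespace H9.FB
open Subgroup H18
open H1 hiding card_mul_relIndex
open scoped commutatorElement

variable {G : Type*} [Group G] [Finite G] {S V V₀ B₁ A K N X Y : Subgroup G} {v e a b g s u w x η : G} {p : ℕ}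

/-- `Z = Ω₁Z(S)` -/
scoped notation:max "Zs(" S ")" => Ω[2](Z(S))
/-- `Q = O₂(C(Z))` -/
scoped notation:max "Qs(" S ")" => O[{2}](C(Ω[2](Z(S))))
/-- `L₀ = N(C_S(V))` -/
scoped notation:max "Ls(" S "," V ")" => N(S ⊓ C(V))
/-- the preimage of `O_p(M/C(V))` -/
scoped notation:max "Ps(" p "," V ")" => mpre (actf V) O[{p}](mim (actf V) N(V))

theorem Ps_nml : Ps(p,V) ⊴ N(V) := nml_mpre le_rfl mker_le pcore_nml
theorem C_le_Ps : C(V) ≤ Ps(p,V) := mker_actf.ge.trans mker_le_mpre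
theorem Ps_idx : PiNat {p} (C(V).relIndex Ps(p,V)) := by
  rw [← card_mim_actf Ps_nml.le, mim_mpre pcore_le]; exact pcore_pi

/-- the facts of the frame that are used in case 1 -/
structure Fb (S V : Subgroup G) : Prop where
  syl : Hall {2} S ⊤
  eV : Elem 2 V
  SV : S ≤ N(V)
  ZV : Zs(S) ≤ V
  sol : ∀ A : Subgroup G, PiGrp {2} A → A ≠ ⊥ → Solv N(A)
  chr : ∀ A : Subgroup G, PiGrp {2} A → A ≠ ⊥ → O[{2}ᶜ](N(A)) = ⊥
  red : O[{2}](mim (actf V) N(V)) = ⊥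
  L0 : Ls(S,V) ≤ N(V)
  pu : ∀ A : Subgroup G, PiGrp {2} A → A ≠ ⊥ → Hall {2} (S ⊓ C(V)) C(A) → C(A) ≤ N(V)
  ne : V ≠ ⊥

namespace Fb
variable (h : Fb S V)
include h

theorem pV : PiGrp {2} V := h.eV.pi Nat.prime_two
theorem VS : V ≤ S := h.syl.le_of_norm le_top h.pV (.inr h.SV)
theorem Z1 : Zs(S) ≠ ⊥ := h.syl.pi.omegaZ_ne_bot fun e => h.ne (eq_bot_iff.2 (e ▸ h.VS))
theorem pZ : PiGrp {2} Zs(S) := h.pV.of_le h.ZV
theorem SH : S ≤ C(Zs(S)) := omegaZ_cent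
theorem QS : Qs(S) ≤ S := (h.syl.of_le h.SH le_top).pcore_le
theorem ZQ : Zs(S) ≤ Qs(S) := le_pcore ⟨omegaZ_elem.abel, C_le_N⟩ h.pZ
theorem solH : Solv C(Zs(S)) := (h.sol _ h.pZ h.Z1).of_le C_le_N
theorem cQ : C(Zs(S)) ⊓ C(Qs(S)) ≤ Qs(S) :=
  cent_sub_pcore h.solH (eq_bot_iff.2 (nml_C_N.pcore_le_pcore.trans (h.chr _ h.pZ h.Z1).le))
theorem nQ : C(Zs(S)) ≤ N(Qs(S)) := pcore_nml.norm
theorem VH : V ≤ C(Zs(S)) := h.VS.trans h.SH
theorem fixZ (hu : u ∈ V) (c : S ≤ C1(u)) : u ∈ Zs(S) := mem_omega ⟨h.VS hu, le_C1_iff.1 c⟩ (h.eV.pow u hu)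
theorem hallR : Hall {2} (S ⊓ C(V)) C(V) := (h.syl.of_le h.SV le_top).inf_nml nml_C_N
theorem VR : V ≤ S ⊓ C(V) := le_inf h.VS h.eV.abel
theorem SL : S ≤ Ls(S,V) := norm_inf le_N (norm_C h.SV)
theorem solL : Solv Ls(S,V) := h.sol _ h.syl.pi.inf_left fun e => h.ne (eq_bot_iff.2 (e ▸ h.VR))
theorem cR : C(S ⊓ C(V)) ≤ S ⊓ C(V) := by
  have e : O[{2}](N(V)) ≤ S ⊓ C(V) := le_inf (h.syl.of_le h.SV le_top).pcore_le (by
    have := (mim_eq_bot_iff (f := actf V) pcore_le).1 (eq_bot_iff.2 (mim_pcore_le.trans h.red.le))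
    rwa [mker_actf] at this)
  exact (le_inf ((C_anti h.VR).trans C_le_N) (C_anti e)).trans
    ((cent_sub_pcore (h.sol _ h.pV h.ne) (h.chr _ h.pV h.ne)).trans e)
theorem mimL : mim (actf V) Ls(S,V) = mim (actf V) N(V) := by
  refine le_antisymm (mim_mono h.L0) ((mim_le_mim_iff le_rfl h.L0).2 ?_)
  rw [mker_actf, sup_comm]
  exact (frattini_arg Nat.prime_two nml_C_N h.hallR).ge.trans (sup_le_sup_left inf_le_right _)

end Fb

/-- step 1: `v ∈ V` inverts `e ∈ H \ Q` of odd order, the hyperplane `V₀` centralizes `e` modulo `Q` -/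
structure D1 (S V V₀ : Subgroup G) (v e : G) : Prop extends Fb S V where
  vV : v ∈ V
  v0 : v ∉ V₀
  le : V₀ ≤ V
  two : V₀.relIndex V = 2
  QV : V ⊓ Qs(S) ≤ V₀
  eH : e ∈ C(Zs(S))
  eQ : e ∉ Qs(S)
  odd : PiElt {2}ᶜ e
  inv : v * e * v = e⁻¹
  cm : ∀ x ∈ V₀, ⁅x, e⁆ ∈ Qs(S)

/-- the result of step 3 -/
structure D2 (S V V₀ B₁ : Subgroup G) (v e b η s : G) : Prop extends D1 S V V₀ v e where
  e2 : E2 Ls(S,V) V V₀ (V₀ ⊓ cj e V₀) (cj e V₀) B₁ b η s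
  IZ : V₀ ⊓ cj e V₀ = Zs(S)

namespace D1
variable (h : D1 S V V₀ v e)
include h

theorem Q1S : Qs(S) ⊔ V₀ ≤ S := sup_le h.QS (h.le.trans h.VS)
theorem eQ1 : e ∈ N(Qs(S) ⊔ V₀) := mem_N_of_cj_le (by
  rw [cj_sup, cj_eq_self (h.nQ h.eH)]
  refine sup_le le_sup_left fun y hy => ?_
  obtain ⟨x, hx, rfl⟩ := mem_cj'.1 hy
  rw [show e * x * e⁻¹ = ⁅x, e⁆⁻¹ * x by group]
  exact mul_mem_sup (inv_mem (h.cm x hx)) hx)
theorem VQ1 : V ≤ N(Qs(S) ⊔ V₀) := norm_sup (h.VH.trans h.nQ) (h.eV.abel.norm h.le)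
theorem BQ1 : cj e V₀ ≤ Qs(S) ⊔ V₀ := cj_le_of_mem_N le_sup_right h.eQ1
theorem BS : cj e V₀ ≤ S := h.BQ1.trans h.Q1S
theorem infV : V ⊓ (Qs(S) ⊔ V₀) = V₀ := by
  rw [Nrm2.modular_left' (.inr ((h.le.trans h.VH).trans h.nQ)) h.le, sup_eq_right.2 h.QV]
theorem infB : cj e V ⊓ (Qs(S) ⊔ V₀) = cj e V₀ := by
  conv_rhs => rw [← h.infV, cj_inf, cj_eq_self h.eQ1]
theorem Q1N : Qs(S) ⊔ V₀ ≤ N(cj e V) := by
  rw [← cj_eq_self h.eQ1, cj_norm_iff]; exact h.Q1S.trans h.SV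
theorem V'Q1 : cj e V ≤ N(Qs(S) ⊔ V₀) := by rw [← cj_eq_self h.eQ1, cj_norm_iff]; exact h.VQ1
theorem cVQ : ⁅V, Qs(S) ⊔ V₀⁆ ≤ V₀ :=
  (le_inf (comm_le_left (h.Q1S.trans h.SV)) (comm_le_right h.VQ1)).trans h.infV.le
theorem cV'Q : ⁅cj e V, Qs(S) ⊔ V₀⁆ ≤ cj e V₀ := (le_inf (comm_le_left h.Q1N) (comm_le_right h.V'Q1)).trans h.infB.le
theorem d0 : D0 V V₀ v e := ⟨h.eV, h.vV, h.v0, h.le, h.two, h.odd, h.inv, h.BS.trans h.SV,
  (comm_mono le_rfl h.BQ1).trans h.cVQ, (comm_mono le_rfl le_sup_right).trans h.cV'Q⟩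
theorem ZI : Zs(S) ≤ V₀ ⊓ cj e V₀ := by
  have : Zs(S) ≤ V₀ := (le_inf h.ZV h.ZQ).trans h.QV
  exact le_inf this ((cj_eq_self_of_cent h.eH).ge.trans (cj_mono this))

theorem cQD (hX : V₀ ≤ X) (hX' : cj e V₀ ≤ X) (n : V ⊔ cj e V ≤ N(X)) : ⁅V ⊔ cj e V, Qs(S)⁆ ≤ X :=
  comm_sup_le (((comm_mono le_rfl le_sup_left).trans h.cVQ).trans hX)
    (((comm_mono le_rfl le_sup_left).trans h.cV'Q).trans hX') (le_sup_left.trans n) (le_sup_right.trans n)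

theorem BI : ¬ cj e V₀ ≤ C(V) := fun l' => by
  have l : cj e V₀ ≤ V₀ := fun b hb => (h.d0.faith hb (l' hb)).1
  have e1 : V₀ ⊓ cj e V₀ = V₀ := eq_of_card_eq inf_le_left (by rw [inf_eq_right.2 l, card_cj])
  have c := h.d0.ID
  rw [e1] at c
  have z := zpowers_le.2 h.d0.eD
  have : Qs(S) ≤ C(zpowers e) := cent_of_comm_le (U := V₀) (by
      rw [comm_comm]; exact (comm_mono z le_rfl).trans (h.cQD le_rfl l (cent_norm (cent_symm c))))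
    (c.trans (C_anti z)) (h.odd.zpowers.coprime' (h.pV.of_le h.le))
  exact h.eQ (h.cQ ⟨h.eH, cent_symm this (mem_zpowers e)⟩)

theorem nq : NQ Ls(S,V) V V₀ (V₀ ⊓ cj e V₀) (cj e V₀) :=
  have k := h.d0
  ⟨h.eV, h.L0, h.solL, h.mimL.symm ▸ h.red, h.BS.trans h.SL, k.eB, h.le, h.two, inf_le_left, k.c1, k.cB, k.IB,
    fun _ hu u0 _ hb c => h.eV.abel (k.IV (k.inj hu u0 hb c)), fun _ hu u0 _ => k.sur hu u0, by
      rw [← inf_relIndex_right, show C(V) ⊓ cj e V₀ = V₀ ⊓ cj e V₀ from le_antisymm (fun b hb => k.faith hb.2 hb.1)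
        (le_inf (k.IV.trans h.eV.abel) inf_le_right), card_mul_relIndex inf_le_right, card_cj],
    fun x hx ox b hb i c => k.sol1 ((h.sol _ (h.pV.of_le (inf_le_left.trans k.IV)) c).of_le C_le_N)
      (cent_symm (inf_le_left.trans k.ID)) (le_C1_iff.1 inf_le_right) (h.L0 hx) ox hb i⟩

theorem exists_D2 : ∃ B₁ b η s, D2 S V V₀ B₁ v e b η s := by
  obtain ⟨b, hb, b0⟩ := SetLike.not_le_iff_exists.1 h.BI
  have cZ := one_lt_card h.Z1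
  have cI := card_le h.ZI
  obtain ⟨p, η, B₁, k, l⟩ | ⟨η, B₁, s, k⟩ := h.nq.cases hb b0
  · obtain ⟨-, -, c5, c⟩ := k.tv l
    have c3 := card_mod k.pη.zpowers k.pp k.cop.norm
    rw [C_zpowers, show Nat.card ↥(V ⊓ C1(η)) = 2 by omega] at c3
    obtain ⟨P, hP⟩ := exists_sylow k.pp Ps(p,V)
    have eP : V ⊓ C(P) = V ⊓ C(Ps(p,V)) := by
      conv_rhs => rw [← hP.sup_of_idx C_le_Ps Ps_idx, C_sup, ← inf_assoc, inf_right_comm,
        inf_eq_left.2 (cent_symm le_rfl : V ≤ C(C(V)))]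
    have c6 := card_mod hP.pi k.pp (hP.le.trans Ps_nml.le)
    rw [eP] at c6
    have lC : V ⊓ C(Ps(p,V)) ≤ V ⊓ C1(η) := inf_le_inf_left _ (C_le_C1 (mem_mpre.2 ⟨k.ηN, h.mimL ▸ k.mem⟩))
    have ne : V ⊓ C(Ps(p,V)) ≠ ⊥ := fun c => by
      rw [c, card_bot] at c6
      have := (Nat.modEq_iff_dvd' one_le_two).1 (c6.symm.trans c3)
      exact k.pp.one_lt.ne' (Nat.dvd_one.1 this)
    obtain ⟨u, ⟨hu, uS⟩, u1⟩ := exists_mem_ne_one' (h.syl.pi.meet_cent h.pV.inf_left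
      (norm_inf h.SV (norm_C (h.SV.trans Ps_nml.norm))) ne)
    exact (u1 (eq_one_of_eq_bot k.IC ⟨h.ZI (h.fixZ hu.1 (le_C1_iff.2 uS)), (lC hu).2⟩)).elim
  · exact ⟨B₁, b, η, s, h, k, (eq_of_card_ge h.ZI (by rw [k.cardI]; exact cZ)).symm⟩

end D1

namespace D2
variable (h : D2 S V V₀ B₁ v e b η s)
include h

theorem sB : s ∈ cj e V₀ := h.e2.le1 h.e2.sB
theorem cardZ : Nat.card Zs(S) = 2 := h.IZ ▸ h.e2.cardI
theorem mem : η ∈ Ps(3,V) := mem_mpre.2 ⟨h.e2.ηN, h.mimL ▸ h.e2.mem⟩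
theorem V0Q : V₀ ≤ Qs(S) := (h.d0.sur h.vV h.v0 fun x hx => by
  obtain ⟨q, hq, y, hy, rfl⟩ := (mem_sup_of_norm' ((h.le.trans h.VH).trans h.nQ)).1 (h.BQ1 hx)
  rw [commutatorElement_mul_right_eq_mul_conj, commutatorElement_eq_one_iff_mul_comm.2 (ecv h.eV h.vV (h.le hy)), mul_one,
    mul_inv_cancel_right]
  exact comm_le_right (h.VH.trans h.nQ) (commutator_mem_commutator h.vV hq)).trans (sup_le le_rfl (h.IZ.le.trans h.ZQ))
theorem V0_eq : V₀ = V ⊓ Qs(S) := le_antisymm (le_inf h.le h.V0Q) h.QV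
theorem SV0 : S ≤ N(V₀) := h.V0_eq ▸ norm_inf h.SV (h.SH.trans h.nQ)
theorem ZU : Zs(S) ≤ V ⊓ C1(s) := h.IZ ▸ h.e2.IU

theorem cV0 : S ⊓ C(V₀) ≤ C(V) := by
  by_contra c
  have k := h.e2
  have sS := h.BS h.sB
  have nT : S ⊓ C(V₀) ⊴ S := nml_cent h.SV0
  obtain ⟨τ, ⟨m1, m2⟩, τ1⟩ := exists_mem_ne_one' ((h.syl.pi.mim (f := actf V)).meet_cent (h.syl.pi.of_le nT.le).mim
    nT.mim.norm fun e => c (((mim_eq_bot_iff (nT.le.trans h.SV)).1 e).trans mker_actf.le))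
  obtain ⟨t, ht, tN, rfl⟩ := mem_mim.1 m1
  have ts := act_comm (h.SV sS) tN (mem_C.1 m2 _ (mfun_mem_mim sS))
  set U := V ⊓ C1(s)
  have c0 : ∀ u ∈ V₀, ⁅t, u⁆ = 1 := fun u hu => commutatorElement_eq_one_iff_mul_comm.2 (mem_C.1 ht.2 u hu).symm
  have tU : t ∈ C(U) := C_anti k.UV0 ht.2
  have m : t ∈ H4.commStab V U := ⟨C_le_N tU, fun a ha => ⟨comm_le_right h.SV (commutator_mem_commutator ht.1 ha),
    mem_C1_comm.1 (mem_C1.2 (by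
      have a' : s * a * s⁻¹ * a ∈ V₀ := by
        have := inv_mem (k.cVB ha h.sB); rwa [commutatorElement_inv, commutatorElement_def, eiv h.eV ha] at this
      have a'' := conj_mem_N (h.SV sS) ha
      rw [← mul_inv_eq_iff_eq_mul, conjugate_commutatorElement, ← commutatorElement_inv, ← commutatorElement_inv a,
        show s * t * s⁻¹ = ⁅s, t⁆ * t by group, cc a'' tN ts, commutatorElement_inv, commutatorElement_inv,
        show s * a * s⁻¹ = s * a * s⁻¹ * a * a by rw [mul_assoc _ a a, esq h.eV ha, mul_one],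
        commutatorElement_mul_right_eq_mul_conj, c0 _ a', one_mul,
        ecv h.eV (h.le a') (comm_le_right h.SV (commutator_mem_commutator ht.1 ha)), mul_inv_cancel_right]))⟩⟩
  have nU := k.nU k.sB
  have m' : η * t⁻¹ * η⁻¹ ∈ H4.commStab V U := ⟨mul_mem (mul_mem nU (inv_mem m).1) (inv_mem nU), fun a ha => by
    have := conj_mem_N nU ((inv_mem m).2 _ (conj_mem_N' k.ηN ha))
    rwa [conjugate_commutatorElement, show η * (η⁻¹ * a * η) * η⁻¹ = a by group] at this⟩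
  have k1 : ⁅t, η⁆ ∈ H4.commStab V U := by rw [commutatorElement_def, mul_assoc, mul_assoc, ← mul_assoc η]; exact mul_mem m m'
  have k2 : ⁅t, η⁆ ∈ C(U) := by
    rw [commutatorElement_def, mul_assoc, mul_assoc, ← mul_assoc η]
    exact mul_mem tU (conj_mem_N (N_le_N_C nU) (inv_mem tU))
  have k3 : ⁅t, η⁆ ∈ Ps(3,V) := mul_mem (conj_mem Ps_nml.norm tN h.mem) (inv_mem h.mem)
  have k4 : ⁅t, η⁆ ∈ C(V) := by
    generalize ⁅t, η⁆ = k at *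
    have kN := Ps_nml.le k3
    rw [← act_one kN]
    refine mem_bot.1 (mem_of_sq ((pcore_pi.elt (mem_mpre.1 k3).2).p'_of_ne (by norm_num)) (mem_bot.2 ?_))
    rw [← mfun_mul kN kN, act_one (mul_mem kN kN)]
    refine mem_C.2 fun a ha => ?_
    have e1 := k1.2 a ha
    have e2 := mem_C.1 k2 _ e1
    calc a * (k * k) = ⁅k, a⁆ * ⁅k, a⁆ * a * (k * k) := by rw [esq h.eV e1.1, one_mul]
      _ = ⁅k, a⁆ * (k * a) * k := by group
      _ = _ := by rw [← mul_assoc, e2]; group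
  have V0t : V₀ ≤ C1(t) := le_C1_iff.2 ht.2
  obtain ⟨w, hw, w0⟩ := SetLike.not_le_iff_exists.1 fun c => k.nV0 (mem_N_of_cj_le c)
  have wV : w ∈ V := cj_le_of_mem_N h.le k.ηN hw
  refine τ1 ((act_one tN).2 (le_C1_iff.1 (le_two h.two V0t wV w0 ?_)))
  have e1 := mem_C1.1 (V0t (mem_cj.1 hw))
  rw [mem_C1_comm, show t = ⁅t, η⁆ * (η * t * η⁻¹) by group]
  refine mul_mem (C_le_C1 wV k4) (mem_C1.2 ?_)
  calc η * t * η⁻¹ * w = η * (t * (η⁻¹ * w * η)) * η⁻¹ := by group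
    _ = _ := by rw [← e1]; group

theorem nV0' : N(V₀) ≤ N(V) := by
  have p0 := h.pV.of_le h.le
  have ne : V₀ ≠ ⊥ := fun e => h.Z1 (eq_bot_iff.2 (e ▸ h.ZI.trans inf_le_left))
  have hR : Hall {2} (S ⊓ C(V)) C(V₀) := by
    rw [show S ⊓ C(V) = S ⊓ C(V₀) from le_antisymm (inf_le_inf_left _ (C_anti h.le)) (le_inf inf_le_left h.cV0)]
    exact (h.syl.of_le h.SV0 le_top).inf_nml nml_C_N
  rw [← frattini_arg Nat.prime_two nml_C_N hR]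
  exact sup_le (h.pu _ p0 ne hR) (inf_le_right.trans h.L0)

end D2
end H9.FB
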