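import Cfsg.Agent.H9.FB2

/-! Case 1 of N4, step 5: `D2.nA` (an element of `H` centralizing `v` modulo `Q` normalizes `V₀`), `D2.cB` (if it has
odd order it centralizes `V`), `D2.nX`, `Fb.exists_D2` (a configuration with `C_S(V) ≤ N(V₀ V₀ ^ e)`). -/

set_option autoImplicit false
set_option linter.unusedSectionVars false

namespace H9.FB
open Subgroup H18
open H1 hiding card_mul_relIndex
open scoped commutatorElement

variable {G : Type*} [Group G] [Finite G] {S V V₀ B B₁ A K N X Y : Subgroup G} {v e a b g s u w x η ζ : G} {p : ℕ}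

theorem cent_two (i : A.relIndex B = 2) (pA : PiGrp {2} A) (o : PiElt {2}ᶜ ζ) (n : ζ ∈ N(B)) (c : A ≤ C1(ζ)) :
    B ≤ C1(ζ) := by
  have c' : A ≤ C(zpowers ζ) := c.trans C_zpowers.ge
  refine (cent_of_comm_le (U := A) (commutator_le.2 fun u hu k hk => ?_) c' (o.zpowers.coprime' pA)).trans C_zpowers.le
  have nk := cent_norm (cent_symm c') hk
  rw [commutatorElement_def, mul_assoc, mul_assoc, ← mul_assoc k]
  by_cases u0 : u ∈ A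
  · exact mul_mem u0 (conj_mem_N nk (inv_mem u0))
  · exact mul_two i hu (conj_mem_N (zpowers_le.2 n hk) (inv_mem hu)) u0 fun c => u0 (inv_mem_iff.1 (by
      simpa [mul_assoc] using conj_mem_N' nk c))

theorem le_of_half (hA : K ≤ A) (hX : K ≤ X) (c : Nat.card A = Nat.card K * 2) (n : ¬ A ≤ X) : A ⊓ X ≤ K := fun x hx => by
  by_contra c'
  exact n (le_two (relIndex_eq_of_mul hA c) hX hx.1 c' hx.2)

theorem norm_stab (hg : g ∈ N(A)) (hX : g ∈ N(X)) : g ∈ N(H4.commStab A X) := mem_N_of_finite fun x hx =>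
  ⟨mul_mem (mul_mem hX hx.1) (inv_mem hX), fun a ha => by
    have := conj_mem_N hX (hx.2 _ (conj_mem_N' hg ha))
    rwa [conjugate_commutatorElement, show g * (g⁻¹ * a * g) * g⁻¹ = a by group] at this⟩

theorem inv_part {π : Set ℕ} (v2 : v * v = 1) : v * piPart π ⁅x, v⁆ * v = (piPart π ⁅x, v⁆)⁻¹ := by
  have vi := inv_eq_of_mul_eq_one_right v2
  obtain ⟨n, hn⟩ := mem_zpowers_iff.1 (piPart_mem_zpowers (π := π) (x := ⁅x, v⁆))
  rw [← hn, ← inv_zpow, show ⁅x, v⁆⁻¹ = v * ⁅x, v⁆ * v⁻¹ by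
    rw [commutatorElement_inv, commutatorElement_def, commutatorElement_def, vi]; simp [mul_assoc, v2], conj_zpow, vi]

namespace D2
variable (h : D2 S V V₀ B₁ v e b η s)
include h

theorem mk' (hu : u ∈ V) (u0 : u ∉ V₀) (xH : x ∈ C(Zs(S))) (xQ : x ∉ Qs(S)) (o : PiElt {2}ᶜ x) (i : u * x * u = x⁻¹) :
    ∃ B₁ b η s, D2 S V V₀ B₁ u x b η s :=
  D1.exists_D2 ⟨h.toFb, hu, u0, h.le, h.two, h.QV, xH, xQ, o, i, fun _ hy =>
    comm_le_left (zpowers_le.2 (h.nQ xH)) (commutator_mem_commutator (h.V0Q hy) (mem_zpowers x))⟩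
theorem BQ : cj e V₀ ≤ Qs(S) := cj_le_of_mem_N h.V0Q (h.nQ h.eH)
theorem QB : Qs(S) ≤ N(cj e V₀) := by rw [← cj_eq_self (h.nQ h.eH), cj_norm_iff]; exact h.QS.trans h.SV0
theorem cVQ' : ⁅V, Qs(S)⁆ ≤ V₀ := (comm_mono le_rfl le_sup_left).trans h.cVQ
theorem Z0 : Zs(S) ≤ V₀ := h.ZI.trans inf_le_left

theorem nA (gH : g ∈ C(Zs(S))) (c : ⁅g, v⁆ ∈ Qs(S)) : g ∈ N(V₀) := by
  have k := h.d0
  set q := ⁅g, v⁆ with hq
  set W := cj g V₀
  have ev : g * v * g⁻¹ = q * v := by rw [hq]; group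
  have gQ := cj_eq_self (h.nQ gH)
  have eW : Elem 2 W := (h.eV.of_le h.le).cj g
  have cW : ∀ w ∈ W, q * v * w = w * (q * v) := fun w hw => ev ▸ ecv (h.eV.cj g) (conj_mem_cj h.vV) (cj_mono h.le hw)
  have nW : Qs(S) ≤ N(W) := by rw [← gQ, cj_norm_iff]; exact h.QS.trans h.SV0
  have ZW : Zs(S) ≤ W := (cj_eq_self_of_cent gH).ge.trans (cj_mono h.Z0)
  have vW : v ∈ N(W) := (mul_mem_cancel_left (nW c)).1 (C_le_N (mem_C.2 fun w hw => (cW w hw).symm))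
  have m : ∀ y ∈ cj e V₀, q * ⁅v, y⁆ * q⁻¹ * ⁅q, y⁆ ∈ W := fun y hy => by
    rw [← commutatorElement_mul_left_eq_conj_mul, ← ev]
    refine (show ⁅cj g V, Qs(S)⁆ ≤ W by rw [← gQ, ← cj_comm]; exact cj_mono h.cVQ') ?_
    exact commutator_mem_commutator (conj_mem_cj h.vV) (h.BQ hy)
  have m1 : ∀ y ∈ cj e V₀, q * ⁅v, y⁆ * q⁻¹ ∈ V₀ := fun y hy => conj_mem_N (h.SV0 (h.QS c)) (k.cVB h.vV hy)
  have m2 : ∀ y ∈ cj e V₀, ⁅q, y⁆ ∈ cj e V₀ := fun y hy => comm_le_right h.QB (commutator_mem_commutator c hy)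
  have m3 : ∀ y ∈ cj e V₀, ⁅q, y⁆ ∈ Zs(S) := fun y hy => by
    by_contra nz
    have ma := m1 y hy
    have mc := m2 y hy
    have mw := m y hy
    generalize q * ⁅v, y⁆ * q⁻¹ = a at *
    generalize ⁅q, y⁆ = c' at *
    have a2 := k.cVB h.vV mc
    have e2 : ⁅v, a * c'⁆ = ⁅v, c'⁆ := cc h.vV (k.BN mc) (h.eV.abel (h.le ma))
    have a2W : ⁅v, c'⁆ ∈ W := e2 ▸ comm_le_right (zpowers_le.2 vW) (commutator_mem_commutator (mem_zpowers v) mw)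
    have n2 : ⁅v, c'⁆ ∉ Zs(S) := fun z => nz (h.IZ ▸ k.inj h.vV h.v0 mc (h.IZ ▸ z))
    have l1 : ¬ V₀ ≤ C1(c') := fun l => nz (h.IZ ▸ k.faith mc (h.cV0 ⟨h.BS mc, le_C1_iff.1 l⟩))
    have Zc : Zs(S) ≤ C1(c') := h.IZ.ge.trans (k.IB.trans (C_le_C1 mc))
    have ac : a ∈ C1(c') := mem_C1.2 (by
      have := esq eW mw
      calc a * c' = (a * c')⁻¹ := (inv_eq_of_mul_eq_one_right this).symm
        _ = _ := by rw [mul_inv_rev, eiv k.eB mc, eiv h.eV (h.le ma)])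
    have a2c : ⁅v, c'⁆ ∈ C1(c') := mem_C1.2 (mul_left_cancel (a := a) (by
      rw [← mul_assoc, ← ecv h.eV (h.le a2) (h.le ma), mul_assoc, ecv eW a2W mw, mul_assoc]))
    have c4 : Nat.card ↥(V₀ ⊓ C1(c')) = Nat.card Zs(S) * 2 := by
      have d1 := card_lt_of_lt (lt_of_le_of_ne inf_le_left fun e => l1 (inf_eq_left.1 e) : V₀ ⊓ C1(c') < V₀)
      have d2 := card_lt_of_lt (lt_of_le_of_ne (le_inf h.Z0 Zc) fun e => n2 (e ▸ ⟨a2, a2c⟩) : Zs(S) < V₀ ⊓ C1(c'))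
      have d3 := card_dvd_of_le (inf_le_left : V₀ ⊓ C1(c') ≤ V₀)
      rw [h.e2.card0] at d1 d3
      rw [h.cardZ] at d2 ⊢
      generalize Nat.card ↥(V₀ ⊓ C1(c')) = n at *
      interval_cases n <;> simp_all
    have cW' : c' ∈ W := (mul_mem_cancel_left (le_two (relIndex_eq_of_mul (le_inf h.Z0 Zc) c4) ZW ⟨a2, a2c⟩ n2 a2W
      ⟨ma, ac⟩)).1 mw
    have e3 : q * ⁅v, c'⁆ * q⁻¹ * ⁅q, c'⁆ = 1 := by
      rw [← commutatorElement_mul_left_eq_conj_mul, commutatorElement_eq_one_iff_mul_comm, cW _ cW']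
    have : q * ⁅v, c'⁆ * q⁻¹ ∈ Zs(S) := h.IZ ▸ mem_inf.2 ⟨m1 _ mc, eq_inv_of_mul_eq_one_left e3 ▸ inv_mem (m2 _ mc)⟩
    exact n2 (by simpa [mul_assoc] using conj_mem_N' (C_le_N (h.SH (h.QS c))) this)
  have : V₀ ≤ W := (k.sur h.vV h.v0 fun y hy => by
    simpa [mul_assoc] using conj_mem_N' (nW c) ((mul_mem_cancel_right (ZW (m3 y hy))).1 (m y hy))).trans
      (sup_le le_rfl (h.IZ.le.trans ZW))
  exact mem_N_of_cj_le (eq_of_card_eq this card_cj.symm).ge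

theorem cB (gH : ζ ∈ C(Zs(S))) (c : ⁅ζ, v⁆ ∈ Qs(S)) (o : PiElt {2}ᶜ ζ) : ζ ∈ C(V) := by
  have k := h.e2
  have n0 := h.nA gH c
  have nV := h.nV0' n0
  set U := V ⊓ C1(s)
  have cU : Nat.card U = Nat.card Zs(S) * 2 := by rw [k.cardU, h.cardZ]
  have iU : ∀ g ∈ N(V₀), (cj g U).relIndex V₀ = 2 := fun g hg =>
    relIndex_eq_of_mul (cj_le_of_mem_N k.UV0 hg) (by rw [card_cj, k.card0, k.cardU])
  by_contra nc
  have nU : ζ ∉ N(U) := fun n => nc (le_C1_iff.1 (cent_two h.two (h.pV.of_le h.le) o nV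
    (cent_two (by simpa using iU 1 (one_mem _)) h.pV.inf_left o n0
      (cent_two (relIndex_eq_of_mul h.ZU cU) h.pZ o n (le_C1_iff.2 gH)))))
  have iZ : ∀ g ∈ C(Zs(S)), g ∉ N(U) → U ⊓ cj g U ≤ Zs(S) := fun g hg n =>
    le_of_half h.ZU ((cj_eq_self_of_cent hg).ge.trans (cj_mono h.ZU)) cU
      fun l => n (mem_N_of_cj_le (eq_of_card_eq l card_cj.symm).ge)
  obtain ⟨z, hz, z1⟩ := exists_mem_ne_one' h.Z1
  let O := {x | ∃ g ∈ Ps(3,V), g * z * g⁻¹ = x}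
  have zV := h.ZV hz
  have cO : ∀ g ∈ N(Ps(3,V)), g ∈ Ps(3,V) ∨ g ∈ C(Zs(S)) → ∀ A : Subgroup G, (A : Set G) ⊆ insert 1 O →
      (cj g A : Set G) ⊆ insert 1 O := fun g hg e A hA y hy => by
    obtain ⟨a, ha, rfl⟩ := mem_cj'.1 hy
    obtain rfl | ⟨t, ht, rfl⟩ := hA ha
    · left; simp
    · right
      obtain e | e := e
      · exact ⟨g * t, mul_mem e ht, by group⟩
      · refine ⟨g * t * g⁻¹, conj_mem_N hg ht, ?_⟩
        calc _ = g * t * (g⁻¹ * z * g) * t⁻¹ * g⁻¹ := by group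
          _ = _ := by rw [mul_assoc g⁻¹, mem_C.1 e z hz]; group
  have zη : ¬ zpowers η ≤ C1(z) := fun l => z1 (eq_one_of_eq_bot k.fpf ⟨zV, mem_C1_comm.1 (l (mem_zpowers η))⟩)
  have UO : (U : Set G) ⊆ insert 1 O := by
    have e := Set.eq_of_subset_of_ncard_le (s := {x | ∃ g ∈ zpowers η, g * z * g⁻¹ = x}) (t := (U : Set G) \ {1})
      (by
        rintro _ ⟨g, hg, rfl⟩
        exact ⟨conj_mem_N (zpowers_le.2 (k.nU k.sB) hg) (h.ZU hz), by simpa using z1⟩) (by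
        rw [card_orb, Set.ncard_sdiff_singleton_of_mem (one_mem U), ← Nat.card_coe_set_eq, SetLike.coe_sort_coe, k.cardU]
        obtain ⟨n, hn⟩ := (PiNat.of_dvd k.pη.zpowers relIndex_dvd).eq_pow (n := C1(z).relIndex (zpowers η)) relIndex_ne_zero
        rcases n with _ | n
        · exact (zη (relIndex_eq_one.1 hn)).elim
        · rw [hn, pow_succ]; have := Nat.one_le_pow n 3 (by norm_num); omega)
    intro u hu
    by_cases u1 : u = 1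
    · exact .inl u1
    · obtain ⟨g, hg, e⟩ := e.ge ⟨hu, u1⟩
      exact .inr ⟨g, zpowers_le.2 h.mem hg, e⟩
  have nP := (Ps_nml (p := 3)).norm nV
  have U1 := cO ζ nP (.inr gH) U UO
  have U2 := cO (ζ * ζ) (mul_mem nP nP) (.inr (mul_mem gH gH)) U UO
  obtain ⟨y, hy, yZ⟩ := SetLike.not_le_iff_exists.1 fun l : U ≤ Zs(S) => by
    have := card_le l; rw [k.cardU, h.cardZ] at this; omega
  have VO : (V₀ : Set G) ⊆ insert 1 O := fun x hx => by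
    by_contra nx
    have := mul_two (iU ζ n0) hx (k.UV0 hy) (fun c => nx (U1 c)) fun c => yZ (iZ ζ gH nU ⟨hy, c⟩)
    have := (show cj ζ U ⊓ cj (ζ * ζ) U ≤ U by
      rw [cj_mul, ← cj_inf]; exact ((cj_mono (iZ ζ gH nU)).trans (cj_eq_self_of_cent gH).le).trans h.ZU) ⟨this,
      mul_two (iU _ (mul_mem n0 n0)) hx (k.UV0 hy) (fun c => nx (U2 c))
        fun c => yZ (iZ _ (mul_mem gH gH) (fun n => nU (mem_of_sq o n)) ⟨hy, c⟩)⟩
    exact nx (UO ((mul_mem_cancel_right hy).1 this))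
  have d1 := Set.ncard_le_ncard (Set.union_subset VO (cO η (le_N h.mem) (.inl h.mem) V₀ VO))
  have d2 := Set.ncard_union_add_ncard_inter (V₀ : Set G) (cj η V₀)
  have d3 := Set.ncard_insert_le 1 O
  have d4 : O.ncard ≤ ((V : Set G) \ {1}).ncard := Set.ncard_le_ncard (by
    rintro _ ⟨g, hg, rfl⟩
    exact ⟨conj_mem_N (Ps_nml.le hg) zV, by simpa using z1⟩)
  have d5 := card_lt_of_lt (lt_of_le_of_ne inf_le_left fun e => k.nV0 (mem_N_of_cj_le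
    (eq_of_card_eq (inf_eq_left.1 e) card_cj.symm).ge) : V₀ ⊓ cj η V₀ < V₀)
  have d6 := card_dvd_of_le (inf_le_left : V₀ ⊓ cj η V₀ ≤ V₀)
  rw [Set.ncard_sdiff_singleton_of_mem (one_mem V), ← Nat.card_coe_set_eq (V : Set G), SetLike.coe_sort_coe, k.card16] at d4
  rw [← coe_inf] at d2
  have nc' : ∀ A : Subgroup G, (A : Set G).ncard = Nat.card A := fun A => (Nat.card_coe_set_eq (A : Set G)).symm
  simp only [nc', card_cj, k.card0] at d2 d5 d6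
  have d7 : Nat.card ↥(V₀ ⊓ cj η V₀) ≤ 4 := by
    generalize Nat.card ↥(V₀ ⊓ cj η V₀) = n at *
    interval_cases n <;> simp_all
  obtain ⟨n, hn⟩ := (Ps_idx.of_dvd (relIndex_dvd_left (C_le_C1 zV))).eq_pow (n := C1(z).relIndex Ps(3,V)) relIndex_ne_zero
  rw [← card_orb] at hn
  have d8 : 3 ^ 2 < 3 ^ n := by rw [← hn]; show 9 < O.ncard; omega
  have d9 : 3 ^ n < 3 ^ 3 := by rw [← hn]; show O.ncard < 27; omega
  rw [Nat.pow_lt_pow_iff_right (by norm_num)] at d8 d9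
  omega

theorem DX : V ⊔ cj e V ≤ N(V₀ ⊔ cj e V₀) := sup_le
  (norm_of_comm_le (comm_sup_le' ((comm_eq_bot_iff.2 (cent_mono h.eV.abel le_rfl h.le)).le.trans bot_le)
    (h.d0.c1.trans le_sup_left) (le_norm le_sup_left) (le_norm le_sup_right)))
  (norm_of_comm_le (comm_sup_le' (h.d0.c2.trans le_sup_right)
    ((comm_eq_bot_iff.2 (cent_mono h.d0.eV'.abel le_rfl (cj_mono h.le))).le.trans bot_le)
    (le_norm le_sup_left) (le_norm le_sup_right)))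
theorem DE : V ⊔ cj e V ≤ H4.commStab Qs(S) (V₀ ⊔ cj e V₀) :=
  H4.le_commStab_iff.2 ⟨h.DX, h.cQD le_sup_left le_sup_right h.DX⟩

theorem X_le (hZ : Zs(S) ≤ Y) (m : e ∈ H4.commStab Qs(S) Y) : V₀ ⊔ cj e V₀ ≤ Y := by
  have : V₀ ≤ Y := (h.d0.sur h.vV h.v0 fun y hy => by
    have e1 := ecv h.d0.eV' (conj_mem_cj h.vV) (cj_mono h.le hy)
    have e2 : e * v * e⁻¹ = e * e * v := by
      rw [← h.inv, ← mul_assoc, ← mul_assoc, mul_assoc e v v, esq h.eV h.vV, mul_one]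
    rw [e2, ← commutatorElement_eq_one_iff_mul_comm, commutatorElement_mul_left_eq_conj_mul] at e1
    have m2 := mul_mem m m
    have := conj_mem_N' m2.1 (eq_inv_of_mul_eq_one_left e1 ▸ inv_mem (m2.2 y (h.BQ hy)))
    rwa [show (e * e)⁻¹ * (e * e * ⁅v, y⁆ * (e * e)⁻¹) * (e * e) = ⁅v, y⁆ by group] at this).trans
      (sup_le le_rfl (h.IZ.le.trans hZ))
  exact sup_le this (cj_le_of_mem_N this m.1)

theorem nX (gH : g ∈ C(Zs(S))) (c : ⁅g⁻¹, e⁆ ∈ Qs(S)) : g ∈ N(V₀ ⊔ cj e V₀) := by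
  set X := V₀ ⊔ cj e V₀
  set E := H4.commStab Qs(S) X
  have nE : Qs(S) ≤ N(E) := fun q hq => norm_stab (le_N hq) (norm_sup (h.QS.trans h.SV0) h.QB hq)
  have m : g⁻¹ * e * g⁻¹⁻¹ ∈ E := (h.odd.conj g⁻¹).mem_of_nml (M := E ⊔ Qs(S)) (by
      rw [show g⁻¹ * e * g⁻¹⁻¹ = ⁅g⁻¹, e⁆ * e by group]
      exact mul_mem (mem_sup_right c) (mem_sup_left (h.DE h.d0.eD))) ⟨le_sup_left, sup_le le_N nE⟩ (by
    rw [compl_compl, relIndex_sup_of_le_normalizer nE]; exact pcore_pi.relIndex)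
  refine mem_N_of_cj_le (eq_of_card_eq (h.X_le ((cj_eq_self_of_cent gH).ge.trans (cj_mono (h.Z0.trans le_sup_left)))
    ⟨?_, fun a ha => ?_⟩) card_cj.symm).ge
  · rw [← cj_N, mem_cj]; simpa using m.1
  · have := m.2 _ (conj_mem_N' (h.nQ gH) ha)
    rwa [mem_cj, show g⁻¹ * ⁅e, a⁆ * g = ⁅g⁻¹ * e * g⁻¹⁻¹, g⁻¹ * a * g⁆ by group]

end D2

/-- step 5 -/
theorem Fb.exists_D2 (h : Fb S V) (nQ : ¬ V ≤ Qs(S)) :
    ∃ V₀ B₁ v e b η s, D2 S V V₀ B₁ v e b η s ∧ S ⊓ C(V) ≤ N(V₀ ⊔ cj e V₀) := by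
  obtain ⟨v, vV, vQ⟩ := SetLike.not_le_iff_exists.1 nQ
  have VN := h.VH.trans h.nQ
  obtain ⟨p, e, V₀, -, p2, eH, pe, i, e1, m, l, two, v0, k, c⟩ := dl (f := coset Qs(S)) h.nQ h.solH pcore_quo_pcore h.VH h.eV vV
    fun c => vQ ((cs_eq_one_iff (VN vV)).1 c)
  have cq : ∀ x ∈ C(Zs(S)), ∀ y ∈ C(Zs(S)), cs Qs(S) x * cs Qs(S) y = cs Qs(S) y * cs Qs(S) x → ⁅x, y⁆ ∈ Qs(S) :=
    fun x hx y hy e => by
      rw [← cs_eq_one_iff (x := ⁅x, y⁆) (h.nQ (mul_mem (mul_mem (mul_mem hx hy) (inv_mem hx)) (inv_mem hy))),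
        mfun_comm (h.nQ hx) (h.nQ hy), commutatorElement_eq_one_iff_mul_comm, e]
  obtain ⟨B₁, b, η, s, d⟩ := D1.exists_D2 ⟨h, vV, v0, l, two, fun x hx => k x hx.1 (cs_eq_one hx.2), eH,
    fun c => e1 (cs_eq_one c), pe.p'_of_ne p2, i, fun x hx => cq x (h.VH (l hx)) e eH (c x hx)⟩
  set P := O[{p}](C(Zs(S)) ⫽ Qs(S))
  set K := ⁅P, V ⫽ Qs(S)⁆
  have nP : C(Zs(S)) ⫽ Qs(S) ≤ N(P) := pcore_nml.norm
  have KP : K ≤ P := comm_le_left ((mim_mono h.VH).trans nP)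
  have oP : PiGrp {2}ᶜ P := pcore_pi.p'_of_ne p2
  have lift : ∀ x ∈ P, ∀ u ∈ V, ⁅x, cs Qs(S) u⁆ ≠ 1 → ∃ e B₁ b η s, D2 S V V₀ B₁ u e b η s ∧ cs Qs(S) e = ⁅x, cs Qs(S) u⁆ :=
    fun x hx u hu n1 => by
      obtain ⟨y, hy, yN, rfl⟩ := mem_mim.1 (pcore_le hx)
      have yu : ⁅y, u⁆ ∈ C(Zs(S)) := mul_mem (mul_mem (mul_mem hy (h.VH hu)) (inv_mem hy)) (inv_mem (h.VH hu))
      have e : cs Qs(S) (piPart {2}ᶜ ⁅y, u⁆) = ⁅cs Qs(S) y, cs Qs(S) u⁆ := by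
        rw [mfun_piPart (h.nQ yu), mfun_comm yN (VN hu),
          piPart_eq_self (oP.elt (KP (commutator_mem_commutator hx (mfun_mem_mim hu))))]
      obtain ⟨B₁, b, η, s, d'⟩ := d.mk' hu (fun c => n1 (by rw [cs_eq_one (d.V0Q c)]; simp)) (piPart_mem yu)
        (fun c => n1 (e ▸ cs_eq_one c)) piElt_piPart (inv_part (esq h.eV hu))
      exact ⟨_, B₁, b, η, s, d', e⟩
  have K1 : K ≠ ⊥ := fun c => e1 (mem_bot.1 (mem_of_sq (oP.elt m) (by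
    have := c.le (commutator_mem_commutator m (mfun_mem_mim vV))
    rwa [← mfun_comm (h.nQ eH) (VN vV), commutatorElement_def, eiv h.eV vV, mul_assoc, mul_assoc, ← mul_assoc v,
      ← i, mul_assoc v e v, ← mul_assoc v v, esq h.eV vV, one_mul, mul_assoc, esq h.eV vV, mul_one,
      mfun_mul (h.nQ eH) (h.nQ eH)] at this)))
  have nZ : S ⫽ Qs(S) ≤ N(Z(K)) := norm_Z (norm_comm ((mim_mono h.SH).trans nP) (mim_norm h.SV))
  by_cases cz : Z(K) ≤ C(V ⫽ Qs(S))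
  · obtain ⟨_, hζ, ζ1⟩ := exists_mem_ne_one' ((pcore_pi.of_le KP).meet_cent (pcore_pi.of_le KP) le_N K1)
    obtain ⟨ζ, ζH, ζN, oζ, rfl⟩ := exists_piElt_lift (pcore_le (KP hζ.1)) (oP.elt (KP hζ.1))
    have cV : ∀ x ∈ C(Zs(S)), PiElt {2}ᶜ x → cs Qs(S) x = cs Qs(S) ζ → x ∈ C(V) := fun x hx o e =>
      d.cB hx (cq x hx v (h.VH vV) (e ▸ (mem_C.1 (cz hζ) _ (mfun_mem_mim vV)).symm)) o
    set E := H4.commStab Qs(S) (Qs(S) ⊓ C1(ζ)) ⊓ C1(ζ)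
    have KE : K ≤ E ⫽ Qs(S) := commutator_le.2 fun x hx y hy => by
      obtain ⟨u, hu, -, rfl⟩ := mem_mim.1 hy
      by_cases n1 : ⁅x, cs Qs(S) u⁆ = 1
      · exact n1 ▸ one_mem _
      obtain ⟨e, B₁, b, η, s, d', ee⟩ := lift x hx u hu n1
      have eN := h.nQ d'.eH
      have c1 : ζ ∈ C(V ⊔ cj e V) := C_sup.ge (mem_inf.2 ⟨cV ζ ζH oζ rfl, by
        rw [← cj_C, mem_cj]
        refine cV _ (mul_mem (mul_mem (inv_mem d'.eH) ζH) d'.eH) (by simpa using oζ.conj e⁻¹) ?_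
        rw [mfun_mul (mul_mem (inv_mem eN) ζN) eN, mfun_mul (inv_mem eN) ζN, mfun_inv eN, mul_assoc, ee,
          ← mem_C.1 hζ.2 _ (commutator_mem_commutator hx hy), inv_mul_cancel_left]⟩)
      have c2 := le_C1_iff.2 c1
      have c3 := c2 d'.d0.eD
      exact ee ▸ mfun_mem_mim ⟨⟨norm_inf (zpowers_le.2 eN) (norm_C1 (zpowers_le.2 c3)) (mem_zpowers e), fun a ha =>
        (sup_le (le_inf d'.V0Q ((d'.le.trans le_sup_left).trans c2)) (le_inf d'.BQ (((cj_mono d'.le).trans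
          le_sup_right).trans c2)) : V₀ ⊔ cj e V₀ ≤ _) ((d'.DE d'.d0.eD).2 a ha)⟩, c3⟩
    obtain ⟨ε, hε, εN, e⟩ := mem_mim.1 (KE hζ.1)
    have q := (cs_eq_iff ζN εN).1 e.symm
    have : ζ ∈ E := by
      have := piPart_mem (π := {2}ᶜ) hε
      rwa [show ε = ζ * (ζ⁻¹ * ε) by group, piPart_eq (by rw [mul_assoc, mem_C1.1 hε.2]; group) oζ
        (by rw [compl_compl]; exact pcore_pi.elt q)] at this
    have := (H4.le_commStab_iff.1 (zpowers_le.2 this.1)).2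
    rw [comm_comm] at this
    exact (ζ1 (cs_eq_one (h.cQ ⟨ζH, cent_symm (cent_of_comm_le this (inf_le_right.trans C_zpowers.ge)
      (oζ.zpowers.coprime' pcore_pi.inf_left)) (mem_zpowers ζ)⟩))).elim
  obtain ⟨x, hx, nx⟩ := SetLike.not_le_iff_exists.1 cz
  obtain ⟨y, hy, ny⟩ : ∃ y ∈ V ⫽ Qs(S), ⁅x, y⁆ ≠ 1 := by
    by_contra! c
    exact nx (mem_C.2 fun y hy => (commutatorElement_eq_one_iff_mul_comm.1 (c y hy)).symm)
  obtain ⟨u, hu, -, rfl⟩ := mem_mim.1 hy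
  obtain ⟨e, B₁, b, η, s, d', ee⟩ := lift x (KP hx.1) u hu ny
  have eZ : cs Qs(S) e ∈ Z(K) := ee ▸ comm_le_left ((mim_mono h.VS).trans nZ) (commutator_mem_commutator hx hy)
  refine ⟨V₀, B₁, u, e, b, η, s, d', fun r hr => mem_N_of_cj_le ?_⟩
  have rH := h.SH hr.1
  have eH := d'.eH
  have m := mul_mem (mul_mem rH eH) (inv_mem rH)
  rw [cj_sup, cj_eq_self (d'.SV0 hr.1), cj_cj, show r * e = r * e * r⁻¹ * r by group, cj_mul, cj_eq_self (d'.SV0 hr.1)]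
  refine sup_le le_sup_left (cj_le_of_mem_N le_sup_left (d'.nX m (cq _ (inv_mem m) e eH ?_)))
  rw [mfun_inv (h.nQ m), mfun_conj (h.nQ rH) (h.nQ eH)]
  exact mem_C.1 eZ.2 _ (inv_mem (conj_mem nZ (mfun_mem_mim hr.1) eZ).1)

end H9.FB
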