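import Cfsg.Agent.H9.MS
import Cfsg.Agent.H27.StK
import Cfsg.Agent.H13.SL2Graph

/-! `(2, p, r)`-triples in `PSL(2, F)` (`tri_odd`, `tri_even`, `tri_PSL2`) and in `PSL(3, 3)` (`tri_L33`). -/

set_option autoImplicit false

namespace H9.MSi
open Subgroup H18 Cfsg Matrix H10 H13
open scoped MatrixGroups

variable {F : Type*} [Field F]

theorem cheb_sq {e : F} (he : e * e = 1) : ∀ n : ℕ, cheb (2 * e) n = e ^ (n + 1) * n
  | 0 => by simp [cheb]
  | 1 => by simp [cheb, pow_two, he]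
  | n + 2 => by
    rw [cheb, cheb_sq he (n + 1), cheb_sq he n]
    push_cast
    linear_combination (e ^ (n + 1) * n) * he

theorem cast_ne [Fintype F] {r : ℕ} (hr : r.Prime) (hd : r ∣ (Fintype.card F - 1) * (Fintype.card F + 1)) : (r : F) ≠ 0 := fun a => by
  have : CharP F r := (CharP.charP_iff_prime_eq_zero hr).2 a
  obtain ⟨m, -, hm⟩ := FiniteField.card F r
  have d : r ∣ Fintype.card F := hm ▸ dvd_pow_self _ m.ne_zero
  have := Fintype.one_lt_card (α := F)
  rcases hr.dvd_mul.1 hd with h | h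
  · exact hr.not_dvd_one (by simpa [Nat.sub_sub_self this.le] using Nat.dvd_sub d h)
  · exact hr.not_dvd_one ((Nat.dvd_add_right d).1 h)

theorem exists_trace [Fintype F] {r : ℕ} (hr : r.Prime) (r2 : r ≠ 2) (hd : r ∣ (Fintype.card F - 1) * (Fintype.card F + 1)) :
    ∃ τ : F, τ ≠ 0 ∧ τ ^ 2 ≠ 4 ∧ ∀ A : SL(2, F), A.1.trace = τ → A ^ r = 1 := by
  have := Fact.mk hr
  obtain ⟨c, hc⟩ := exists_prime_orderOf_dvd_card' (G := SL(2, F)) r (by rw [card_SL2, mul_assoc]; exact hd.mul_left _)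
  have k : ∀ n, c ^ 2 ^ n ≠ 1 := fun n e => r2 ((Nat.prime_dvd_prime_iff_eq hr Nat.prime_two).1
    (hr.dvd_of_dvd_pow (hc ▸ orderOf_dvd_of_pow_eq_one e)))
  obtain ⟨n, rfl⟩ : ∃ n, r = n + 1 := ⟨r - 1, (Nat.sub_add_cancel hr.pos).symm⟩
  have e : cheb c.1.trace (n + 1) • c.1 - cheb c.1.trace n • 1 = 1 := by
    rw [← SL2_pow _ c.2, ← SL2_coe_pow, ← hc, pow_orderOf_eq_one]; rfl
  have a : cheb c.1.trace (n + 1) = 0 := by
    by_contra a
    generalize cheb c.1.trace (n + 1) = α, cheb c.1.trace n = β at e a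
    obtain ⟨x, y, z, w, hd, rfl⟩ := slMk_surj c
    have e := fun i j => congrFun (congrFun e i) j
    have e1 := e 0 0
    have e2 := e 0 1
    have e3 := e 1 0
    have e4 := e 1 1
    simp [a] at e1 e2 e3 e4
    subst e2 e3
    obtain rfl : x = w := mul_left_cancel₀ a (by linear_combination e1 - e4)
    refine k 1 ?_
    rw [pow_one, pow_two, slMk_mul, ← slMk_one, slMk_inj]
    refine ⟨?_, ?_, ?_, ?_⟩ <;> first | linear_combination hd | ring
  have b : cheb c.1.trace n = -1 := by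
    have := congrFun (congrFun e 0) 0
    simp [a] at this
    linear_combination -this
  refine ⟨_, fun t => k 2 ?_, fun t => ?_, fun A hA => SL2_pow_eq_one A n (hA ▸ a) (hA ▸ b)⟩
  · rw [show 2 ^ 2 = 2 * 2 by norm_num, pow_mul, pow_two c, mul_self_of_trace_eq_zero t]
    simp
  · obtain ⟨e, he, t⟩ : ∃ e : F, e * e = 1 ∧ c.1.trace = 2 * e := by
      rcases sq_eq_sq_iff_eq_or_eq_neg.1 (t.trans (by norm_num : (4 : F) = 2 ^ 2)) with t | t
      exacts [⟨1, by simp, by simp [t]⟩, ⟨-1, by simp, by simp [t]⟩]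
    rw [t, cheb_sq he, mul_eq_zero] at a
    have a := a.resolve_left (pow_ne_zero _ (left_ne_zero_of_mul_eq_one he))
    exact cast_ne hr hd a

theorem π_sq {z : SL(2, F)} (h : z.1.trace = 0) : π F z * π F z = 1 := by
  rw [← map_mul, mul_self_of_trace_eq_zero h, π_eq_one_iff]; exact Or.inr rfl

theorem π_ne {a b c d : F} {h : a * d - b * c = 1} (hb : b ≠ 0) : π F (slMk a b c d h) ≠ 1 := by
  rw [Ne, π_eq_one_iff, ← slMk_one, slMk_neg, slMk_inj, slMk_inj]
  simp [hb]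

theorem inv_of_sq {G : Type*} [Group G] {T x : G} (h : T * x * (T * x) = 1) : T * x * T = x⁻¹ :=
  eq_inv_of_mul_eq_one_left (by rw [← h]; group)

theorem tri_odd [Fintype F] (h2 : (2 : F) ≠ 0) {r : ℕ} (hr : r.Prime) (r2 : r ≠ 2)
    (hd : r ∣ (Fintype.card F - 1) * (Fintype.card F + 1)) : ∃ t x : PSL(2, F), Tri t x r (ringChar F) := by
  obtain ⟨τ, t0, t4, ht⟩ := exists_trace hr r2 hd
  have hp := CharP.char_is_prime F (ringChar F)
  obtain ⟨a, b, h⟩ := FiniteField.exists_root_sum_quadratic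
    (f := Polynomial.C (1 : F) * Polynomial.X ^ 2 + Polynomial.C 0 * Polynomial.X + Polynomial.C 4)
    (g := Polynomial.C (τ ^ 2 * (4 - τ ^ 2)) * Polynomial.X ^ 2 + Polynomial.C 0 * Polynomial.X + Polynomial.C 0)
    (Polynomial.degree_quadratic one_ne_zero) (Polynomial.degree_quadratic (mul_ne_zero (pow_ne_zero _ t0) (sub_ne_zero.2 t4.symm)))
    (Nat.odd_iff.1 (H24.odd_of_two_ne_zero h2))
  simp only [Polynomial.eval_add, Polynomial.eval_mul, Polynomial.eval_C, Polynomial.eval_pow, Polynomial.eval_X] at h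
  obtain ⟨a, rfl⟩ : ∃ c, a = 2 * c - τ ^ 2 * b := ⟨(a + τ ^ 2 * b) / 2, by field_simp; ring⟩
  have d : a * -a - b * (τ ^ 2 * (b - a)) = 1 := mul_left_cancel₀ (mul_ne_zero h2 h2) (by linear_combination -h)
  set t := slMk 0 τ⁻¹ (-τ) 0 (by simp [t0])
  set x := slMk 0 (-τ⁻¹) τ τ (by simp [t0])
  set T := slMk _ _ _ _ d
  have e : t * x = slMk 1 1 0 1 (by simp) := by
    rw [slMk_mul, slMk_inj]; simp [t0]
  have x1 : π F x ≠ 1 := π_ne (by simp [t0])
  have xr : π F x ^ r = 1 := by rw [← map_pow, ht x (by simp [x, trace_fin_two_of]), map_one]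
  have ur : (π F t * π F x) ^ ringChar F = 1 := by
    rw [← map_mul, e, ← map_pow, slMk_upper_pow, ← map_one (π F), ← slMk_one]
    congr 2
    simp
  have tt : π F t * π F t = 1 := π_sq (by simp [t, trace_fin_two_of])
  have TT : π F T * π F T = 1 := π_sq (by simp [T, trace_fin_two_of])
  have Tx : π F T * π F x * (π F T * π F x) = 1 := by
    rw [← map_mul]
    refine π_sq ?_
    rw [slMk_mul]
    simp only [slMk_val, trace_fin_two_of]
    field_simp
    ring
  have T1 : π F T ≠ 1 := fun e => by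
    rw [π_eq_one_iff, ← slMk_one, slMk_neg, slMk_inj, slMk_inj] at e
    rcases e with ⟨e1, -, -, e2⟩ | ⟨e1, -, -, e2⟩
    exacts [h2 (by linear_combination -e1 - e2), h2 (by linear_combination e1 + e2)]
  have t1 : π F t ≠ 1 := π_ne (by simp [t0])
  obtain ⟨g, hg⟩ := H27.conj_inv_PSL h2 t1 tt T1 TT
  refine ⟨_, _, hr, hp, r2, fun c => h2 (by simpa [c] using ringChar.Nat.cast_ringChar (R := F)), fun c => ?_, t1, x1, tt, xr, ur,
    g, hg ▸ inv_of_sq Tx⟩
  exact cast_ne hr hd (c ▸ ringChar.Nat.cast_ringChar)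

theorem tri_even [Fintype F] (h2 : (2 : F) = 0) {p r : ℕ} (hp : p.Prime) (hr : r.Prime) (p2 : p ≠ 2) (r2 : r ≠ 2) (pr : p ≠ r)
    (dp : p ∣ (Fintype.card F - 1) * (Fintype.card F + 1)) (dr : r ∣ (Fintype.card F - 1) * (Fintype.card F + 1)) :
    ∃ t x : PSL(2, F), Tri t x p r := by
  obtain ⟨τ, -, -, ht⟩ := exists_trace hp p2 dp
  obtain ⟨σ, -, -, hs⟩ := exists_trace hr r2 dr
  have : CharP F 2 := (CharP.charP_iff_prime_eq_zero Nat.prime_two).2 h2
  set x := slMk 0 1 1 τ (by linear_combination -h2)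
  have x1 : π F x ≠ 1 := π_ne one_ne_zero
  have xp := ht x (by simp [x, trace_fin_two_of])
  obtain ⟨μ, hμ⟩ := FiniteField.isSquare_of_char_two (ringChar.eq F 2) (σ + τ)
  have m0 : μ ≠ 0 := by
    rintro rfl
    have xr := hs x (by simp only [x, slMk_val, trace_fin_two_of]; linear_combination hμ - σ * h2)
    exact x1 (by rw [orderOf_eq_one_iff.1 (Nat.eq_one_of_dvd_coprimes ((Nat.coprime_primes hp hr).2 pr)
      (orderOf_dvd_of_pow_eq_one xp) (orderOf_dvd_of_pow_eq_one xr)), map_one])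
  set t := slMk 1 (μ * μ) 0 1 (by simp)
  set g := slMk μ⁻¹ 0 μ⁻¹ μ (by simp [m0])
  set w := slMk (0 : F) 1 1 0 (by linear_combination -h2)
  have e : g * t = w * g := by
    rw [slMk_mul, slMk_mul, slMk_inj]
    refine ⟨by ring, ?_, by ring, ?_⟩ <;> rw [inv_mul_cancel_left₀ m0]
    exacts [by ring, by linear_combination μ * h2]
  refine ⟨π F t, π F x, hp, hr, p2, r2, pr, π_ne (mul_ne_zero m0 m0), x1,
    π_sq (by simp only [t, slMk_val, trace_fin_two_of]; linear_combination h2), by rw [← map_pow, xp, map_one], ?_, π F g, ?_⟩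
  · rw [← map_mul, ← map_pow, hs, map_one]
    rw [slMk_mul]
    simp only [slMk_val, trace_fin_two_of]
    linear_combination -hμ + τ * h2
  · rw [← map_mul, e, map_mul, mul_inv_cancel_right]
    refine inv_of_sq ?_
    rw [← map_mul]
    refine π_sq ?_
    rw [slMk_mul]
    simp only [slMk_val, trace_fin_two_of]
    linear_combination h2

theorem exists_odd_prime {q : ℕ} (h : 4 ≤ q) : ∃ r : ℕ, r.Prime ∧ r ≠ 2 ∧ r ∣ (q - 1) * (q + 1) := by
  by_contra! c
  have k : ∀ n, n ≠ 0 → n ∣ (q - 1) * (q + 1) → ∃ i, n = 2 ^ i := fun n n0 d =>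
    PiNat.eq_pow (fun r hr e => by_contra fun r2 => c r hr r2 (e.trans d)) n0
  obtain ⟨i, hi⟩ := k (q - 1) (by omega) (dvd_mul_right _ _)
  obtain ⟨j, hj⟩ := k (q + 1) (by omega) (dvd_mul_left _ _)
  obtain _ | _ | i := i <;> obtain _ | _ | j := j <;> omega

theorem tri_PSL2 [Fintype F] (h : 4 ≤ Fintype.card F) : ∃ (t x : PSL(2, F)) (p r : ℕ), Tri t x p r := by
  by_cases h2 : (2 : F) = 0
  · have : CharP F 2 := (CharP.charP_iff_prime_eq_zero Nat.prime_two).2 h2
    have ev := FiniteField.even_card_of_char_two (F := F) (ringChar.eq F 2)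
    obtain ⟨p, hp, dp⟩ := Nat.exists_prime_and_dvd (n := Fintype.card F - 1) (by omega)
    obtain ⟨r, hr, dr⟩ := Nat.exists_prime_and_dvd (n := Fintype.card F + 1) (by omega)
    have p2 : p ≠ 2 := by rintro rfl; omega
    obtain ⟨t, x, e⟩ := tri_even h2 hp hr p2 (by rintro rfl; omega) (by
      rintro rfl
      have := Nat.dvd_sub dr dp
      rw [show Fintype.card F + 1 - (Fintype.card F - 1) = 2 by omega] at this
      exact p2 ((Nat.prime_dvd_prime_iff_eq hp Nat.prime_two).1 this)) (dp.mul_right _) (dr.mul_left _)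
    exact ⟨t, x, p, r, e⟩
  · obtain ⟨r, hr, r2, d⟩ := exists_odd_prime h
    obtain ⟨t, x, e⟩ := tri_odd h2 hr r2 d
    exact ⟨t, x, r, _, e⟩

instance decEqSL33 : DecidableEq SL(3, ZMod 3) := fun a b => decidable_of_iff (a.1 = b.1) Subtype.ext_iff.symm

theorem iso33 : Nonempty (SL(3, ZMod 3) ≃* PSL(3, ZMod 3)) :=
  ⟨MulEquiv.ofBijective (QuotientGroup.mk' _) ⟨(MonoidHom.ker_eq_bot_iff _).1 (by
    rw [QuotientGroup.ker_mk', ← card_eq_one, card_center_SL]; simp), QuotientGroup.mk'_surjective _⟩⟩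

theorem tri_SL33 : ∃ t x : SL(3, ZMod 3), Tri t x 3 13 :=
  ⟨⟨!![1, 0, 0; 0, 2, 0; 2, 0, 2], by decide⟩, ⟨!![0, 0, 1; 1, 0, 0; 0, 1, 0], by decide⟩, Nat.prime_three, by norm_num, by norm_num,
    by norm_num, by norm_num, fun e => absurd (congrArg Subtype.val e) (by decide),
    fun e => absurd (congrArg Subtype.val e) (by decide), by decide, by decide, by decide +kernel,
    ⟨!![0, 0, 1; 0, 2, 0; 1, 0, 1], by decide⟩, by decide +kernel⟩

end H9.MSi
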