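import Cfsg.Agent.H9.MS2
import Cfsg.Agent.H13.SzChar
import Cfsg.Agent.H13.SzSol
import Cfsg.Agent.S0840

/-! `(2, p, r)`-triples in the Suzuki groups (`tri_Sz`) and in every group of Thompson's list (`ML.tri`, `Sec.tri`). -/

set_option autoImplicit false

namespace H9
open Subgroup H18 Cfsg H13 H13.Sz
open scoped MatrixGroups ComplexConjugate
universe u
namespace MSi

variable {F : Type*} [Field F] [Fintype F] {m : ℕ} [hF : IsSz F m]

theorem sz_prod {s : Fˣ} (hs : s ≠ 1) {c : Cfsg.Sz F m} (hc : c ∈ T1 F m ∨ c ∈ T2 F m) (c1 : c ≠ 1) :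
    ∃ t x, IsConj (u m 0 1) t ∧ IsConj (h m s) x ∧ t * x = c := by
  have e := Cfsg.Agent.S0840.result (u m (0 : F) 1) (h m s) c
  have h1 := (tor_h (m := m) hs).1
  have h0 := h_mem_H (m := m) s
  rw [finsum_eq_sum_of_fintype, sum_irr (fun χ => χ (u m 0 1) * χ (h m s) * conj (χ c) / χ 1),
    Finset.sum_eq_zero (s := nt (H F m)) fun θ _ => by
      rcases hc with hc | hc
      · simp [(vals_XL (isTorus_H.irr_one θ.2)).on1 _ hc c1]
      · simp [(vals_XL (isTorus_H.irr_one θ.2)).on2 _ hc c1],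
    Finset.sum_eq_zero (s := nt (T1 F m)) fun θ _ => by simp [(vals_YL (ell_t1.isTorus.irr_one θ.2)).onH _ h0 h1],
    Finset.sum_eq_zero (s := nt (T2 F m)) fun θ _ => by simp [(vals_ZL (ell_t2.isTorus.irr_one θ.2)).onH _ h0 h1],
    vals_stX.i, vals_W1.onH _ h0 h1, vals_W2.onH _ h0 h1] at e
  have k : ∀ a : Cfsg.Sz F m, (Nat.card {x // IsConj a x} : ℂ) ≠ 0 := fun a =>
    have : Nonempty {x // IsConj a x} := ⟨⟨a, IsConj.refl a⟩⟩
    Nat.cast_ne_zero.2 Nat.card_pos.ne'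
  have n : (Nat.card (Cfsg.Sz F m) : ℂ) ≠ 0 := Nat.cast_ne_zero.2 Nat.card_pos.ne'
  obtain ⟨⟨⟨t, x⟩, hp⟩⟩ := (Nat.card_ne_zero.1 (fun z => by
    rw [z] at e
    exact mul_ne_zero (div_ne_zero (mul_ne_zero (k _) (k _)) n) (by simp) (e.symm.trans Nat.cast_zero))).1
  exact ⟨t, x, hp⟩

theorem tri_Sz {p r : ℕ} (hp : p.Prime) (hr : r.Prime) (dp : p ∣ Fintype.card F - 1) (dr : r ∣ Fintype.card F ^ 2 + 1) :
    ∃ t x : Cfsg.Sz F m, Tri t x p r := by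
  have := Fact.mk hr
  obtain ⟨_, ⟨s, rfl⟩, hs⟩ := cauchy hp (card_H (F := F) ▸ dp)
  obtain ⟨c', hc'⟩ := exists_prime_orderOf_dvd_card' (G := Cfsg.Sz F m) r (by rw [card_Sz]; exact (dr.mul_left _).mul_right _)
  have c1 : c' ≠ 1 := by rintro rfl; exact hr.one_lt.ne (by simpa using hc')
  obtain ⟨c, hc, c1, o⟩ : ∃ c : Cfsg.Sz F m, (c ∈ T1 F m ∨ c ∈ T2 F m) ∧ c ≠ 1 ∧ orderOf c = r := by
    rcases (elliptic_of_orderOf_dvd c1 (hc' ▸ dr)).mem_T with k | k <;> obtain ⟨g, a, ha, a1, rfl⟩ := k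
    · exact ⟨a, Or.inl ha, a1, by rwa [orderOf_conj'] at hc'⟩
    · exact ⟨a, Or.inr ha, a1, by rwa [orderOf_conj'] at hc'⟩
  rw [hHom_apply] at hs
  have s1 : s ≠ 1 := by rintro rfl; exact hp.one_lt.ne (by simpa using hs)
  obtain ⟨t, x, h1, h2, rfl⟩ := sz_prod s1 hc c1
  have ot : orderOf t = 2 := by rw [← IsConj.orderOf_eq' h1, orderOf_u_zero one_ne_zero]
  have ox : orderOf x = p := by rw [← IsConj.orderOf_eq' h2, hs]
  obtain ⟨g, rfl⟩ := isConj_iff.1 h2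
  have cw : IsConj (u m 0 1) (w F m) := ((isConj_of_pow_four w_ne_one 
    ((pow_mul _ 2 2).trans (by rw [pow_two (w F m), w_mul_w, one_pow]))).resolve_right fun a => a.1 w_mul_w).2
  obtain ⟨k, hk⟩ := isConj_iff.1 ((h1.symm.trans cw).trans (isConj_iff.2 ⟨g, rfl⟩))
  refine ⟨t, _, hp, hr, ?_, ?_, ?_, ne_one_of_orderOf ot, ?_, mul_self_of_orderOf ot, ox ▸ pow_orderOf_eq_one _,
    o ▸ pow_orderOf_eq_one _, k, ?_⟩
  · rintro rfl
    exact (Nat.not_even_iff_odd.2 odd_card_sub_one) (even_iff_two_dvd.2 dp)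
  · rintro rfl
    exact (Nat.not_even_iff_odd.2 odd_card_sq_add_one) (even_iff_two_dvd.2 dr)
  · rintro rfl
    exact hp.one_lt.ne' (Nat.eq_one_of_dvd_coprimes coprime_sub_add dp dr)
  · intro e
    exact hp.one_lt.ne (by rw [← ox, e, orderOf_one])
  · rw [hk]
    calc _ = g * (w F m * h m s * w F m) * g⁻¹ := by group
      _ = _ := by rw [w_h_w, ← h_inv]; group

end MSi
open MSi
variable {G : Type*} [Group G]

theorem ML.tri (h : ML G) : ∃ (t x : G) (p r : ℕ), Tri t x p r := by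
  have k : ∀ {X : Type} [Group X] (e : G ≃* X), (∃ (t x : X) (p r : ℕ), Tri t x p r) → ∃ (t x : G) (p r : ℕ), Tri t x p r :=
    fun e ⟨_, _, p, r, h⟩ => ⟨_, _, p, r, h.map e.symm.toMonoidHom e.symm.injective⟩
  rcases h with ⟨F, _, _, h, ⟨e⟩⟩ | ⟨⟨e⟩⟩ | h
  · exact k e (tri_PSL2 h)
  · obtain ⟨f⟩ := iso33
    obtain ⟨t, x, h⟩ := tri_SL33
    exact k (e.trans f.symm) ⟨t, x, _, _, h⟩
  · obtain ⟨F, _, _, m, _, ⟨e⟩⟩ := H27.isoSuzuki_iff.1 h
    have := eight_le_card (F := F)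
    obtain ⟨p, hp, dp⟩ := Nat.exists_prime_and_dvd (n := Fintype.card F - 1) (by omega)
    obtain ⟨r, hr, dr⟩ := Nat.exists_prime_and_dvd (n := Fintype.card F ^ 2 + 1) (by simp)
    obtain ⟨t, x, h⟩ := tri_Sz hp hr dp dr
    exact k e ⟨t, x, p, r, h⟩

/-- a nonsolvable group has a minimal simple section in Thompson's list -/
theorem exists_ML [MS.{u}] {G : Type u} [Group G] [Finite G] (h : ¬ Group.IsSolvable G) :
    ∃ (D : Subgroup G) (N : Subgroup D) (_ : N.Normal), Sec (QuotientGroup.mk' N) ∧ ML (D ⧸ N) := by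
  obtain ⟨D, N, _, s⟩ := exists_sec h
  exact ⟨D, N, _, s, MS.ms _ s.ms⟩

end H9
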