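import Cfsg.Agent.H9.MS3

/-! Solvability criteria from the classification of minimal simple groups: two-generator criteria (`two_gen`, `conj_crit`,
`sol_sub`, `odd_two`), coprime triples (`coprime_triple`), Sylow products (`sylow_prod`). -/

set_option autoImplicit false

namespace H9.MSi
open Subgroup H18 Cfsg
universe u
variable [MS.{u}] {G : Type u} [Group G] [Finite G]

omit [MS.{u}] in
theorem pow_of_pi {x : G} {p : ℕ} (h : PiElt {p} x) : ∃ k, orderOf x = p ^ k := h.eq_pow (orderOf_pos x).ne'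

theorem exists_tri (h : ¬ Group.IsSolvable G) : ∃ (D : Subgroup G) (N : Subgroup D) (_ : N.Normal) (t x : G) (p r : ℕ),
    Sec (QuotientGroup.mk' N) ∧ t ∈ D ∧ x ∈ D ∧ PiElt {2} t ∧ PiElt {p} x ∧
      Tri (mfun (QuotientGroup.mk' N) t) (mfun (QuotientGroup.mk' N) x) p r := by
  obtain ⟨D, N, _, s, l⟩ := exists_ML h
  obtain ⟨t, x, p, r, k⟩ := l.tri
  obtain ⟨t, t1, t2, rfl⟩ := s.lift (π := {2}) (z := t) (by rw [PiElt, k.ot]; exact piNat_self Nat.prime_two)
  obtain ⟨x, x1, x2, rfl⟩ := s.lift (π := {p}) (z := x) (by rw [PiElt, k.ox]; exact piNat_self k.pp)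
  exact ⟨D, N, _, t, x, p, r, s, t1, x1, t2, x2, k⟩

theorem two_gen (h : ∀ a b : G, Group.IsSolvable (closure ({a, b} : Set G))) : Group.IsSolvable G := by
  by_contra c
  obtain ⟨D, N, _, t, x, p, r, s, t1, x1, -, -, k⟩ := exists_tri c
  exact k.not_solv' ((s.pair t1 x1).2 (h t x))

theorem conj_crit (h : ∀ p q : ℕ, p.Prime → q.Prime → p ≠ q → ∀ x y : G, (∃ k : ℕ, orderOf x = p ^ k) → (∃ k : ℕ, orderOf y = q ^ k) →
    Group.IsSolvable (closure ({x, y} : Set G)) → ∀ g : G, Group.IsSolvable (closure ({x, g * y * g⁻¹} : Set G))) :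
    Group.IsSolvable G := by
  by_contra c
  obtain ⟨D, N, _, t, x, p, r, s, t1, x1, t2, x2, k⟩ := exists_tri c
  obtain ⟨g, hg⟩ := k.inv
  obtain ⟨g, g1, rfl⟩ := s.lift' g
  have := h p 2 k.pp Nat.prime_two k.p2 x _ (pow_of_pi x2) (pow_of_pi (t2.conj g)) ((s.pair x1 (conj_mem le_N g1 t1)).1 (by
    rw [mfun_conj g1 t1, Set.pair_comm]
    exact solv_of_norm (norm_of_inv (by rwa [inv_eq_of_orderOf ((orderOf_conj' _ _).trans k.ot)])))) g⁻¹
  rw [show g⁻¹ * (g * t * g⁻¹) * g⁻¹⁻¹ = t by group, Set.pair_comm] at this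
  exact k.not_solv' ((s.pair t1 x1).2 this)

theorem sol_sub (h : ∀ x : G, ∃ H : Subgroup G, (H : Set G) = {y : G | Group.IsSolvable (closure ({x, y} : Set G))}) :
    Group.IsSolvable G := by
  by_contra c
  obtain ⟨D, N, _, t, x, p, r, s, t1, x1, -, -, k⟩ := exists_tri c
  obtain ⟨g, hg⟩ := k.inv
  obtain ⟨g, g1, rfl⟩ := s.lift' g
  obtain ⟨H, hH⟩ := h t
  have T := conj_mem le_N g1 t1
  have TT := mul_self_of_orderOf ((orderOf_conj' (mfun (QuotientGroup.mk' N) g) _).trans k.ot)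
  rw [← mfun_conj g1 t1] at hg TT
  have a : g * t * g⁻¹ ∈ (H : Set G) := hH ▸ (s.pair t1 T).1 (solv_invol k.tt TT)
  have b : g * t * g⁻¹ * x ∈ (H : Set G) := hH ▸ (s.pair t1 (mul_mem T x1)).1 (solv_invol k.tt (by
    rw [mfun_mul T x1, ← mul_assoc, hg, inv_mul_cancel]))
  have : x ∈ (H : Set G) := inv_mul_cancel_left (g * t * g⁻¹) x ▸ H.mul_mem (H.inv_mem a) b
  rw [hH] at this
  exact k.not_solv' ((s.pair t1 x1).2 this)

theorem odd_two (h : ∀ x y : G, (∃ p k : ℕ, p.Prime ∧ p ≠ 2 ∧ orderOf x = p ^ k) → (∃ k : ℕ, orderOf y = 2 ^ k) →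
    Group.IsSolvable (closure ({x, y * x * y⁻¹} : Set G))) : Group.IsSolvable G := by
  by_contra c
  obtain ⟨D, N, _, t, x, p, r, s, t1, x1, t2, x2, k⟩ := exists_tri c
  obtain ⟨n, hn⟩ := pow_of_pi x2
  have := (s.pair x1 (conj_mem le_N t1 x1)).2 (h x t ⟨p, n, k.pp, k.p2, hn⟩ (pow_of_pi t2))
  rw [mfun_conj t1 x1] at this
  generalize mfun (QuotientGroup.mk' N) t = t, mfun (QuotientGroup.mk' N) x = x at k this
  refine k.not_solv (mem_sup_left (mem_zpowers t)) (mem_sup_right (subset_closure (by simp)))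
    (Solv.sup_norm abel_zpowers.solv this (zpowers_le.2 (mem_N_iff_cj.2 ?_)))
  rw [cj_closure, Set.image_pair, Set.pair_comm]
  congr 2
  calc _ = t * t * x * (t * t)⁻¹ := by group
    _ = x := by rw [k.tt]; group

omit [MS.{u}] in
theorem lift_pi {N : Subgroup G} [N.Normal] {π : Set ℕ} {z : G ⧸ N} (h : PiElt π z) : ∃ x : G, PiElt π x ∧ (x : G ⧸ N) = z := by
  obtain ⟨x, rfl⟩ := QuotientGroup.mk_surjective z
  refine ⟨piPart π x, piElt_piPart, ?_⟩
  have h1 : PiElt πᶜ ((QuotientGroup.mk' N) ((piPart π x)⁻¹ * x)) := piElt_inv_piPart_mul.of_dvd (orderOf_map_dvd _ _)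
  have h2 : PiElt π ((QuotientGroup.mk' N) ((piPart π x)⁻¹ * x)) := h.of_mem_zpowers (by
    have := mem_map_of_mem (QuotientGroup.mk' N) (mul_mem (inv_mem (piPart_mem_zpowers (π := π))) (mem_zpowers x))
    rwa [MonoidHom.map_zpowers] at this)
  exact QuotientGroup.eq.2 ((QuotientGroup.eq_one_iff _).1 (h2.eq_one' h1))

omit [MS.{u}] [Finite G] in
theorem pi_of_quo {N : Subgroup G} [N.Normal] {π : Set ℕ} {x : G} (hN : PiGrp π N) (h : PiElt π (x : G ⧸ N)) : PiElt π x := by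
  have := hN.elt ((QuotientGroup.eq_one_iff _).1 (QuotientGroup.mk_pow N x _ ▸ pow_orderOf_eq_one (x : G ⧸ N)))
  refine (h.mul this).of_dvd (orderOf_dvd_of_pow_eq_one ?_)
  rw [pow_mul, pow_orderOf_eq_one]

/-- three nontrivial elements of pairwise coprime orders with product one -/
def CT (G : Type*) [Group G] : Prop := ∃ a b c : G, a ≠ 1 ∧ b ≠ 1 ∧ c ≠ 1 ∧ (orderOf a).Coprime (orderOf b) ∧
  (orderOf b).Coprime (orderOf c) ∧ (orderOf a).Coprime (orderOf c) ∧ a * b * c = 1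

theorem coprime_triple (h : ¬ Group.IsSolvable G) : CT G := by
  refine ind (fun G _ => CT G) ?_ ?_ ?_ G h
  · rintro G _ _ H - ⟨a, b, c, h1, h2, h3, h4, h5, h6, h7⟩
    exact ⟨a, b, c, by simpa using h1, by simpa using h2, by simpa using h3, by simpa using h4, by simpa using h5,
      by simpa using h6, by simpa using congrArg Subtype.val h7⟩
  · intro G _ _ N _ p hp hN _ _ ⟨a, b, c, h1, h2, h3, h4, h5, h6, h7⟩
    have key : ∀ a b c : G ⧸ N, a ≠ 1 → b ≠ 1 → c ≠ 1 → (orderOf a).Coprime (orderOf b) → (orderOf b).Coprime (orderOf c) →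
        (orderOf a).Coprime (orderOf c) → a * b * c = 1 → ¬ p ∣ orderOf a → ¬ p ∣ orderOf b → CT G := by
      intro a b c h1 h2 h3 h4 h5 h6 h7 pa pb
      obtain ⟨x, x1, rfl⟩ := lift_pi (piNat_primes (n := orderOf a))
      obtain ⟨y, y1, rfl⟩ := lift_pi (piNat_primes (n := orderOf b))
      obtain rfl : (((x * y)⁻¹ : G) : G ⧸ N) = c := by simpa using (eq_inv_of_mul_eq_one_right h7).symm
      have z1 : PiElt (primes (orderOf (((x * y)⁻¹ : G) : G ⧸ N)) ∪ {p}) (x * y)⁻¹ :=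
        pi_of_quo ((hN.pi hp).sub Set.subset_union_right) (piNat_primes.sub Set.subset_union_left)
      have k : ∀ w : G, PiElt (primes (orderOf (w : G ⧸ N))) w → (orderOf (w : G ⧸ N)).Coprime (orderOf (((x * y)⁻¹ : G) : G ⧸ N)) →
          ¬ p ∣ orderOf (w : G ⧸ N) → (orderOf w).Coprime (orderOf (x * y)⁻¹) := fun w w1 w2 w3 =>
        w1.coprime_of_disj z1 fun q hq a b => b.elim (fun b => hq.not_dvd_one (w2 ▸ Nat.dvd_gcd a.2 b.2)) fun b => w3 (b ▸ a.2)
      exact ⟨x, y, (x * y)⁻¹, fun e => h1 (by simp [e]), fun e => h2 (by simp [e]), fun e => h3 (by simp [e]),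
        x1.coprime_of_disj y1 fun q hq a b => hq.not_dvd_one (h4 ▸ Nat.dvd_gcd a.2 b.2), k y y1 h5 pb, k x x1 h6 pa,
        mul_inv_cancel _⟩
    have rot : ∀ {a b c : G ⧸ N}, a * b * c = 1 → b * c * a = 1 := fun {a b c} e => by
      rw [mul_assoc] at e
      exact mul_eq_one_comm.1 e
    by_cases pa : p ∣ orderOf a
    · exact key b c a h2 h3 h1 h5 h6.symm h4.symm (rot h7) (fun d => hp.not_dvd_one (h4 ▸ Nat.dvd_gcd pa d))
        fun d => hp.not_dvd_one (h6 ▸ Nat.dvd_gcd pa d)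
    by_cases pb : p ∣ orderOf b
    · exact key c a b h3 h1 h2 h6.symm h4 h5.symm (rot (rot h7)) (fun d => hp.not_dvd_one (h5 ▸ Nat.dvd_gcd pb d)) pa
    exact key a b c h1 h2 h3 h4 h5 h6 h7 pa pb
  · intro G _ _ hG
    obtain ⟨t, x, p, r, k⟩ := (MS.ms G hG).tri
    refine ⟨t, x, (t * x)⁻¹, k.t1, k.x1, inv_ne_one.2 k.tx1, ?_, ?_, ?_, mul_inv_cancel _⟩ <;>
      simp only [orderOf_inv, k.ot, k.ox, k.otx]
    exacts [(Nat.coprime_primes Nat.prime_two k.pp).2 k.p2.symm, (Nat.coprime_primes k.pp k.rp).2 k.pr,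
      (Nat.coprime_primes Nat.prime_two k.rp).2 k.r2.symm]

/-- a nontrivial relation between elements of distinct prime power orders -/
def SR (G : Type*) [Group G] : Prop := ∃ (l : List ℕ) (f : ℕ → G), l.Nodup ∧ (∀ p ∈ l, p.Prime) ∧ (∀ p, PiElt {p} (f p)) ∧
  (l.map f).prod = 1 ∧ (∃ p ∈ l, f p ≠ 1) ∧ ∀ p ∉ l, f p = 1

omit [MS.{u}] [Finite G] in
theorem SR.ext (h : SR G) (s : Finset ℕ) (hs : ∀ p ∈ s, p.Prime) : ∃ (l : List ℕ) (f : ℕ → G), l.Nodup ∧ (∀ p ∈ l, p.Prime) ∧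
    (∀ p, PiElt {p} (f p)) ∧ (l.map f).prod = 1 ∧ (∃ p ∈ l, f p ≠ 1) ∧ (∀ p ∉ l, f p = 1) ∧ ∀ p ∈ s, p ∈ l := by
  obtain ⟨l, f, h1, h2, h3, h4, ⟨p, h5, h6⟩, h7⟩ := h
  refine ⟨l ++ (s.filter (· ∉ l)).toList, f, h1.append (Finset.nodup_toList _) (by simp +contextual [List.disjoint_left]), ?_, h3, ?_,
    ⟨p, by simp [h5], h6⟩, fun p hp => h7 p fun c => hp (by simp [c]), fun p hp => by by_cases c : p ∈ l <;> simp [c, hp]⟩
  · intro q hq
    rcases List.mem_append.1 hq with c | c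
    exacts [h2 q c, hs q (by simp at c; exact c.1)]
  · rw [List.map_append, List.prod_append, h4, one_mul]
    exact List.prod_eq_one fun x hx => by
      obtain ⟨q, hq, rfl⟩ := List.mem_map.1 hx
      exact h7 q (by simp at hq; exact hq.2)

theorem sylow_rel (h : ¬ Group.IsSolvable G) : SR G := by
  refine ind (fun G _ => SR G) ?_ ?_ ?_ G h
  · rintro G _ _ H - ⟨l, f, h1, h2, h3, h4, ⟨p, h5, h6⟩, h7⟩
    refine ⟨l, fun p => f p, h1, h2, fun p => by simpa [PiElt] using h3 p, ?_, ⟨p, h5, by simpa using h6⟩, fun p hp => by simp [h7 p hp]⟩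
    have := congrArg H.subtype h4
    rwa [map_list_prod, List.map_map] at this
  · intro G _ _ N _ p hp hN _ _ k
    obtain ⟨l, f, h1, h2, h3, h4, ⟨q, h5, h6⟩, h7, h8⟩ := k.ext {p} (by simpa using hp)
    obtain ⟨a, b, rfl⟩ := List.append_of_mem (h8 p (by simp))
    have : ∀ q, ∃ x : G, PiElt {q} x ∧ (x : G ⧸ N) = f q ∧ (f q = 1 → x = 1) := fun q => by
      by_cases c : f q = 1
      · exact ⟨1, .one, by simp [c], fun _ => rfl⟩
      · obtain ⟨x, x1, x2⟩ := lift_pi (h3 q)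
        exact ⟨x, x1, x2, fun e => absurd e c⟩
    choose F F1 F2 F3 using this
    have k : ∀ l : List ℕ, (((l.map F).prod : G) : G ⧸ N) = (l.map f).prod := fun l => by
      rw [← QuotientGroup.mk'_apply, map_list_prod, List.map_map]
      exact congrArg (fun g => (l.map g).prod) (funext F2)
    obtain ⟨na, nb⟩ : p ∉ a ∧ p ∉ b := by
      simp only [List.nodup_append, List.nodup_cons] at h1
      exact ⟨fun c => h1.2.2 p c p (by simp) rfl, h1.2.1.1⟩
    set z := ((a.map F).prod)⁻¹ * ((b.map F).prod)⁻¹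
    have e : (z : G ⧸ N) = f p := by
      simp only [List.map_append, List.map_cons, List.prod_append, List.prod_cons] at h4
      rw [QuotientGroup.mk_mul, QuotientGroup.mk_inv, QuotientGroup.mk_inv, k, k, mul_eq_one_iff_inv_eq.1 h4, mul_inv_cancel_right]
    have u : ∀ l : List ℕ, p ∉ l → l.map (Function.update F p z) = l.map F := fun l hl =>
      List.map_congr_left fun q hq => Function.update_of_ne (by rintro rfl; exact hl hq) _ _
    have v : ∀ q, ((Function.update F p z q : G) : G ⧸ N) = f q := fun q => by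
      by_cases c : q = p
      · rw [c, Function.update_self, e]
      · rw [Function.update_of_ne c, F2]
    refine ⟨_, Function.update F p z, h1, h2, fun q => ?_, ?_, ⟨q, h5, fun c => h6 (by rw [← v, c]; rfl)⟩, fun q hq => ?_⟩
    · by_cases c : q = p
      · rw [c, Function.update_self]
        exact pi_of_quo (hN.pi hp) (e ▸ h3 p)
      · rw [Function.update_of_ne c]
        exact F1 q
    · rw [List.map_append, List.map_cons, List.prod_append, List.prod_cons, u a na, u b nb, Function.update_self]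
      simp [z]
    · rw [Function.update_of_ne (by rintro rfl; exact hq (by simp))]
      exact F3 q (h7 q hq)
  · intro G _ _ hG
    obtain ⟨t, x, p, r, k⟩ := (MS.ms G hG).tri
    have := k.p2
    have := k.r2
    have := k.pr
    refine ⟨[2, p, r], fun q => if q = 2 then t else if q = p then x else if q = r then (t * x)⁻¹ else 1, by simp; omega,
      by simp [Nat.prime_two, k.pp, k.rp], fun q => ?_, by simp [k.p2, k.r2, k.pr.symm], ⟨2, by simp, by simp [k.t1]⟩,
      by simp +contextual⟩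
    beta_reduce
    split_ifs with a b c
    · rw [PiElt, a, k.ot]; exact piNat_self Nat.prime_two
    · rw [PiElt, b, k.ox]; exact piNat_self k.pp
    · rw [PiElt, c, orderOf_inv, k.otx]; exact piNat_self k.rp
    · exact .one

theorem sylow_prod (h : ∀ (t : ℕ) (p : Fin t → ℕ), (∀ i, (p i).Prime) → Function.Injective p →
    (∀ q : ℕ, q.Prime → q ∣ Nat.card G → ∃ i, p i = q) → ∀ (S : (i : Fin t) → Sylow (p i) G) (g : G),
      ∃ s : (i : Fin t) → G, (∀ i, s i ∈ (S i : Subgroup G)) ∧ g = (List.ofFn s).prod) : Group.IsSolvable G := by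
  by_contra c
  obtain ⟨l, f, h1, h2, h3, h4, ⟨q, h5, h6⟩, -, h8⟩ := (sylow_rel c).ext (Nat.card G).primeFactors fun p => Nat.prime_of_mem_primeFactors
  have hp : ∀ i, (l.get i).Prime := fun i => h2 _ (l.get_mem i)
  have inj := List.nodup_iff_injective_get.1 h1
  have : ∀ i, ∃ S : Sylow (l.get i) G, f (l.get i) ∈ (S : Subgroup G) := fun i => by
    obtain ⟨P, hP, le⟩ := exists_sylow_le (hp i) (h3 _).zpowers le_top
    obtain ⟨S, rfl⟩ := hP.exists_sylow_top (hp i)
    exact ⟨S, le (mem_zpowers _)⟩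
  choose S hS using this
  let Φ : ((i : Fin l.length) → (S i : Subgroup G)) → G := fun s => (List.ofFn fun i => (s i : G)).prod
  have su : Function.Surjective Φ := fun g => by
    obtain ⟨s, s1, s2⟩ := h _ l.get hp inj (fun q hq d => List.mem_iff_get.1 (h8 q (Nat.mem_primeFactors.2 ⟨hq, d, Nat.card_pos.ne'⟩))) S g
    exact ⟨fun i => ⟨s i, s1 i⟩, s2.symm⟩
  have bi := (Nat.bijective_iff_surjective_and_card Φ).2 ⟨su, le_antisymm (Nat.le_of_dvd Nat.card_pos (by
    rw [Nat.card_pi]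
    exact Fintype.prod_dvd_of_isRelPrime (fun i j e => Nat.coprime_iff_isRelPrime.1 ((hall_sylow_top (hp i) _).pi.coprime
      ((hall_sylow_top (hp j) _).pi.p'_of_ne (inj.ne e.symm)))) fun i => card_subgroup_dvd_card _)) (Nat.card_le_card_of_surjective _ su)⟩
  have := bi.1 (a₁ := fun i => ⟨_, hS i⟩) (a₂ := 1) (by
    simp only [Φ]
    rw [show (fun i => f (l.get i)) = f ∘ l.get from rfl, ← List.map_ofFn, List.ofFn_get, h4]
    simp)
  obtain ⟨i, rfl⟩ := List.mem_iff_get.1 h5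
  exact h6 (congrArg Subtype.val (congrFun this i))

end H9.MSi
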