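import Cfsg.Agent.H17.Pron

/-! Pronormality of overgroups of Sylow subgroups: criteria `crit`, `crit_odd`, `crit_bn`, `fin`; Bruhat normal form in
`GL n` (`nf`, `nf_uniq`) and the characteristic two case `sp_two` for fixed points of an involution. -/

set_option autoImplicit false
set_option linter.unusedSectionVars false

namespace H9.Pn
open Subgroup H17

section gen
variable {G : Type*} [Group G] [Finite G] {p : ℕ} [Fact p.Prime] {S L : Subgroup G}

theorem crit (hS : IsSyl p S L) (h : ∀ K, S ≤ K → K ≤ L → ∀ g ∈ L, g ∈ normalizer (S : Set G) →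
    ∃ x ∈ K ⊔ cj g K, cj g K = cj x K) : SP p L := by
  have key : ∀ K, S ≤ K → K ≤ L → PN L K := fun K h1 h2 g hg => by
    have h3 : K ⊔ cj g K ≤ L := sup_le h2 ((cj_mono g h2).trans (cj_eq_of_mem hg).le)
    obtain ⟨y, hy, e⟩ := (hS.mono (h1.trans le_sup_left) h3).exists_cj_eq
      ((hS.cj_of_mem_normalizer (le_normalizer hg)).mono ((cj_mono g h1).trans le_sup_right) h3)
    refine pn_trans (g := y⁻¹ * g) hy (by rw [← cj_mul, mul_inv_cancel_left])
      (h K h1 h2 _ (mul_mem (inv_mem (h3 hy)) hg) ?_)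
    rw [mem_normalizer_iff_cj, cj_mul, ← e, cj_inv_cj]
  intro S' K hS' h1 h2
  obtain ⟨a, ha, e⟩ := hS'.exists_cj_eq hS
  have := (key (cj a K) (e ▸ cj_mono a h1) ((cj_mono a h2).trans (cj_eq_of_mem ha).le)).map
    (MulAut.conj a⁻¹).toMonoidHom
  change PN (cj a⁻¹ L) (cj a⁻¹ (cj a K)) at this
  rwa [cj_inv_cj, cj_eq_of_mem (inv_mem ha)] at this

theorem crit_norm (hS : IsSyl p S L) (h : ∀ K, S ≤ K → K ≤ L → ∀ g ∈ L, g ∈ normalizer (S : Set G) →
    g ∈ normalizer (K : Set G)) : SP p L :=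
  crit hS fun K h1 h2 g hg hn => ⟨1, one_mem _, by rw [cj_one, mem_normalizer_iff_cj.1 (h K h1 h2 g hg hn)]⟩

theorem norm_le (hS : IsSyl 2 S L) {K M : Subgroup G} (hK : K ≤ L) (h1 : S ≤ M)
    (h : ∀ x ∈ K, Odd (orderOf x) → x ∈ normalizer (S : Set G) → x ∈ M) : K ⊓ normalizer (S : Set G) ≤ M := by
  refine le_of_forall_ppow_mem fun q hq x hx k e => ?_
  rcases hq.eq_two_or_odd' with rfl | ho
  · exact h1 (hS.le_of_le_normalizer (isPGroup_zpowers_of_pow e) (zpowers_le.2 (hK hx.1)) (zpowers_le.2 hx.2)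
      (mem_zpowers x))
  · exact h x hx.1 (Odd.of_dvd_nat ho.pow (orderOf_dvd_of_pow_eq_one e)) hx.2

theorem crit_odd (hS : IsSyl 2 S L) (h : ∀ x ∈ L, Odd (orderOf x) → x ∈ normalizer (S : Set G) → x ∈ center G) :
    SP 2 L := crit_norm hS fun _ h1 _ _ hg hn =>
  norm_le hS le_rfl (h1.trans le_normalizer) (fun x a b c => center_le_normalizer _ (h x a b c)) ⟨hg, hn⟩

theorem crit_bn (hS : IsSyl p S L) (hc : ∀ a ∈ L, ∀ b ∈ L, a ∈ normalizer (S : Set G) → b ∈ normalizer (S : Set G) →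
    a * b * a⁻¹ * b⁻¹ ∈ S) (hh : ∀ g ∈ L, ∀ c ∈ L, c ∈ normalizer (S : Set G) →
    ∃ u ∈ S, g⁻¹ * (u * c) * g ∈ normalizer (S : Set G)) : SP p L := by
  refine crit_norm hS fun K h1 h2 c hc1 hc2 => mem_normalizer_of_conj_mem fun h hh1 => ?_
  have h3 : S ⊔ cj h S ≤ K := sup_le h1 ((cj_mono h h1).trans (cj_eq_of_mem hh1).le)
  obtain ⟨y, hy, e⟩ := (hS.mono le_sup_left (h3.trans h2)).exists_cj_eq
    ((hS.cj_of_mem_normalizer (le_normalizer (h2 hh1))).mono le_sup_right (h3.trans h2))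
  have h4 : y⁻¹ * h ∈ normalizer (S : Set G) := by rw [mem_normalizer_iff_cj, cj_mul, ← e, cj_inv_cj]
  have h5 : S ⊔ cj h S ≤ K.comap (MulAut.conj c).toMonoidHom := by
    refine sup_le (fun s hs => h1 ((mem_normalizer_iff.1 hc2 s).1 hs)) ?_
    rintro _ ⟨v, hv, rfl⟩
    obtain ⟨u, hu, hn⟩ := hh h (h2 hh1) c hc1 hc2
    have := mul_mem (mul_mem (mul_mem (mul_mem (inv_mem (h1 hu)) hh1) (h1 ((mem_normalizer_iff.1 hn v).1 hv)))
      (inv_mem hh1)) (h1 hu)
    change c * (h * v * h⁻¹) * c⁻¹ ∈ K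
    convert this using 1
    group
  have h5' : c * y * c⁻¹ ∈ K := h5 hy
  have h6 := mul_mem (mul_mem h5' (h1 (hc c hc1 _ (mul_mem (inv_mem (h2 (h3 hy))) (h2 hh1)) hc2 h4)))
    (mul_mem (inv_mem (h3 hy)) hh1)
  convert h6 using 1
  group

theorem fin {G0 : Type*} [Group G0] [Finite G0] (ρ : G0 →* G) (hρ : Function.Injective ρ) (h : SP 2 ρ.range)
    (N : Subgroup G0) [N.Normal] (H : Subgroup (G0 ⧸ N)) (hH : Odd H.index) : Cfsg.IsPronormal H := by
  have h1 : SPt 2 G0 := spt_iff.2 (.of_map ρ (by rw [(ρ.ker_eq_bot_iff).2 hρ]; exact IsPGroup.of_bot) le_top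
    (by rwa [← MonoidHom.range_eq_map]))
  obtain ⟨S, hS⟩ := exists_isSyl 2 H
  obtain ⟨P, e⟩ := (hS.trans le_top (by simpa using hH.not_two_dvd_nat)).exists_sylow_top
  exact h1.quo N H ⟨P, e ▸ hS.le⟩
end gen

section bruhat
open Matrix Equiv Finset Function
variable {n : ℕ} {F : Type*} [Field F]

/-- block triangular matrices -/
def Tri {α : Type} [LinearOrder α] (b : Fin n → α) : Subgroup (GL (Fin n) F) where
  carrier := {g | g.1.BlockTriangular b}
  mul_mem' ha hb := ha.mul hb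
  one_mem' := blockTriangular_one
  inv_mem' {g} hg := by
    have := g.invertible
    simpa using blockTriangular_inv_of_blockTriangular hg

theorem dg_mul {α : Type} [LinearOrder α] {b : Fin n → α} (hb : Injective b) {x y : GL (Fin n) F} (hx : x ∈ Tri b)
    (hy : y ∈ Tri b) (i : Fin n) : (x * y).1 i i = x.1 i i * y.1 i i := by
  rw [Units.val_mul, mul_apply]
  refine sum_eq_single i (fun j _ e => ?_) (by simp)
  rcases lt_or_gt_of_ne (hb.ne e) with h | h
  · rw [hx h, zero_mul]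
  · rw [hy h, mul_zero]

theorem dg_inv {α : Type} [LinearOrder α] {b : Fin n → α} (hb : Injective b) {x : GL (Fin n) F} (hx : x ∈ Tri b)
    (i : Fin n) : x.1 i i * (x⁻¹).1 i i = 1 := by rw [← dg_mul hb hx (inv_mem hx)]; simp

theorem dg_ne {α : Type} [LinearOrder α] {b : Fin n → α} (hb : Injective b) {x : GL (Fin n) F} (hx : x ∈ Tri b)
    (i : Fin n) : x.1 i i ≠ 0 := left_ne_zero_of_mul_eq_one (dg_inv hb hx i)

/-- upper unitriangular matrices -/
def Uni : Subgroup (GL (Fin n) F) where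
  carrier := {g | g ∈ Tri id ∧ ∀ i, g.1 i i = 1}
  mul_mem' ha hb := ⟨mul_mem ha.1 hb.1, fun i => by rw [dg_mul injective_id ha.1 hb.1, ha.2, hb.2, one_mul]⟩
  one_mem' := ⟨one_mem _, by simp⟩
  inv_mem' {g} hg := ⟨inv_mem hg.1, fun i => by simpa [hg.2] using dg_inv injective_id hg.1 i⟩

/-- permutation matrices -/
def pm (F : Type*) [Field F] : Perm (Fin n) →* GL (Fin n) F := (permMatrixHom (R := F)).toHomUnits

theorem pm_apply (σ : Perm (Fin n)) (i j : Fin n) : (pm F σ).1 i j = if i = σ j then 1 else 0 := by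
  simp [pm, Perm.permMatrix, PEquiv.toMatrix_apply, symm_apply_eq]

theorem pm_conj (σ τ : Perm (Fin n)) (g : GL (Fin n) F) (i j : Fin n) :
    ((pm F σ)⁻¹ * g * pm F τ).1 i j = g.1 (σ i) (τ j) := by
  rw [← map_inv]
  simp [mul_apply, pm_apply, -map_inv, eq_symm_apply]

theorem bruhat (g : GL (Fin n) F) : ∃ (σ : Perm (Fin n)) (b b' : GL (Fin n) F), b ∈ Tri id ∧ b' ∈ Tri id ∧
    g * b' = b * pm F σ := by
  have h0 : ∃ N, ∃ (f : Fin n → ℕ) (b : GL (Fin n) F), ∑ j, f j = N ∧ b.1.BlockTriangular id ∧ ∀ i j : Fin n, f j ≤ i → (g * b).1 i j = 0 :=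
    ⟨_, fun _ => n, 1, rfl, blockTriangular_one, fun i j h => absurd i.2 h.not_gt⟩
  classical
  obtain ⟨f, b, h1, h2, h3⟩ := Nat.find_spec h0
  have key : ∀ j (c : GL (Fin n) F), c.1.BlockTriangular id → (∀ i k, k ≠ j → (g * b * c).1 i k = (g * b).1 i k) →
      ∃ i : Fin n, f j ≤ i + 1 ∧ (g * b * c).1 i j ≠ 0 := fun j c h4 h5 => by
    by_contra! h
    have h6 : 0 < f j := Nat.pos_of_ne_zero fun e => (g * b * c).det_ne_zero
      (det_eq_zero_of_column_eq_zero j fun i => h i (by omega))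
    refine Nat.find_min h0 (m := ∑ k, update f j (f j - 1) k) ?_ ⟨_, b * c, rfl, h2.mul h4, fun i k e => ?_⟩
    · exact h1 ▸ sum_lt_sum (fun k _ => by by_cases e : k = j <;> simp [e]) ⟨j, mem_univ j, by simpa⟩
    · rw [← mul_assoc]
      by_cases e' : k = j
      · exact e' ▸ h i (by simp [e'] at e; omega)
      · rw [h5 i k e', h3 i k (by simpa [e'] using e)]
  choose σ h4 h5 using fun j => key j 1 blockTriangular_one (by simp)
  rw [mul_one] at h5
  have h6 : ∀ j, f j = σ j + 1 := fun j => (h4 j).antisymm (not_le.1 fun e => h5 j (h3 _ _ e))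
  have h7 : ∀ j k, j < k → σ j ≠ σ k := fun j k e e' => by
    let t := -(g * b).1 (σ j) k / (g * b).1 (σ j) j
    obtain ⟨i, h8, h9⟩ := key k (.mkOfDetNeZero (transvection j k t) (by simp [det_transvection_of_ne _ _ e.ne]))
      (blockTriangular_transvection e.le t) fun i l h => mul_transvection_apply_of_ne _ _ _ _ h _ _
    refine h9 ((mul_transvection_apply_same _ _ _ _ _).trans ?_)
    obtain rfl | h := (show σ k ≤ i from Nat.le_of_succ_le_succ ((h6 k).ge.trans h8)).eq_or_lt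
    · simp only [t, e']; rw [div_mul_cancel₀ _ (e' ▸ h5 j), add_neg_cancel]
    · rw [h3 i k (h6 k ▸ h), h3 i j (by rw [h6, e']; exact h), mul_zero, add_zero]
  let τ := ofBijective σ (Finite.injective_iff_bijective.1 (Function.Injective.of_lt_imp_ne h7))
  refine ⟨τ, g * b * pm F τ⁻¹, b, fun i j e => ?_, h2, by simp⟩
  obtain ⟨j, rfl⟩ := τ.surjective j
  rw [Units.val_mul, mul_apply]
  simpa [pm_apply, -Units.val_mul, -map_inv, eq_symm_apply] using h3 i j (h6 j ▸ e)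

theorem lu (σ : Perm (Fin n)) {M : GL (Fin n) F} (hM : M ∈ Tri σ) (k : ℕ) : ∃ c : GL (Fin n) F, c ∈ Tri σ ∧ c ∈ Tri id ∧
    ∀ i : Fin n, i.1 < k → (M * c).1 i i = 1 ∧ ∀ j, i < j → (M * c).1 i j = 0 := by
  induction k with
  | zero => exact ⟨1, one_mem _, one_mem _, by simp⟩
  | succ k ih =>
    obtain ⟨c, h1, h2, h3⟩ := ih
    by_cases hk : k < n
    swap
    · exact ⟨c, h1, h2, fun i _ => h3 i (by omega)⟩
    let r : Fin n := ⟨k, hk⟩
    set N := M * c with hN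
    have hN' : N ∈ Tri σ := mul_mem hM h1
    have hd := dg_ne σ.injective hN' r
    let v : Fin n → F := fun j => if j = r then (N.1 r r)⁻¹ else if r < j then -N.1 r j / N.1 r r else 0
    let E := (1 : Matrix (Fin n) (Fin n) F).updateRow r v
    have hE : E.BlockTriangular id := fun i j (e : j < i) => by
      by_cases h : i = r
      · subst h; simp [E, v, e.ne, e.not_gt]
      · simp [E, h, e.ne']
    have hdet : E.det ≠ 0 := by
      rw [det_of_isUpperTriangular hE]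
      exact prod_ne_zero_iff.2 fun i _ => by by_cases h : i = r <;> simp [E, v, h, hd]
    have hm : ∀ i j, (N.1 * E) i j = (if j = r then 0 else N.1 i j) + N.1 i r * v j := fun i j => by
      rw [mul_apply, ← sum_erase_add _ _ (mem_univ r), sum_congr rfl (g := fun l => if l = j then N.1 i j else 0)
        fun l hl => by
          simp only [E, updateRow_ne (ne_of_mem_erase hl), one_apply]; split_ifs with h <;> simp [h]]
      simp [E]
    refine ⟨c * .mkOfDetNeZero E hdet, mul_mem h1 fun i j e => ?_, mul_mem h2 hE, fun i hi => ?_⟩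
    · have e' : i ≠ j := fun h => by simp [h] at e
      by_cases h : i = r
      · subst h; simp [E, v, e'.symm, hN' e]
      · simp [E, h, e']
    · rw [← mul_assoc, ← hN, Units.val_mul]
      change (N.1 * E) i i = 1 ∧ ∀ j, i < j → (N.1 * E) i j = 0
      rcases Nat.lt_succ_iff_lt_or_eq.1 hi with h | h
      · have h4 : i < r := h
        simp only [hm, (h3 i h).2 r h4, h4.ne, (h3 i h).1]
        exact ⟨by simp, fun j hj => by simp [(h3 i h).2 j hj]⟩
      · obtain rfl : i = r := Fin.ext h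
        refine ⟨by simp [hm, v, hd], fun j hj => ?_⟩
        simp only [hm, v, hj.ne', hj, if_true, if_false]
        field_simp; ring

/-- Bruhat normal form -/
theorem nf (g : GL (Fin n) F) : ∃ (σ : Perm (Fin n)) (u b : GL (Fin n) F), u ∈ Uni ∧
    (pm F σ)⁻¹ * u * pm F σ ∈ Tri OrderDual.toDual ∧ b ∈ Tri id ∧ g = u * pm F σ * b := by
  obtain ⟨σ, b, b', h1, h2, e⟩ := bruhat g
  have h3 : (pm F σ)⁻¹ * b * pm F σ ∈ Tri σ := fun i j h => by rw [pm_conj]; exact h1 h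
  obtain ⟨c, h4, h5, h6⟩ := lu σ h3 n
  have h7 := mul_mem h3 h4
  set N := (pm F σ)⁻¹ * b * pm F σ * c with hN
  have h8 : ∀ i j, (pm F σ * N * (pm F σ)⁻¹).1 i j = N.1 (σ⁻¹ i) (σ⁻¹ j) := fun i j => by
    rw [← pm_conj, map_inv, inv_inv]
  refine ⟨σ, pm F σ * N * (pm F σ)⁻¹, (b' * c)⁻¹, ⟨fun i j h => ?_, fun i => ?_⟩, ?_, inv_mem (mul_mem h2 h5), ?_⟩
  · rw [h8]; exact h7 (by simpa using h)
  · rw [h8]; exact (h6 _ (Fin.is_lt _)).1
  · intro i j h
    simpa [mul_assoc] using (h6 i i.2).2 j h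
  · rw [hN, ← mul_inv_cancel_right g b', e]; group

theorem eq_one_of (σ : Perm (Fin n)) {u : GL (Fin n) F} (hu : u ∈ Uni) (h1 : (pm F σ)⁻¹ * u * pm F σ ∈ Tri id)
    (h2 : (pm F σ)⁻¹ * u * pm F σ ∈ Tri OrderDual.toDual) : u = 1 := by
  ext i j
  obtain ⟨i, rfl⟩ := σ.surjective i
  obtain ⟨j, rfl⟩ := σ.surjective j
  rcases lt_trichotomy i j with h | rfl | h
  · rw [← pm_conj, h2 h]; simp [h.ne]
  · simp [hu.2]
  · rw [← pm_conj, h1 h]; simp [h.ne']

theorem nf_uniq {σ τ : Perm (Fin n)} {u v b c : GL (Fin n) F} (hu : u ∈ Uni) (hv : v ∈ Uni)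
    (h1 : (pm F σ)⁻¹ * u * pm F σ ∈ Tri OrderDual.toDual) (h2 : (pm F τ)⁻¹ * v * pm F τ ∈ Tri OrderDual.toDual)
    (hb : b ∈ Tri id) (hc : c ∈ Tri id) (e : u * pm F σ * b = v * pm F τ * c) : σ = τ ∧ u = v := by
  have h3 : (pm F τ)⁻¹ * (v⁻¹ * u) * pm F σ ∈ Tri id := by
    convert mul_mem hc (inv_mem hb) using 1
    rw [eq_mul_inv_iff_mul_eq, mul_assoc, mul_assoc, mul_assoc, ← mul_assoc u, e]; group
  have h4 := mul_mem (inv_mem hv) hu
  have h5 : ∀ i, τ⁻¹ i ≤ σ⁻¹ i := fun i => not_lt.1 fun h => by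
    have := h3 h
    rw [pm_conj] at this
    simp [h4.2, -Units.val_mul] at this
  have h6 : ∀ i, τ⁻¹ i = σ⁻¹ i := fun i => Fin.ext <| (sum_eq_sum_iff_of_le (s := univ)
    (f := fun i => (τ⁻¹ i).1) (g := fun i => (σ⁻¹ i).1) fun i _ => h5 i).1
    ((Equiv.sum_comp τ⁻¹ Fin.val).trans (Equiv.sum_comp σ⁻¹ Fin.val).symm) i (mem_univ i)
  obtain rfl : σ = τ := inv_injective (Equiv.ext fun i => (h6 i).symm)
  refine ⟨rfl, (inv_mul_eq_one.1 (eq_one_of σ h4 h3 ?_)).symm⟩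
  convert mul_mem (inv_mem h2) h1 using 1; group

theorem det_uni {u : GL (Fin n) F} (hu : u ∈ Uni) : GeneralLinearGroup.det u = 1 :=
  Units.ext (by simp [det_of_isUpperTriangular hu.1, hu.2])

theorem conj_uni {b u : GL (Fin n) F} (hb : b ∈ Tri id) (hu : u ∈ Uni) : b * u * b⁻¹ ∈ Uni :=
  ⟨mul_mem (mul_mem hb hu.1) (inv_mem hb), fun i => by
    rw [dg_mul injective_id (mul_mem hb hu.1) (inv_mem hb), dg_mul injective_id hb hu.1, hu.2, mul_one,
      dg_inv injective_id hb]⟩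

/-- determinant one fixed points -/
def Fix (τ : GL (Fin n) F →* GL (Fin n) F) : Subgroup (GL (Fin n) F) :=
  τ.eqLocus (MonoidHom.id _) ⊓ GeneralLinearGroup.det.ker

variable [CharP F 2]

theorem uni_pg : IsPGroup 2 (Uni : Subgroup (GL (Fin n) F)) := isPGroup_iff_forall.2 fun u hu => ⟨n, by
  rcases n.eq_zero_or_pos with rfl | hn
  · exact Subsingleton.elim _ _
  have : Nonempty (Fin n) := ⟨⟨0, hn⟩⟩
  have h1 : (u.1 - 1).BlockTriangular id := hu.1.sub blockTriangular_one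
  have h2 := (u.1 - 1).aeval_self_charpoly
  rw [charpoly_of_isUpperTriangular _ h1] at h2
  simp only [Matrix.sub_apply, hu.2, one_apply_eq, sub_self, map_zero, sub_zero, prod_const, card_univ, Fintype.card_fin,
    map_pow, Polynomial.aeval_X] at h2
  have h3 := sub_pow_char_pow_of_commute 2 n (Commute.one_right u.1)
  rw [pow_eq_zero_of_le Nat.lt_two_pow_self.le h2, one_pow, eq_comm, sub_eq_zero] at h3
  exact Units.ext (by simpa using h3)⟩

theorem mem_uni {g : GL (Fin n) F} (hg : g ∈ Tri id) {k : ℕ} (h : g ^ 2 ^ k = 1) : g ∈ Uni := ⟨hg, fun i => by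
  have h1 : ∀ m, (g ^ m).1 i i = g.1 i i ^ m := fun m => by
    induction m with
    | zero => simp
    | succ m ih => rw [pow_succ, dg_mul injective_id (pow_mem hg m) hg, ih, pow_succ]
  have h2 := sub_pow_char_pow (g.1 i i) 1 (p := 2) (n := k)
  rw [← h1, h] at h2
  exact sub_eq_zero.1 (pow_eq_zero_iff (by positivity) |>.1 (h2.trans (by simp)))⟩

theorem det_pm (σ : Perm (Fin n)) : GeneralLinearGroup.det (pm F σ) = 1 := Units.ext <| by
  rcases Int.units_eq_one_or (Perm.sign σ) with h | h <;> simp [pm, h, CharTwo.neg_eq]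

theorem sp_two [Finite F] (τ : GL (Fin n) F →* GL (Fin n) F) (h2 : ∀ g, τ (τ g) = g) (hU : ∀ g ∈ Uni, τ g ∈ Uni)
    (hB : ∀ g ∈ Tri id, τ g ∈ Tri id) (hL : ∀ g ∈ Tri OrderDual.toDual, τ g ∈ Tri OrderDual.toDual)
    (hP : ∀ σ, ∃ σ', τ (pm F σ) = pm F σ') : SP 2 (Fix τ) := by
  classical
  have hA : ∀ g ∈ Fix τ, ∃ (σ : Perm (Fin n)) (u b : GL (Fin n) F), u ∈ Uni ⊓ Fix τ ∧ pm F σ ∈ Fix τ ∧ b ∈ Fix τ ∧
      b ∈ Tri id ∧ g = u * pm F σ * b := fun g hg => by
    obtain ⟨σ, u, b, h3, h4, h5, e⟩ := nf g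
    obtain ⟨σ', e'⟩ := hP σ
    have h6 := hL _ h4
    simp only [map_mul, map_inv, e'] at h6
    obtain ⟨rfl, h7⟩ := nf_uniq (hU u h3) h3 h6 h4 (hB b h5) h5 (by rw [← e', ← map_mul, ← map_mul, ← e]; exact hg.1)
    have h8 : u ∈ Fix τ := ⟨h7, det_uni h3⟩
    have h9 : pm F σ' ∈ Fix τ := ⟨e', det_pm _⟩
    exact ⟨σ', u, b, ⟨h3, h8⟩, h9, by simpa [e, mul_assoc] using mul_mem (inv_mem (mul_mem h8 h9)) hg, h5, e⟩
  have hN : ∀ b ∈ Fix τ, b ∈ Tri id → b ∈ normalizer ((Uni ⊓ Fix τ : Subgroup _) : Set (GL (Fin n) F)) :=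
    fun b h3 h4 => mem_normalizer_of_conj_mem fun u hu =>
      mem_inf.2 ⟨conj_uni h4 hu.1, mul_mem (mul_mem h3 (mem_inf.1 hu).2) (inv_mem h3)⟩
  have hN' : ∀ g ∈ Fix τ, g ∈ normalizer ((Uni ⊓ Fix τ : Subgroup _) : Set (GL (Fin n) F)) → g ∈ Tri id := by
    intro g hg hn
    obtain ⟨σ, u, b, h3, h4, h5, h6, rfl⟩ := hA g hg
    suffices σ = 1 by subst this; simpa using mul_mem h3.1.1 h6
    have h7 : pm F σ ∈ normalizer ((Uni ⊓ Fix τ : Subgroup _) : Set (GL (Fin n) F)) := by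
      simpa [mul_assoc] using mul_mem (mul_mem (inv_mem (le_normalizer h3)) hn) (inv_mem (hN b h5 h6))
    by_contra h
    obtain ⟨j, i, h8, h9⟩ : ∃ j i, j ≤ i ∧ σ i < σ j := by simpa [Monotone] using mt (Perm.monotone_iff σ).1 h
    let W : Subgroup (GL (Fin n) F) := Uni ⊓ (Tri OrderDual.toDual).comap (MulAut.conj (pm F σ)⁻¹).toMonoidHom
    have hW : ∀ x, x ∈ W ↔ x ∈ Uni ∧ (pm F σ)⁻¹ * x * pm F σ ∈ Tri OrderDual.toDual := fun x => by simp [W]
    have h10 : W ≠ ⊥ := fun e => by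
      have : GeneralLinearGroup.mkOfDetNeZero (transvection (σ i) (σ j) (1 : F))
          (by simp [det_transvection_of_ne _ _ h9.ne]) ∈ W := (hW _).2 ⟨⟨blockTriangular_transvection (b := id) h9.le (1 : F), fun k => by
        by_cases e : σ i = k
        · subst e; simp [transvection, h9.ne']
        · simp [transvection, e]⟩, fun k l (e : k < l) => by
        rw [pm_conj]
        by_cases e' : i = k
        · subst e'; simp [transvection, e.ne, (h8.trans_lt e).ne]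
        · simp [transvection, e.ne, e']⟩
      have := congrArg (fun x : GL (Fin n) F => x.1 (σ i) (σ j)) (mem_bot.1 (e ▸ this))
      simp [transvection, h9.ne] at this
    let f : W → W := fun x => ⟨τ x, (hW _).2 ⟨hU _ ((hW _).1 x.2).1, by
      have := hL _ ((hW _).1 x.2).2
      rwa [map_mul, map_mul, map_inv, show τ (pm F σ) = pm F σ from h4.1] at this⟩⟩
    have hf : Involutive f := fun x => Subtype.ext (h2 _)
    have := Fintype.ofFinite W
    obtain ⟨x, h11, h12⟩ := Perm.exists_fixed_point_of_prime' (p := 2) (n := 1) (σ := hf.toPerm) (a := 1)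
      (by rw [← Nat.card_eq_fintype_card]; exact dvd_card_of_pgroup_ne_bot uni_pg.to_inf_left h10)
      (by ext x : 1; exact hf x) (Subtype.ext (map_one τ))
    have h13 := (hW _).1 x.2
    exact h12 (Subtype.ext (eq_one_of σ h13.1 ((mem_normalizer_iff''.1 h7 x).1
      ⟨h13.1, congrArg Subtype.val h11, det_uni h13.1⟩).1.1 h13.2))
  refine crit_bn (S := Uni ⊓ Fix τ) (isSyl_of_max inf_le_right uni_pg.to_inf_left fun P h3 h4 h5 => ?_)
    (fun a h3 b h4 h5 h6 => ?_) fun g hg c h3 h4 => ?_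
  · by_contra h
    refine (lt_normalizer_of_pgroup h3 (lt_of_le_not_ge h4 h)).not_ge fun x hx => ⟨?_, h5 hx.1⟩
    obtain ⟨k, e⟩ := isPGroup_iff_forall.1 h3 x hx.1
    exact mem_uni (hN' x (h5 hx.1) hx.2) e
  · have h7 := hN' a h3 h5
    have h8 := hN' b h4 h6
    refine ⟨⟨mul_mem (mul_mem (mul_mem h7 h8) (inv_mem h7)) (inv_mem h8), fun i => ?_⟩,
      (mul_mem (mul_mem (mul_mem h3 h4) (inv_mem h3)) (inv_mem h4) : _ ∈ Fix τ)⟩
    rw [dg_mul injective_id (mul_mem (mul_mem h7 h8) (inv_mem h7)) (inv_mem h8),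
      dg_mul injective_id (mul_mem h7 h8) (inv_mem h7), dg_mul injective_id h7 h8]
    linear_combination (b.1 i i * b⁻¹.1 i i) * dg_inv injective_id h7 i + dg_inv injective_id h8 i
  · obtain ⟨σ, u, b, h5, h6, h7, h8, rfl⟩ := hA g hg
    replace h5 := mem_inf.1 h5
    have h9 := hN' c h3 h4
    let t : GL (Fin n) F := .mkOfDetNeZero (diagonal fun i => c.1 i i) (by
      rw [det_diagonal]; exact prod_ne_zero_iff.2 fun i _ => dg_ne injective_id h9 i)
    have ht : t ∈ Tri id := blockTriangular_diagonal _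
    have ht' : t ∈ Tri OrderDual.toDual := blockTriangular_diagonal _
    have hv : t * c⁻¹ ∈ Uni := ⟨mul_mem ht (inv_mem h9), fun i => by
      rw [dg_mul injective_id ht (inv_mem h9), ← dg_inv injective_id h9 i]; simp [t]⟩
    have h10 : τ t * t⁻¹ = 1 := by
      have := mul_mem (hU _ hv) (inv_mem hv)
      rw [map_mul, map_inv, show τ c = c from h3.1, _root_.mul_inv_rev, inv_inv, mul_assoc, inv_mul_cancel_left] at this
      exact eq_one_of 1 this (by simpa using this.1) (by simpa using mul_mem (hL _ ht') (inv_mem ht'))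
    have h11 : t ∈ Fix τ := ⟨mul_inv_eq_one.1 h10, by
      have := det_uni hv
      rwa [map_mul, map_inv, show GeneralLinearGroup.det c = 1 from h3.2, inv_one, mul_one] at this⟩
    have h12 : u * t * u⁻¹ * c⁻¹ ∈ Uni := by
      convert mul_mem (mul_mem h5.1 (conj_uni ht (inv_mem h5.1))) hv using 1; group
    refine ⟨_, mem_inf.2 ⟨h12, mul_mem (mul_mem (mul_mem h5.2 h11) (inv_mem h5.2)) (inv_mem h3)⟩, ?_⟩
    have h13 : (pm F σ)⁻¹ * t * pm F σ ∈ Tri id := fun i j (e : j < i) => by rw [pm_conj]; simp [t, e.ne']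
    convert hN _ (mul_mem (mul_mem (inv_mem h7) (mul_mem (mul_mem (inv_mem h6) h11) h6)) h7)
      (mul_mem (mul_mem (inv_mem h8) h13) h8) using 1
    group
end bruhat

end H9.Pn
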