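import Cfsg.Agent.H9.Pn1

/-! Sylow 2-subgroups of classical groups of dimension `2 ^ w` in odd characteristic as iterated wreath products `Wr T`;
odd order elements normalising them are scalar (`Good`, `Good.step`, `two_dim`, `syl_step`). -/

set_option autoImplicit false
set_option linter.unusedSectionVars false

namespace H9.Pn
open Subgroup H17 Matrix

section gen
variable {G : Type*} [Group G]

theorem comm_of_sq {x t : G} (hx : Odd (orderOf x)) (h : Commute (x ^ 2) t) : Commute x t := by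
  obtain ⟨k, hk⟩ := hx
  have : x = (x ^ 2) ^ (k + 1) := by
    rw [← pow_mul, show 2 * (k + 1) = orderOf x + 1 by omega, pow_succ, pow_orderOf_eq_one, one_mul]
  rw [this]; exact h.pow_left _

theorem odd_sign [HasDistribNeg G] {x t : G} (hx : Odd (orderOf x)) (h : x * t = t * x ∨ x * t = -(t * x)) :
    Commute x t := by
  rcases h with h | h
  · exact h
  · refine comm_of_sq hx ?_
    rw [Commute, SemiconjBy, pow_two, mul_assoc, h, mul_neg, ← mul_assoc, h, neg_mul, neg_neg, mul_assoc]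

theorem odd_comm {T : Subgroup G} (hT : IsPGroup 2 T) {x s : G} (hx : Odd (orderOf x))
    (hn : x ∈ normalizer (T : Set G)) (hs : s ∈ T) (h : Commute x (s * x * s⁻¹)) : Commute x s := by
  have h1 : x * (s * x * s⁻¹)⁻¹ ∈ T := by
    convert mul_mem ((mem_normalizer_iff.1 hn s).1 hs) (inv_mem hs) using 1; group
  obtain ⟨k, e⟩ := isPGroup_iff_forall.1 hT _ h1
  have h2 := eq_one_of_pow_of_not_dvd e fun d => hx.not_two_dvd_nat (d.trans (orderOf_dvd_of_pow_eq_one (by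
    rw [h.inv_right.mul_pow, inv_pow, conj_pow, pow_orderOf_eq_one]; simp)))
  rw [mul_inv_eq_one, eq_mul_inv_iff_mul_eq] at h2
  exact h2
end gen

variable {F : Type*} [Field F] {ι : Type} [Fintype ι] [DecidableEq ι]

/-- scalar matrices -/
def Sc (M : Matrix ι ι F) : Prop := ∃ c : F, M = c • (1 : Matrix ι ι F)

theorem Sc.center {x : GL ι F} (h : Sc x.1) : x ∈ center (GL ι F) := mem_center_iff.2 fun g => Units.ext <| by
  obtain ⟨c, e⟩ := h
  simp [e]

/-- block diagonal matrices -/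
def D : GL ι F × GL ι F →* GL (ι ⊕ ι) F := MonoidHom.toHomUnits
  { toFun := fun x => fromBlocks x.1.1 0 0 x.2.1
    map_one' := by simp
    map_mul' := fun x y => by simp [fromBlocks_multiply] }

theorem D_val (a b : GL ι F) : (D (a, b)).1 = fromBlocks a.1 0 0 b.1 := rfl

theorem D_mul (a b c d : GL ι F) : D (a, b) * D (c, d) = D (a * c, b * d) := (map_mul D _ _).symm

theorem D_inv (a b : GL ι F) : (D (a, b))⁻¹ = D (a⁻¹, b⁻¹) := (map_inv D _).symm

theorem D_neg (a b : GL ι F) : -D (a, b) = D (-a, -b) := Units.ext (by simp [D_val, fromBlocks_neg])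

theorem D_inj {a b c d : GL ι F} : D (a, b) = D (c, d) ↔ a = c ∧ b = d := by
  simp [Units.ext_iff, D_val, fromBlocks_inj]

theorem det_D (a b : GL ι F) : GeneralLinearGroup.det (D (a, b)) =
    GeneralLinearGroup.det a * GeneralLinearGroup.det b := Units.ext (by simp [D_val])

/-- the swap -/
def sw : GL (ι ⊕ ι) F := ⟨fromBlocks 0 1 1 0, fromBlocks 0 1 1 0, by simp [fromBlocks_multiply],
  by simp [fromBlocks_multiply]⟩

theorem sw_sw : (sw : GL (ι ⊕ ι) F) * sw = 1 := Units.ext (by simp [sw, fromBlocks_multiply])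

theorem sw_D (a b : GL ι F) : sw * D (a, b) = D (b, a) * sw := Units.ext (by simp [sw, D_val, fromBlocks_multiply])

theorem sw_D' (a b : GL ι F) (x : GL (ι ⊕ ι) F) : sw * (D (a, b) * x) = D (b, a) * (sw * x) := by
  rw [← mul_assoc, sw_D, mul_assoc]

theorem D_ne [Nonempty ι] (a b c d : GL ι F) : D (a, b) ≠ D (c, d) * sw := fun h => by
  have := congrArg Units.val h
  simp only [sw, D_val, Units.val_mul, fromBlocks_multiply, fromBlocks_inj] at this
  exact a.ne_zero (by simpa using this.1)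

theorem det_sw : GeneralLinearGroup.det (sw : GL (ι ⊕ ι) F) = GeneralLinearGroup.det (-1 : GL ι F) := Units.ext <| by
  have : (fromBlocks 0 1 1 0 : Matrix (ι ⊕ ι) (ι ⊕ ι) F) = fromBlocks 1 0 0 (-1) *
      (fromBlocks 1 1 0 1 * fromBlocks 1 0 (-1) 1 * fromBlocks 1 1 0 1) := by simp [fromBlocks_multiply]
  simp only [GeneralLinearGroup.val_det_apply, sw]
  rw [this]; simp

/-- wreath product with the swap -/
def Wr (T : Subgroup (GL ι F)) : Subgroup (GL (ι ⊕ ι) F) where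
  carrier := {g | ∃ a ∈ T, ∃ b ∈ T, g = D (a, b) ∨ g = D (a, b) * sw}
  one_mem' := ⟨1, one_mem _, 1, one_mem _, .inl (map_one D).symm⟩
  mul_mem' := by
    rintro _ _ ⟨a, ha, b, hb, rfl | rfl⟩ ⟨c, hc, d, hd, rfl | rfl⟩
    · exact ⟨_, mul_mem ha hc, _, mul_mem hb hd, .inl (D_mul ..)⟩
    · exact ⟨_, mul_mem ha hc, _, mul_mem hb hd, .inr (by rw [← mul_assoc, D_mul])⟩
    · exact ⟨_, mul_mem ha hd, _, mul_mem hb hc, .inr (by rw [mul_assoc, sw_D, ← mul_assoc, D_mul])⟩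
    · exact ⟨_, mul_mem ha hd, _, mul_mem hb hc, .inl (by rw [mul_assoc, sw_D', sw_sw, mul_one, D_mul])⟩
  inv_mem' := by
    rintro _ ⟨a, ha, b, hb, rfl | rfl⟩
    · exact ⟨_, inv_mem ha, _, inv_mem hb, .inl (D_inv ..)⟩
    · exact ⟨_, inv_mem hb, _, inv_mem ha, .inr (by
        rw [_root_.mul_inv_rev, D_inv, inv_eq_of_mul_eq_one_right sw_sw, sw_D])⟩

variable {T : Subgroup (GL ι F)}

theorem D_mem {a b : GL ι F} (ha : a ∈ T) (hb : b ∈ T) : D (a, b) ∈ Wr T := ⟨a, ha, b, hb, .inl rfl⟩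

theorem sw_mem : sw ∈ Wr T := ⟨1, one_mem _, 1, one_mem _, .inr (by rw [← Prod.one_eq_mk, map_one, one_mul])⟩

theorem of_D_mem [Nonempty ι] {a b : GL ι F} (h : D (a, b) ∈ Wr T) : a ∈ T ∧ b ∈ T := by
  obtain ⟨c, hc, d, hd, e | e⟩ := h
  · obtain ⟨rfl, rfl⟩ := D_inj.1 e; exact ⟨hc, hd⟩
  · exact absurd e (D_ne _ _ _ _)

theorem wr_pg (h : IsPGroup 2 T) : IsPGroup 2 (Wr T) := by
  have k : ∀ a ∈ T, ∀ b ∈ T, ∃ k, D (a, b) ^ 2 ^ k = 1 := fun a ha b hb => by
    obtain ⟨k, e⟩ := isPGroup_iff_forall.1 h a ha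
    obtain ⟨l, e'⟩ := isPGroup_iff_forall.1 h b hb
    exact ⟨k + l, by rw [← map_pow, Prod.pow_mk, pow_add, pow_mul, e, mul_comm, pow_mul, e']; simp [← Prod.one_eq_mk]⟩
  refine isPGroup_iff_forall.2 ?_
  rintro _ ⟨a, ha, b, hb, rfl | rfl⟩
  · exact k a ha b hb
  · obtain ⟨m, e⟩ := k _ (mul_mem ha hb) _ (mul_mem hb ha)
    exact ⟨m + 1, by rw [pow_succ', pow_mul, pow_two, mul_assoc, sw_D', sw_sw, mul_one, D_mul, e]⟩

theorem card_wr [Finite F] [Nonempty ι] : 2 * (Nat.card T * Nat.card T) ≤ Nat.card (Wr T) := by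
  have := Nat.card_le_card_of_injective (α := Bool × T × T) (β := Wr T) (fun x => if x.1 then
    ⟨D (x.2.1, x.2.2), D_mem x.2.1.2 x.2.2.2⟩ else ⟨D (x.2.1, x.2.2) * sw, mul_mem (D_mem x.2.1.2 x.2.2.2) sw_mem⟩) (by
    rintro ⟨_ | _, a, b⟩ ⟨_ | _, c, d⟩ e <;> simp_all [D_inj, D_ne, (D_ne _ _ _ _).symm])
  simpa using this

theorem syl_step [Finite F] [Nonempty ι] {L : Subgroup (GL ι F)} {L' : Subgroup (GL (ι ⊕ ι) F)} (h : IsSyl 2 T L)
    (h1 : Wr T ≤ L') (h2 : emultiplicity 2 (Nat.card L') =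
      emultiplicity 2 (Nat.card L) + emultiplicity 2 (Nat.card L) + 1) : IsSyl 2 (Wr T) L' := by
  refine ⟨h1, wr_pg h.pgroup, fun d => ?_⟩
  obtain ⟨k, e⟩ := h.pgroup.exists_card_eq
  obtain ⟨l, e'⟩ := (wr_pg h.pgroup).exists_card_eq
  have h3 := card_wr (T := T)
  have h4 : emultiplicity 2 (Nat.card L) = k := by
    rw [← card_mul_relIndex h.le, Nat.prime_two.emultiplicity_mul, emultiplicity_eq_zero.2 h.not_dvd, e,
      Nat.prime_two.emultiplicity_pow_self, add_zero]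
  rw [e, e', ← pow_add, ← pow_succ', Nat.pow_le_pow_iff_right one_lt_two] at h3
  have h5 : 2 ^ (l + 1) ∣ Nat.card L' := by rw [← card_mul_relIndex h1, e', pow_succ]; exact mul_dvd_mul_left _ d
  rw [pow_dvd_iff_le_emultiplicity, h2, h4] at h5
  norm_cast at h5; omega

theorem blk (h2 : (2 : F) ≠ 0) {M : Matrix (ι ⊕ ι) (ι ⊕ ι) F}
    (h : M * (D ((1 : GL ι F), -1)).1 = (D ((1 : GL ι F), -1)).1 * M) : ∃ A B, M = fromBlocks A 0 0 B := by
  rw [← fromBlocks_toBlocks M] at h ⊢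
  simp only [D_val, fromBlocks_multiply, fromBlocks_inj] at h
  have k : ∀ X : Matrix ι ι F, -X = X → X = 0 := fun X e => by
    ext i j; have : -X i j = X i j := congrFun₂ e i j
    exact (mul_eq_zero.1 (show 2 * X i j = 0 by linear_combination -this)).resolve_left h2
  exact ⟨_, _, by rw [k M.toBlocks₁₂ (by simpa using h.2.1), k M.toBlocks₂₁ (by simpa using h.2.2.1.symm)]⟩

theorem exists_D (h2 : (2 : F) ≠ 0) {x : GL (ι ⊕ ι) F} (h : Commute x (D ((1 : GL ι F), -1))) : ∃ a b, x = D (a, b) := by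
  obtain ⟨A, B, e⟩ := blk h2 (congrArg Units.val h)
  have := x.det_ne_zero
  rw [e, det_fromBlocks_zero₂₁, mul_ne_zero_iff] at this
  exact ⟨.mkOfDetNeZero A this.1, .mkOfDetNeZero B this.2, Units.ext e⟩

theorem neg_ne (h2 : (2 : F) ≠ 0) [Nonempty ι] (a : GL ι F) : -a ≠ a := fun e => a.ne_zero <| by
  ext i j; have : -a.1 i j = a.1 i j := congrArg (fun x : GL ι F => x.1 i j) e
  exact (mul_eq_zero.1 (show 2 * a.1 i j = 0 by linear_combination -this)).resolve_left h2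

/-- the inductive properties of the Sylow subgroups -/
structure Good0 (T : Subgroup (GL ι F)) : Prop where
  pg : IsPGroup 2 T
  neg : -1 ∈ T
  det : GeneralLinearGroup.det (-1 : GL ι F) = 1
  cen : ∀ M : Matrix ι ι F, (∀ u ∈ T, GeneralLinearGroup.det u = 1 → M * u.1 = u.1 * M) → Sc M
  ns : ∃ u ∈ T, GeneralLinearGroup.det u = 1 ∧ u ≠ 1 ∧ u ≠ -1

theorem Good0.wr (h2 : (2 : F) ≠ 0) [Nonempty ι] (h : Good0 T) : Good0 (Wr T) := by
  have h0 : GeneralLinearGroup.det (D ((1 : GL ι F), -1)) = 1 := by rw [det_D, h.det]; simp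
  have h1 : (-1 : GL (ι ⊕ ι) F) = D ((-1 : GL ι F), (-1 : GL ι F)) := by rw [← D_neg, ← Prod.one_eq_mk, map_one]
  refine ⟨wr_pg h.pg, h1 ▸ D_mem h.neg h.neg, by rw [h1, det_D, h.det, one_mul], fun M hM => ?_,
    _, D_mem (one_mem _) h.neg, h0, fun e => neg_ne h2 1 (D_inj.1 (e.trans (map_one D).symm)).2,
    fun e => neg_ne h2 1 (D_inj.1 (e.trans h1)).1.symm⟩
  obtain ⟨A, B, rfl⟩ := blk h2 (hM _ (D_mem (one_mem _) h.neg) h0)
  obtain ⟨a, rfl⟩ := h.cen A fun u hu e => by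
    simpa [D_val, fromBlocks_multiply] using hM _ (D_mem hu (one_mem _)) (by simp [det_D, e])
  have := hM _ sw_mem (det_sw.trans h.det)
  simp only [sw, fromBlocks_multiply, fromBlocks_inj] at this
  exact ⟨a, by rw [← fromBlocks_one, fromBlocks_smul, show B = a • 1 by simpa using this.2.2.1]; simp⟩

theorem Good0.comm (h2 : (2 : F) ≠ 0) [Nonempty ι] [Finite F] (h : Good0 T) {x : GL (ι ⊕ ι) F} (hx : Odd (orderOf x))
    (hn : x ∈ normalizer ((Wr T ⊓ GeneralLinearGroup.det.ker : Subgroup _) : Set (GL (ι ⊕ ι) F))) :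
    ∃ a b, x = D (a, b) := by
  have h0 : D ((1 : GL ι F), -1) ∈ Wr T ⊓ GeneralLinearGroup.det.ker :=
    mem_inf.2 ⟨D_mem (one_mem _) h.neg, by rw [MonoidHom.mem_ker, det_D, h.det]; simp⟩
  have h1 : ∀ s ∈ Wr T, s * D ((1 : GL ι F), -1) = D ((1 : GL ι F), -1) * s ∨ s * D ((1 : GL ι F), -1) = -(D ((1 : GL ι F), -1) * s) := by
    rintro _ ⟨a, -, b, -, rfl | rfl⟩
    · left; simp [D_mul]
    · right; rw [mul_assoc, sw_D, ← mul_assoc, ← mul_assoc, ← neg_mul]; simp [D_mul, D_neg]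
  obtain ⟨t, ht⟩ : ∃ t, t = x * D ((1 : GL ι F), -1) * x⁻¹ := ⟨_, rfl⟩
  have h3 : ∀ s ∈ Wr T, GeneralLinearGroup.det s = 1 → s * t = t * s ∨ s * t = -(t * s) := fun s hs e => by
    have := h1 _ ((mem_normalizer_iff''.1 hn s).1 ⟨hs, e⟩).1
    refine this.imp (fun e => ?_) fun e => ?_ <;>
    · have := congrArg (fun y => x * y * x⁻¹) e
      simpa [ht, mul_assoc] using this
  have h4 : t * t = 1 := by simp [ht, mul_assoc, ← mul_assoc (D _), D_mul, ← Prod.one_eq_mk]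
  refine exists_D h2 (odd_sign hx ?_)
  suffices t = D ((1 : GL ι F), -1) ∨ t = -D ((1 : GL ι F), -1) from this.imp (fun e => by rw [← mul_inv_eq_iff_eq_mul, ← ht, e])
    fun e => by rw [← neg_mul, ← mul_inv_eq_iff_eq_mul, ← ht, e]
  obtain ⟨a, ha, b, hb, e | e⟩ := ((mem_normalizer_iff.1 hn _).1 h0).1 <;> rw [← ht] at e
  · obtain ⟨α, e1⟩ := h.cen a fun u hu d => by
      rcases h3 _ (D_mem hu (one_mem _)) (by simp [det_D, d]) with k | k <;>
        simp only [e, D_mul, D_neg, D_inj, one_mul, mul_one] at k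
      · exact congrArg Units.val k.1.symm
      · exact absurd k.2.symm (neg_ne h2 _)
    obtain ⟨β, e2⟩ := h.cen b fun u hu d => by
      rcases h3 _ (D_mem (one_mem _) hu) (by simp [det_D, d]) with k | k <;>
        simp only [e, D_mul, D_neg, D_inj, one_mul, mul_one] at k
      · exact congrArg Units.val k.2.symm
      · exact absurd k.1.symm (neg_ne h2 _)
    have k : ∀ (c : GL ι F) (γ : F), c.1 = γ • 1 → c * c = 1 → c = 1 ∨ c = -1 := fun c γ e1 e2 => by
      obtain ⟨i⟩ := ‹Nonempty ι›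
      have := congrArg (fun x : GL ι F => x.1 i i) e2
      simp only [Units.val_mul, e1, smul_mul_smul_comm, mul_one, Matrix.smul_apply, one_apply_eq, smul_eq_mul,
        Units.val_one, mul_self_eq_one_iff] at this
      exact this.imp (fun e => Units.ext (by simp [e1, e])) fun e => Units.ext (by simp [e1, e])
    rw [e, D_mul, ← map_one D, Prod.one_eq_mk, D_inj] at h4
    have h5 : a ≠ b := fun e' => by
      have : t ∈ center _ := Sc.center ⟨α, by
        rw [e, D_val, ← e', e1, ← fromBlocks_one (l := ι) (m := ι), fromBlocks_smul]; simp⟩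
      have h6 : D ((1 : GL ι F), -1) = t := by rw [← mul_right_inj x, mem_center_iff.1 this x, ht]; simp
      rw [e, D_inj] at h6
      exact neg_ne h2 1 (by rw [h6.2, ← e', h6.1])
    rcases k a α e1 h4.1 with rfl | rfl <;> rcases k b β e2 h4.2 with rfl | rfl <;>
      first | exact absurd rfl h5 | simp [e, D_neg]
  · obtain ⟨u, hu, d, k1, k2⟩ := h.ns
    rcases h3 _ (D_mem hu (one_mem _)) (by simp [det_D, d]) with k | k <;>
      simp only [e, mul_assoc, sw_D] at k <;>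
      simp only [← mul_assoc, ← neg_mul, mul_left_inj, D_mul, D_neg, D_inj, mul_one] at k
    · exact absurd (by simpa using k.1) k1
    · exact absurd (by simpa [← eq_mul_inv_iff_mul_eq] using k.1) k2

/-- odd order elements normalising `T` are scalar -/
def Rig (T : Subgroup (GL ι F)) : Prop :=
  ∀ x : GL ι F, Odd (orderOf x) → x ∈ normalizer (T : Set (GL ι F)) → Sc x.1

theorem Good0.norm [Nonempty ι] [Finite F] {a b : GL ι F}
    (hn : D (a, b) ∈ normalizer ((Wr T ⊓ GeneralLinearGroup.det.ker : Subgroup _) : Set (GL (ι ⊕ ι) F))) :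
    a ∈ normalizer (T : Set (GL ι F)) ∧ b ∈ normalizer (T : Set (GL ι F)) := by
  have k : ∀ u ∈ T, a * u * a⁻¹ ∈ T ∧ b * u⁻¹ * b⁻¹ ∈ T := fun u hu => by
    have := ((mem_normalizer_iff.1 hn _).1 (mem_inf.2 ⟨D_mem hu (inv_mem hu), by
      rw [MonoidHom.mem_ker, det_D]; simp⟩)).1
    rw [D_inv, D_mul, D_mul] at this
    exact of_D_mem this
  exact ⟨mem_normalizer_of_conj_mem fun u hu => (k u hu).1,
    mem_normalizer_of_conj_mem fun u hu => by simpa using (k _ (inv_mem hu)).2⟩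

theorem odd_D {a b : GL ι F} (h : Odd (orderOf (D (a, b)))) : Odd (orderOf a) ∧ Odd (orderOf b) := by
  have := pow_orderOf_eq_one (D (a, b))
  rw [← map_pow, Prod.pow_mk, ← map_one D, Prod.one_eq_mk, D_inj] at this
  exact ⟨h.of_dvd_nat (orderOf_dvd_of_pow_eq_one this.1), h.of_dvd_nat (orderOf_dvd_of_pow_eq_one this.2)⟩

theorem Good0.step (h2 : (2 : F) ≠ 0) [Nonempty ι] [Finite F] (h : Good0 T) (hr : Rig T) :
    Rig (Wr T ⊓ GeneralLinearGroup.det.ker) := fun x hx hn => by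
  obtain ⟨a, b, rfl⟩ := h.comm h2 hx hn
  have h3 := (hr a (odd_D hx).1 (norm hn).1)
  have h4 := (hr b (odd_D hx).2 (norm hn).2).center
  have h5 := odd_comm (wr_pg h.pg).to_inf_left hx hn ⟨sw_mem, det_sw.trans h.det⟩ (by
    rw [sw_D, mul_inv_cancel_right, Commute, SemiconjBy, D_mul, D_mul, mem_center_iff.1 h4 a])
  rw [Commute, SemiconjBy, sw_D, mul_left_inj, D_inj] at h5
  obtain ⟨α, e⟩ := h3
  exact ⟨α, by rw [D_val, ← h5.1, e, ← fromBlocks_one (l := ι) (m := ι), fromBlocks_smul]; simp⟩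

theorem Rig.of_inf [Finite F] (h : Rig (T ⊓ GeneralLinearGroup.det.ker)) : Rig T := fun x hx hn =>
  h x hx (le_normalizer_inf le_rfl le_normalizer_of_normal hn)

end H9.Pn
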