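import Cfsg.Agent.H9.Pn2

/-! The two dimensional base case (`two_dim`, `base`), 2-parts of orders (`ev`, `ev_step`) and the tower `tower` of Sylow
2-subgroups of linear and unitary groups of dimension `2 ^ w`; `sp_odd`. -/

set_option autoImplicit false
set_option linter.unusedSectionVars false

namespace H9.Pn
open Subgroup H17 Matrix

theorem sign_comm {G : Type*} [Group G] [HasDistribNeg G] {s s' t : G} (h : s * t = t * s ∨ s * t = -(t * s))
    (h' : s' * t = t * s' ∨ s' * t = -(t * s')) : Commute (s * s' * s⁻¹ * s'⁻¹) t := by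
  have k : ∀ a b : G, a * t * a⁻¹ = b * t * b⁻¹ ∨ a * t * a⁻¹ = b * t * b⁻¹ → a * t * a⁻¹ = t ∨ a * t * a⁻¹ = -t →
      Commute (a * b⁻¹) t := fun a b e e' => by
    replace e := e.elim id id
    have : b⁻¹ * (a * t * a⁻¹) * b = t := by rw [e]; group
    have e2 : a * (b⁻¹ * t * b) * a⁻¹ = t := by
      rcases e' with e' | e'
      · rw [e'] at this; rw [this, e']
      · rw [e', mul_neg, neg_mul, neg_eq_iff_eq_neg] at this; rw [this, mul_neg, neg_mul, e', neg_neg]
    rw [Commute, SemiconjBy, ← mul_inv_eq_iff_eq_mul]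
    convert e2 using 1; group
  rw [mul_assoc (s * s'), ← _root_.mul_inv_rev]
  rcases h with h | h <;> rcases h' with h' | h' <;> refine k _ _ (.inl ?_) ?_ <;>
    simp [mul_assoc, h, h', ← mul_assoc s t, ← mul_assoc s' t]

variable {F : Type*} [Field F]

theorem cen2 {t M : Matrix (Fin 2) (Fin 2) F} (ht : ¬ Sc t) (h : M * t = t * M) : ∃ α β : F, M = α • 1 + β • t := by
  have h0 := congrFun₂ h 0 0
  have h1 := congrFun₂ h 0 1
  have h2 := congrFun₂ h 1 0
  simp only [mul_apply, Fin.sum_univ_two] at h0 h1 h2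
  have k : ∀ β, M 0 1 = β * t 0 1 → M 1 0 = β * t 1 0 → M 1 1 - M 0 0 = β * (t 1 1 - t 0 0) →
      ∃ α β : F, M = α • 1 + β • t := fun β a b c => ⟨M 0 0 - β * t 0 0, β, by
    ext i j; fin_cases i <;> fin_cases j <;> simp [a, b]; linear_combination c⟩
  by_cases a : t 0 1 = 0
  · by_cases b : t 1 0 = 0
    · have c : t 1 1 - t 0 0 ≠ 0 := fun c => ht ⟨t 0 0, by
        ext i j; fin_cases i <;> fin_cases j <;> simp [a, b, sub_eq_zero.1 c]⟩
      refine k ((M 1 1 - M 0 0) / (t 1 1 - t 0 0)) ?_ ?_ (by field_simp) <;> rw [a] at h1 <;> rw [b] at h2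
      · rw [a, mul_zero]; exact mul_right_cancel₀ c (by linear_combination h1)
      · rw [b, mul_zero]; exact mul_right_cancel₀ c (by linear_combination -h2)
    · exact k (M 1 0 / t 1 0) (by field_simp; linear_combination h0) (by field_simp) (by field_simp; linear_combination h2)
  · exact k (M 0 1 / t 0 1) (by field_simp) (by field_simp; linear_combination -h0) (by field_simp; linear_combination -h1)

theorem sc_of (h2 : (2 : F) ≠ 0) {ι : Type} [Fintype ι] [DecidableEq ι] [Nonempty ι] {s t : GL ι F} {M : Matrix ι ι F}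
    {α β : F} (e : M = α • 1 + β • t.1) (hM : M * s.1 = s.1 * M) (h : s * t = -(t * s)) : Sc M := by
  have h1 : s.1 * t.1 = -(t.1 * s.1) := congrArg Units.val h
  rw [e, add_mul, mul_add, smul_mul_assoc, smul_mul_assoc, mul_smul_comm, mul_smul_comm, h1, one_mul, mul_one,
    add_right_inj, smul_neg, eq_neg_iff_add_eq_zero, ← add_smul, smul_eq_zero] at hM
  have := hM.resolve_right (t * s).ne_zero
  exact ⟨α, by rw [e, (mul_eq_zero.1 (show 2 * β = 0 by linear_combination this)).resolve_left h2]; simp⟩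

theorem sg {c : F} {s t : GL (Fin 2) F} (e : s.1 = c • t.1) (d : s.1.det = t.1.det) : s = t ∨ s = -t := by
  rw [e, det_smul, Fintype.card_fin, mul_eq_right₀ t.det_ne_zero, pow_two, mul_self_eq_one_iff] at d
  exact d.imp (fun d => Units.ext (by simp [e, d])) fun d => Units.ext (by simp [e, d])

theorem tr0 (h2 : (2 : F) ≠ 0) {s t : GL (Fin 2) F} (h : s * t = -(t * s)) : t.1.trace = 0 := by
  have : s * t * s⁻¹ = -t := by rw [h]; simp
  have := congrArg (fun g : GL (Fin 2) F => g.1.trace) this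
  simp only [Units.val_mul, trace_units_conj, Units.val_neg, trace_neg] at this
  exact (mul_eq_zero.1 (show 2 * t.1.trace = 0 by linear_combination this)).resolve_left h2

theorem pm2 (h2 : (2 : F) ≠ 0) {s t : GL (Fin 2) F} (ht : ¬ Sc t.1) (h : Commute s t) (h1 : s.1.trace = 0)
    (h3 : t.1.trace = 0) (d : s.1.det = t.1.det) : s = t ∨ s = -t := by
  obtain ⟨α, β, e⟩ := cen2 ht (congrArg Units.val h)
  have h8 := congrArg trace e
  simp only [h1, h3, trace_add, trace_smul, trace_one, Fintype.card_fin, smul_eq_mul,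
    mul_zero, add_zero, Nat.cast_ofNat, zero_eq_mul, h2, or_false] at h8
  exact sg (c := β) (by simpa [h8] using e) d

theorem rig_of (h2 : (2 : F) ≠ 0) {T : Subgroup (GL (Fin 2) F)} (hT : IsPGroup 2 T) {x s t : GL (Fin 2) F}
    (hx : Odd (orderOf x)) (hn : x ∈ normalizer (T : Set (GL (Fin 2) F))) (hs : s ∈ T) (h5 : ¬ Sc t.1)
    (h6 : s * t = -(t * s)) (h : Commute (x * t * x⁻¹) t) : Sc x.1 := by
  have h7 := tr0 h2 h6
  have h9 : Commute x t := odd_sign hx ((pm2 h2 h5 h ((trace_units_conj x t.1).trans h7) h7 (det_units_conj x t.1)).imp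
    (fun e => mul_inv_eq_iff_eq_mul.1 e) fun e => by rw [← neg_mul]; exact mul_inv_eq_iff_eq_mul.1 e)
  obtain ⟨α, β, e⟩ := cen2 h5 (congrArg Units.val h9)
  refine sc_of h2 e (congrArg Units.val (odd_comm hT hx hn hs (Units.ext ?_))) h6
  have : (s * x * s⁻¹).1 = α • 1 - β • t.1 := by
    have : s.1 * t.1 = -(t.1 * s.1) := congrArg Units.val h6
    simp [e, mul_add, add_mul, this, sub_eq_add_neg]
  rw [Units.val_mul, Units.val_mul (s * x * s⁻¹), this]
  exact ((Commute.one_right _).smul_right _).sub_right (Commute.smul_right (congrArg Units.val h9) _)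

theorem two_dim [Finite F] (h2 : (2 : F) ≠ 0) {T : Subgroup (GL (Fin 2) F)} (hT : IsPGroup 2 T)
    (hc : ∀ M, (∀ u ∈ T, M * u.1 = u.1 * M) → Sc M) {x : GL (Fin 2) F} (hx : Odd (orderOf x))
    (hn : x ∈ normalizer (T : Set (GL (Fin 2) F))) : Sc x.1 ∨ ∀ s ∈ T, ∀ s' ∈ T, Sc (s * s' * s⁻¹ * s'⁻¹).1 := by
  have hz : ∀ g ∈ center (GL (Fin 2) F), Sc g.1 := fun g hg => hc _ fun u _ =>
    congrArg Units.val (mem_center_iff.1 hg u).symm
  obtain ⟨t, ht, h3, h4⟩ : ∃ t ∈ T, t ∉ center _ ∧ ∀ s ∈ T, s * t = t * s ∨ s * t = -(t * s) := by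
    let π := QuotientGroup.mk' (center (GL (Fin 2) F))
    have : Nontrivial (T.map π) := (nontrivial_iff_ne_bot _).2 fun e => by
      obtain ⟨c, e'⟩ := hc !![0, 1; 0, 0] fun u hu => by
        obtain ⟨c, e⟩ := hz u ((QuotientGroup.eq_one_iff u).1 (mem_bot.1 (e ▸ mem_map_of_mem π hu)))
        simp [e]
      simpa using congrFun₂ e' 0 1
    have := (hT.map π).center_nontrivial
    obtain ⟨⟨⟨_, t, ht, rfl⟩, h3⟩, h4⟩ := exists_ne (1 : center (T.map π))
    refine ⟨t, ht, fun h => h4 (Subtype.ext (Subtype.ext ((QuotientGroup.eq_one_iff t).2 h))), fun s hs => ?_⟩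
    obtain ⟨c, e⟩ := hz _ (QuotientGroup.eq.1 (congrArg Subtype.val
      (mem_center_iff.1 h3 ⟨_, mem_map_of_mem π hs⟩)).symm : (t * s)⁻¹ * (s * t) ∈ _)
    exact sg (c := c) (by rw [← mul_inv_cancel_left (t * s) (s * t), Units.val_mul, e]; simp) (by simp [mul_comm])
  have h5 : ¬ Sc t.1 := fun h => h3 h.center
  obtain ⟨s, hs, h6⟩ : ∃ s ∈ T, s * t = -(t * s) := by
    by_contra! h
    exact h5 (hc _ fun u hu => congrArg Units.val ((h4 u hu).resolve_right (h u hu)).symm)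
  rcases h4 _ ((mem_normalizer_iff.1 hn t).1 ht) with h | h
  · exact .inl (rig_of h2 hT hx hn hs h5 h6 h)
  · refine .inr fun a ha b hb => ?_
    have k : ∀ u ∈ T, u * (x * t * x⁻¹) = x * t * x⁻¹ * u ∨ u * (x * t * x⁻¹) = -(x * t * x⁻¹ * u) := fun u hu =>
      (h4 _ ((mem_normalizer_iff''.1 hn u).1 hu)).imp (fun e => by simpa [mul_assoc] using congrArg (x * · * x⁻¹) e)
        fun e => by simpa [mul_assoc] using congrArg (x * · * x⁻¹) e
    obtain ⟨α, β, e⟩ := cen2 h5 (congrArg Units.val (sign_comm (h4 a ha) (h4 b hb)))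
    exact sc_of h2 e (congrArg Units.val (sign_comm (k a ha) (k b hb))) h

/-- isometry group (the whole group when `c` is false) -/
def Iso {ι : Type} [Fintype ι] [DecidableEq ι] (c : Prop) (σ : F →+* F) (J : Matrix ι ι F) : Subgroup (GL ι F) where
  carrier := {g | c → (g.1.map σ)ᵀ * J * g.1 = J}
  one_mem' _ := by simp
  mul_mem' {a b} ha hb h := by
    rw [Units.val_mul, Matrix.map_mul, transpose_mul, mul_assoc, mul_assoc, ← mul_assoc J, ← mul_assoc,
      ← mul_assoc (_ * _), mul_assoc _ _ (J * _), ← mul_assoc _ J, ha h, hb h]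
  inv_mem' {a} ha h := by
    conv_lhs => rw [← ha h]
    rw [← mul_assoc, ← mul_assoc, ← transpose_mul, ← Matrix.map_mul, mul_assoc, ← Units.val_mul]; simp

variable {c : Prop} {σ : F →+* F}

theorem wr_le {ι : Type} [Fintype ι] [DecidableEq ι] {J : Matrix ι ι F} {T : Subgroup (GL ι F)} (h : T ≤ Iso c σ J) :
    Wr T ≤ Iso c σ (fromBlocks J 0 0 J) := by
  have k : ∀ a ∈ T, ∀ b ∈ T, D (a, b) ∈ Iso c σ (fromBlocks J 0 0 J) := fun a ha b hb hc => by
    simp [D_val, fromBlocks_map, fromBlocks_transpose, fromBlocks_multiply, h ha hc, h hb hc]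
  rintro _ ⟨a, ha, b, hb, rfl | rfl⟩
  · exact k a ha b hb
  · exact mul_mem (k a ha b hb) fun _ => by simp [sw, fromBlocks_map, fromBlocks_transpose, fromBlocks_multiply]

theorem q8_pg {G : Type*} [Group G] [Finite G] [HasDistribNeg G] {i j : G} (hi : i * i = -1) (hj : j * j = -1)
    (h : j * i = -(i * j)) : IsPGroup 2 (zpowers j ⊔ zpowers i : Subgroup G) := by
  have k : ∀ x : G, x * x = -1 → IsPGroup 2 (zpowers x) := fun x e => isPGroup_zpowers_of_pow (k := 2) (by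
    rw [show 2 ^ 2 = 2 * 2 from rfl, pow_mul, pow_two x, e]; simp)
  refine isPGroup_sup (zpowers_le.2 (mem_normalizer_iff_cj.2 ?_)) (k j hj) (k i hi)
  rw [cj, MonoidHom.map_zpowers, ← zpowers_inv (g := i)]
  congr 1
  rw [eq_inv_iff_mul_eq_one]
  simp [h, hi]

theorem good2 (h2 : (2 : F) ≠ 0) {T : Subgroup (GL (Fin 2) F)} (hT : IsPGroup 2 T) {i j : GL (Fin 2) F} (hi : i ∈ T)
    (hj : j ∈ T) (di : GeneralLinearGroup.det i = 1) (dj : GeneralLinearGroup.det j = 1) (h1 : i * i = -1)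
    (h : j * i = -(i * j)) : Good0 T := by
  have h3 : ¬ Sc i.1 := fun e => neg_ne h2 (i * j) (by rw [← h, mem_center_iff.1 e.center j])
  refine ⟨hT, h1 ▸ mul_mem hi hi, by rw [← h1, map_mul, di, one_mul], fun M hM => ?_, i, hi, di,
    fun e => h3 ⟨1, by simp [e]⟩, fun e => h3 ⟨-1, by simp [e]⟩⟩
  obtain ⟨α, β, e⟩ := cen2 h3 (hM i hi di)
  exact sc_of h2 e (hM j hj dj) h

theorem base [Finite F] (h2 : (2 : F) ≠ 0) {a b μ : F} (h : a ^ 2 + b ^ 2 = -1) (hμ : μ ≠ 0)
    (hc : c → σ a = -a ∧ σ b = -b ∧ σ μ * μ * 2 = 1) :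
    ∃ T : Subgroup (GL (Fin 2) F), Good0 T ∧ Rig T ∧ IsSyl 2 T (Iso c σ 1) := by
  let i : GL (Fin 2) F := .mkOfDetNeZero !![0, 1; -1, 0] (by simp)
  let j : GL (Fin 2) F := .mkOfDetNeZero !![a, b; b, -a] (by
    rw [det_fin_two_of, show a * -a - b * b = 1 by linear_combination -h]; simp)
  let m : GL (Fin 2) F := .mkOfDetNeZero (μ • !![a, b + 1; b - 1, -a]) (by
    rw [det_smul, det_fin_two_of, show a * -a - (b + 1) * (b - 1) = 2 by linear_combination -h]; simp [hμ, h2])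
  have hi : i * i = -1 := by ext s t; fin_cases s <;> fin_cases t <;> simp [i]
  have hj : j * j = -1 := by ext s t; fin_cases s <;> fin_cases t <;> simp [j] <;> grind
  have hij : j * i = -(i * j) := by ext s t; fin_cases s <;> fin_cases t <;> simp [i, j]
  have hm : m * m ∈ center _ := Sc.center ⟨-2 * μ ^ 2, by ext s t; fin_cases s <;> fin_cases t <;> simp [m] <;> grind⟩
  have h3 : m * i = j * m := by ext s t; fin_cases s <;> fin_cases t <;> simp [i, j, m] <;> grind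
  have h4 : m * j = i * m := by ext s t; fin_cases s <;> fin_cases t <;> simp [i, j, m] <;> grind
  have iI : i ∈ Iso c σ 1 := fun _ => by ext s t; fin_cases s <;> fin_cases t <;> simp [i, mul_apply]
  have jI : j ∈ Iso c σ 1 := fun e => by
    ext s t; fin_cases s <;> fin_cases t <;> simp [j, mul_apply, hc e] <;> grind
  have mI : m ∈ Iso c σ 1 := fun e => by
    ext s t; fin_cases s <;> fin_cases t <;> simp [m, mul_apply, (hc e).1, (hc e).2.1] <;> grind
  obtain ⟨k, o, ⟨l, ho⟩, e⟩ := Nat.exists_eq_two_pow_mul_odd (orderOf_pos m).ne'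
  have h5 : ∀ x y, m * x = y * m → m ^ o * x * (m ^ o)⁻¹ = y := fun x y e => by
    rw [ho, pow_succ, pow_mul, pow_two, mul_inv_eq_iff_eq_mul, mul_assoc, e, ← mul_assoc, ← mul_assoc,
      mem_center_iff.1 (pow_mem hm l) y]
  obtain ⟨T, h6, h7⟩ := exists_isSyl_ge (p := 2) (isPGroup_sup (H := zpowers (m ^ o)) (zpowers_le.2
    (mem_normalizer_iff_cj.2 (by
      rw [cj_sup, cj, cj, MonoidHom.map_zpowers, MonoidHom.map_zpowers, sup_comm]
      exact congrArg₂ (zpowers · ⊔ zpowers ·) (h5 _ _ h3) (h5 _ _ h4))))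
    (isPGroup_zpowers_of_pow (k := k) (by rw [← pow_mul, mul_comm, ← e, pow_orderOf_eq_one])) (q8_pg hi hj hij))
    (sup_le (zpowers_le.2 (pow_mem mI o)) (sup_le (zpowers_le.2 jI) (zpowers_le.2 iI)))
  simp only [sup_le_iff, zpowers_le] at h7
  have g := good2 h2 h6.pgroup h7.2.2 h7.2.1 (Units.ext (by simp [i])) (Units.ext (by simp [j]; grind)) hi hij
  refine ⟨T, g, fun x hx hn => (two_dim h2 h6.pgroup (fun M hM => g.cen M fun u hu _ => hM u hu) hx hn).resolve_right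
    fun k => neg_ne h2 j ?_, h6⟩
  have := mem_center_iff.1 (k _ h7.1 _ h7.2.2).center i
  rw [h5 _ _ h3, inv_mul_cancel_right, ← mul_assoc, mul_inv_eq_iff_eq_mul, hij] at this
  exact mul_left_cancel (a := i) (by rw [mul_neg, ← this])

/-- the 2-adic valuation of `∏ (Q ^ i - 1)` -/
noncomputable def ev (Q : ℤ) (n : ℕ) : ℕ∞ := ∑ i ∈ Finset.range n, emultiplicity 2 (Q ^ (i + 1) - 1)

theorem ev_step {Q : ℤ} (hQ : Odd Q) (w : ℕ) (h4 : 4 ∣ Q ^ 2 ^ w - 1) :
    ev Q (2 ^ w + 2 ^ w) = ev Q (2 ^ w) + ev Q (2 ^ w) + 1 := by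
  have h0 : ∀ a, ¬ 2 ∣ Q ^ a := fun a => by rw [← even_iff_two_dvd, Int.not_even_iff_odd]; exact hQ.pow
  have k : ∀ a o, Odd o → emultiplicity 2 (Q ^ (a * o) - 1) = emultiplicity 2 (Q ^ a - 1) := fun a o ho => by
    have := emultiplicity_pow_sub_pow_of_prime Int.prime_two (x := Q ^ a) (y := 1) (n := o)
      (hQ.pow.sub_odd odd_one).two_dvd (h0 a) (by exact_mod_cast ho.not_two_dvd_nat)
    rwa [one_pow, ← pow_mul] at this
  obtain ⟨m, hm⟩ : ∃ m, 2 ^ w = m + 1 := ⟨2 ^ w - 1, by have := Nat.one_le_two_pow (n := w); omega⟩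
  have h1 := Int.two_pow_two_pow_sub_pow_two_pow 1 h4 (h0 _)
  rw [ev, Finset.sum_range_add, add_assoc]
  congr 1
  conv_lhs => rw [hm, Finset.sum_range_succ, ← hm]
  rw [ev, hm, Finset.sum_range_succ, ← hm, add_assoc (2 ^ w), ← hm, add_assoc, ← mul_two, pow_mul]
  refine congrArg₂ _ (Finset.sum_congr rfl fun i hi => ?_) (by simpa using h1)
  obtain ⟨a, o, ho, e⟩ := Nat.exists_eq_two_pow_mul_odd i.succ_ne_zero
  have : a < w := (Nat.pow_lt_pow_iff_right one_lt_two).1 (by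
    have := Nat.le_mul_of_pos_right (2 ^ a) ho.pos
    have := Finset.mem_range.1 hi
    omega)
  obtain ⟨d, rfl⟩ := Nat.exists_eq_add_of_lt this
  rw [add_assoc, show i + 1 = _ from e, k _ _ ho, add_assoc a, pow_add 2 a, ← mul_add,
    k _ _ (Even.add_odd (by simp [Nat.even_pow]) ho)]

theorem tower [Finite F] (h2 : (2 : F) ≠ 0) {Q : ℤ} (hQ : Odd Q)
    (hc : ∀ (ι : Type) [Fintype ι] [DecidableEq ι],
      emultiplicity 2 (Nat.card (Iso c σ (1 : Matrix ι ι F))) = ev Q (Fintype.card ι))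
    (h0 : ∃ T : Subgroup (GL (Fin 2) F), Good0 T ∧ Rig T ∧ IsSyl 2 T (Iso c σ 1)) (w : ℕ) :
    ∃ (ι : Type) (_ : Fintype ι) (_ : DecidableEq ι) (T : Subgroup (GL ι F)), Fintype.card ι = 2 ^ (w + 1) ∧
      IsSyl 2 T (Iso c σ 1) ∧ Good0 T ∧ Rig T ∧ (w ≠ 0 → Rig (T ⊓ GeneralLinearGroup.det.ker)) := by
  induction w with
  | zero => exact h0.elim fun T h => ⟨_, _, _, T, by simp, h.2.2, h.1, h.2.1, by simp⟩
  | succ w ih =>
    obtain ⟨ι, _, _, T, h1, h3, h4, h5, -⟩ := ih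
    have : Nonempty ι := Fintype.card_pos_iff.1 (by rw [h1]; positivity)
    refine ⟨ι ⊕ ι, inferInstance, inferInstance, Wr T, by simp [h1, pow_succ, mul_two], syl_step h3
      (fromBlocks_one (l := ι) (m := ι) (α := F) ▸ wr_le h3.le) ?_, h4.wr h2, (h4.step h2 h5).of_inf,
      fun _ => h4.step h2 h5⟩
    rw [hc, hc, Fintype.card_sum, h1, ev_step hQ]
    rw [pow_succ, pow_mul]
    exact (show (4 : ℤ) ∣ 8 by norm_num).trans (Int.eight_dvd_sq_sub_one_of_odd hQ.pow)

/-- reindexing -/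
def R {ι κ : Type} [Fintype ι] [DecidableEq ι] [Fintype κ] [DecidableEq κ] (e : ι ≃ κ) : GL ι F ≃* GL κ F :=
  Units.mapEquiv (reindexAlgEquiv F F e).toMulEquiv

theorem R_mem {ι κ : Type} [Fintype ι] [DecidableEq ι] [Fintype κ] [DecidableEq κ] (e : ι ≃ κ) (J : Matrix ι ι F)
    (g : GL ι F) : R e g ∈ Iso c σ (reindex e e J) ↔ g ∈ Iso c σ J := by
  refine imp_congr_right fun _ => ?_
  rw [← (reindex e e).injective.eq_iff, reindex_apply _ _ (_ * _), ← submatrix_mul_equiv _ _ _ e.symm,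
    ← submatrix_mul_equiv _ _ _ e.symm]
  rfl

theorem map_R {ι κ : Type} [Fintype ι] [DecidableEq ι] [Fintype κ] [DecidableEq κ] (e : ι ≃ κ) (J : Matrix ι ι F) :
    (Iso c σ J).map (R (F := F) e).toMonoidHom = Iso c σ (reindex e e J) := by
  ext g; obtain ⟨g, rfl⟩ := (R e).surjective g
  rw [R_mem]; exact mem_map_iff_mem (f := (R (F := F) e).toMonoidHom) (R e).injective

theorem sp_odd [Finite F] (h2 : (2 : F) ≠ 0) {Q : ℤ} (hQ : Odd Q)
    (hc : ∀ n, emultiplicity 2 (Nat.card (Iso c σ (1 : Matrix (Fin n) (Fin n) F))) = ev Q n)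
    (h0 : ∃ T : Subgroup (GL (Fin 2) F), Good0 T ∧ Rig T ∧ IsSyl 2 T (Iso c σ 1)) {w : ℕ} (hw : 2 ≤ w) :
    SP 2 (Iso c σ (1 : Matrix (Fin (2 ^ w)) (Fin (2 ^ w)) F) ⊓ GeneralLinearGroup.det.ker) := by
  obtain ⟨ι, _, _, T, h1, h3, -, -, h4⟩ := tower h2 hQ (fun ι _ _ => by
    rw [← hc, ← card_map_of_injective (f := (R (F := F) (Fintype.equivFin ι)).toMonoidHom) (R _).injective, map_R]; simp)
    h0 (w - 1)
  let e := Fintype.equivFinOfCardEq (h1.trans (congrArg _ (by omega : w - 1 + 1 = w)))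
  have h5 := h3.inf_normal (K := Iso c σ 1 ⊓ GeneralLinearGroup.det.ker) inf_le_left
    (le_normalizer_inf (h3.le.trans le_normalizer) le_normalizer_of_normal)
  rw [← inf_assoc, inf_eq_left.2 h3.le] at h5
  have := (crit_odd h5 fun x _ a b => (h4 (by omega) x a b).center).map (R (F := F) e).toMonoidHom
  rw [map_inf _ _ (R (F := F) e).toMonoidHom (R e).injective, map_R] at this
  convert this using 2
  · simp
  · ext g; obtain ⟨g, rfl⟩ := (R e).surjective g
    refine Iff.trans ?_ (mem_map_iff_mem (f := (R (F := F) e).toMonoidHom) (R e).injective).symm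
    simp [R, Units.ext_iff]

end H9.Pn
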