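import Cfsg.Agent.H9.Pn3
import Cfsg.Agent.S0071

/-! Pronormality of the subgroups of odd index in `SL₂(q)`, `q` odd (`sp_dim2`), via quaternion Sylow subgroups (`Q8`,
`Q8.dich`, `Q8.norm`). -/

set_option autoImplicit false
set_option linter.unusedSectionVars false

namespace H9.Pn
open Subgroup H17 Matrix

theorem ncomp {G : Type*} [Group G] [Finite G] {S M : Subgroup G} (hS : IsSyl 2 S M)
    (h : ∀ Q ≤ S, ∀ x ∈ M, Odd (orderOf x) → x ∈ normalizer (Q : Set G) → x ∈ centralizer (Q : Set G)) :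
    ∃ O : Subgroup G, M ≤ normalizer (O : Set G) ∧ ¬ 2 ∣ Nat.card O ∧ ∀ x ∈ M, Odd (orderOf x) → x ∈ O := by
  obtain ⟨P, rfl⟩ := hS.exists_sylow
  obtain ⟨N, h1, h2⟩ := (Cfsg.Agent.S0071.result P).2 fun Q hQ g hg ho q hq => Subtype.ext
    (h (Q.map M.subtype) (map_mono hQ) g g.2 (by simpa using ho) (le_normalizer_map _ (mem_map_of_mem _ hg)) q
      (mem_map_of_mem _ hq))
  refine ⟨N.map M.subtype, by simpa [← MonoidHom.range_eq_map] using
    (map_mono (normalizer_eq_top N).ge).trans (le_normalizer_map M.subtype), ?_, fun x hx ho => ?_⟩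
  · rw [card_map_of_injective M.subtype_injective, ← h2.index_eq_card]; exact P.not_dvd_index
  · obtain ⟨k, e⟩ := P.isPGroup'.exists_card_eq
    refine mem_map_of_mem M.subtype (x := ⟨x, hx⟩) (mem_of_pow_mem_of_coprime (N.pow_index_mem _) ?_)
    rw [h2.symm.index_eq_card, e]
    exact Nat.Coprime.pow_left _ (by simpa using ho)

theorem exists_fix {G : Type*} [Group G] [Finite G] {Y : Subgroup G} (hY : Y ≠ ⊥) {a b : G}
    (ha : a ∈ normalizer (Y : Set G)) (hb : b ∈ normalizer (Y : Set G)) (h1 : a * a ∈ center G) (h2 : b * b ∈ center G) :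
    ∃ v, (v = a ∨ v = b ∨ v = a * b) ∧ ∃ y ∈ Y, y ≠ 1 ∧ Commute v y := by
  by_contra! h
  have k : ∀ v ∈ normalizer (Y : Set G), v * v ∈ center G → (∀ y ∈ Y, y ≠ 1 → ¬ Commute v y) →
      ∀ y ∈ Y, v * y * v⁻¹ = y⁻¹ := fun v hv h1 h2 y hy => congrArg Subtype.val (congrFun
    (MonoidHom.FixedPointFree.coe_eq_inv_of_involutive (φ := Y.normalizerMonoidHom ⟨v, hv⟩) (fun y e => by
      by_contra h
      exact h2 y y.2 (fun e => h (Subtype.ext e)) (mul_inv_eq_iff_eq_mul.1 (congrArg Subtype.val e)))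
      fun y => Subtype.ext (show v * (v * y * v⁻¹) * v⁻¹ = y by
        rw [← mul_assoc, ← mul_assoc, ← mem_center_iff.1 h1]; group)) ⟨y, hy⟩)
  obtain ⟨⟨y, hy⟩, h3⟩ := ne_bot_iff_exists_ne_one.1 hY
  refine h (a * b) (by simp) y hy (fun e => h3 (Subtype.ext e)) (mul_inv_eq_iff_eq_mul.1 ?_)
  rw [show a * b * y * (a * b)⁻¹ = a * (b * y * b⁻¹) * a⁻¹ by group, k b hb h2 (h b (by simp)) y hy,
    k a ha h1 (h a (by simp)) _ (inv_mem hy), inv_inv]

variable {F : Type*} [Field F] [Finite F] (h2 : (2 : F) ≠ 0)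

local notation "L₂" => (GeneralLinearGroup.det.ker : Subgroup (GL (Fin 2) F))

theorem sc_pm {x : GL (Fin 2) F} (hx : x ∈ L₂) (h : Sc x.1) : x = 1 ∨ x = -1 :=
  h.elim fun c e => sg (c := c) (t := 1) e (by simpa using congrArg Units.val hx)

theorem comm2 {t a b : GL (Fin 2) F} (ht : ¬ Sc t.1) (ha : Commute a t) (hb : Commute b t) : Commute a b := by
  obtain ⟨α, β, e⟩ := cen2 ht (congrArg Units.val ha)
  refine Units.ext (?_ : Commute a.1 b.1)
  rw [e]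
  exact ((Commute.one_left _).smul_left _).add_left (Commute.smul_left (congrArg Units.val hb.symm) _)

theorem sc_conj {ι : Type} [Fintype ι] [DecidableEq ι] {v : GL ι F} (hv : ¬ Sc v.1) (g : GL ι F) :
    ¬ Sc (g * v * g⁻¹).1 := fun h => hv (by
  have := mem_center_iff.1 h.center g
  rw [inv_mul_cancel_right, mul_right_inj] at this
  rwa [← this])

/-- quaternion Sylow subgroups of order 8 -/
structure Q8 (S : Subgroup (GL (Fin 2) F)) : Prop where
  syl : IsSyl 2 S L₂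
  good : Good0 S
  ab : ∀ s ∈ S, ∀ t ∈ S, s * t = t * s ∨ s * t = -(t * s)

include h2

theorem sc_odd {x : GL (Fin 2) F} (hx : x ∈ L₂) (h : Sc x.1) (ho : Odd (orderOf x)) : x = 1 :=
  (sc_pm hx h).resolve_right fun e => neg_ne h2 (1 : GL (Fin 2) F) (by
    rw [← ho.neg_one_pow, ← e, pow_orderOf_eq_one])

variable {S : Subgroup (GL (Fin 2) F)} (h : Q8 S)
include h

theorem Q8.anti {v : GL (Fin 2) F} (hv : v ∈ S) (h1 : ¬ Sc v.1) : ∃ s ∈ S, s * v = -(v * s) := by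
  by_contra! k
  exact h1 (h.good.cen _ fun u hu _ => congrArg Units.val ((h.ab u hu v hv).resolve_right (k u hu)).symm)

theorem Q8.pm {v w : GL (Fin 2) F} (hv : v ∈ S) (h1 : ¬ Sc v.1) (hw : w ∈ S) (h3 : ¬ Sc w.1) (g : GL (Fin 2) F)
    (hc : Commute w (g * v * g⁻¹)) : w = g * v * g⁻¹ ∨ w = -(g * v * g⁻¹) := by
  obtain ⟨s, -, e⟩ := h.anti h2 hv h1
  obtain ⟨t, -, e'⟩ := h.anti h2 hw h3
  exact pm2 h2 (sc_conj h1 g) hc (tr0 h2 e') ((trace_units_conj g v.1).trans (tr0 h2 e))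
    ((congrArg Units.val (h.syl.le hw)).trans ((det_units_conj g v.1).trans (congrArg Units.val (h.syl.le hv))).symm)

theorem Q8.sq {v : GL (Fin 2) F} (hv : v ∈ S) : v * v ∈ center (GL (Fin 2) F) :=
  (h.good.cen _ fun u hu _ => congrArg Units.val (show v * v * u = u * (v * v) by
    rcases h.ab v hv u hu with e | e <;> simp [mul_assoc, e, ← mul_assoc v u])).center

theorem Q8.fix {y v : GL (Fin 2) F} (hy : y ∈ L₂) (hn : y ∈ normalizer (S : Set (GL (Fin 2) F))) (hv : v ∈ S)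
    (h1 : ¬ Sc v.1) (hc : Commute (y * v * y⁻¹) v) : y ∈ S := by
  obtain ⟨s, hs, e⟩ := h.anti h2 hv h1
  refine norm_le h.syl (K := L₂ ⊓ normalizer (centralizer {v} : Subgroup (GL (Fin 2) F))) inf_le_left le_rfl
    (fun x hx ho hx' => ?_) ⟨⟨hy, mem_normalizer_of_conj_mem fun c hc' => mem_centralizer_singleton_iff.2 ?_⟩, hn⟩
  · rw [sc_odd h2 hx.1 (rig_of h2 h.syl.pgroup ho hx' hs h1 e (mem_centralizer_singleton_iff.1
      ((mem_normalizer_iff.1 hx.2 v).1 (mem_centralizer_singleton_iff.2 rfl)))) ho]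
    exact one_mem _
  · exact comm2 (sc_conj h1 y) ((Commute.conj_iff y).2 (mem_centralizer_singleton_iff.1 hc')) hc.symm

theorem Q8.gen {a b s : GL (Fin 2) F} (ha : a ∈ S) (hb : b ∈ S) (hab : b * a = -(a * b)) (hs : s ∈ S)
    {Q : Subgroup (GL (Fin 2) F)} (h3 : a ∈ Q) (h4 : b ∈ Q) : s ∈ Q := by
  have h5 : ¬ Sc a.1 := fun e => neg_ne h2 (a * b) (by rw [← hab, mem_center_iff.1 e.center b])
  have k : ∀ s ∈ S, s * a = a * s → s * b = b * s → s ∈ Q := fun s hs e e' => by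
    obtain ⟨α, β, e⟩ := cen2 h5 (congrArg Units.val e)
    rcases sc_pm (h.syl.le hs) (sc_of h2 e (congrArg Units.val e') hab) with rfl | rfl
    · exact one_mem _
    · simpa [hab] using mul_mem (mul_mem h4 h3) (inv_mem (mul_mem h3 h4))
  rcases h.ab s hs a ha with e | e <;> rcases h.ab s hs b hb with e' | e'
  · exact k s hs e e'
  · exact (mul_mem_cancel_right h3).1 (k _ (mul_mem hs ha) (by simp [e, mul_assoc])
      (by simp [mul_assoc, ← mul_assoc b s, ← neg_eq_iff_eq_neg.2 e', hab]))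
  · exact (mul_mem_cancel_right h4).1 (k _ (mul_mem hs hb) (by simp [mul_assoc, hab, ← mul_assoc s a, e])
      (by simp [e', mul_assoc]))
  · exact (mul_mem_cancel_right (mul_mem h3 h4)).1 (k _ (mul_mem hs (mul_mem ha hb))
      (by simp [mul_assoc, hab, ← mul_assoc s a, e]) (by simp [mul_assoc, ← mul_assoc b s, ← neg_eq_iff_eq_neg.2 e',
        ← mul_assoc b a, hab]))

theorem Q8.dich {M : Subgroup (GL (Fin 2) F)} (hM : S ≤ M) :
    M ⊓ L₂ ⊓ normalizer (S : Set (GL (Fin 2) F)) ≤ S ∨ L₂ ⊓ normalizer (S : Set (GL (Fin 2) F)) ≤ M := by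
  refine or_iff_not_imp_left.2 fun k g hg => ?_
  obtain ⟨x, ⟨⟨h3, h4⟩, h5⟩, h6⟩ := SetLike.not_le_iff_exists.1 k
  obtain ⟨a, ha, -, h7, h8⟩ := h.good.ns
  have h9 : ¬ Sc a.1 := fun e => (sc_pm (h.syl.le ha) e).elim h7 h8
  have hb := (mem_normalizer_iff.1 h5 a).1 ha
  have k1 : ∀ y ∈ M, y ∈ L₂ → y ∈ normalizer (S : Set (GL (Fin 2) F)) → Commute (g * a * g⁻¹) (y * a * y⁻¹) → g ∈ M :=
    fun y h3 h4 h5 e => by
      have := hM (h.fix h2 (mul_mem (inv_mem h4) hg.1) (mul_mem (inv_mem h5) hg.2) ha h9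
        (by simpa [mul_assoc] using (Commute.conj_iff y⁻¹).2 e))
      simpa using mul_mem h3 this
  have h10 := (h.ab _ hb a ha).resolve_left fun e => h6 (h.fix h2 h4 h5 ha h9 e)
  have h11 := (h.ab _ ((mem_normalizer_iff.1 h5 _).1 hb) a ha).resolve_left fun e => h6 <| by
    obtain ⟨k, e⟩ := isPGroup_iff_forall.1 h.syl.pgroup _ (h.fix h2 (mul_mem h4 h4) (mul_mem h5 h5) ha h9
      (by simpa [mul_assoc, commute_iff_eq] using e))
    exact h.syl.le_of_le_normalizer (isPGroup_zpowers_of_pow (k := k + 1) (by rw [pow_succ', pow_mul, pow_two, e]))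
      (zpowers_le.2 h4) (zpowers_le.2 h5) (mem_zpowers x)
  have h12 := congrArg (x * · * x⁻¹) h10
  have hs := (mem_normalizer_iff.1 hg.2 a).1 ha
  rcases h.ab _ hs a ha with e | e
  · exact k1 1 (one_mem _) (one_mem _) (one_mem _) (by simpa [commute_iff_eq] using e)
  rcases h.ab _ hs _ hb with e' | e'
  · exact k1 x h3 h4 h5 e'
  have k2 : ∀ s b : GL (Fin 2) F, s * a = -(a * s) → s * b = -(b * s) → Commute s (a * b) := fun s b e e' => by
    simp [Commute, SemiconjBy, ← mul_assoc s, e, mul_assoc, e']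
  refine k1 (x * x) (mul_mem h3 h3) (mul_mem h4 h4) (mul_mem h5 h5) (comm2 (t := a * (x * a * x⁻¹)) (fun e => ?_)
    (k2 _ _ e e') (k2 _ _ (by simpa [mul_assoc] using h11) (by simpa [mul_assoc] using h12)))
  have := mem_center_iff.1 e.center a
  rw [mul_assoc a _ a, h10, mul_right_inj] at this
  exact neg_ne h2 _ this.symm

theorem Q8.norm {K : Subgroup (GL (Fin 2) F)} (h3 : S ≤ K) (h4 : K ≤ L₂) {g : GL (Fin 2) F} (hg : g ∈ L₂)
    (hn : g ∈ normalizer (S : Set (GL (Fin 2) F))) (h5 : g ∉ K ⊔ cj g K) : K = S := by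
  have h6 : K ⊔ cj g K ≤ L₂ := sup_le h4 ((cj_mono g h4).trans (cj_eq_of_mem hg).le)
  have h7 := (h.dich h2 (h3.trans (le_sup_left (b := cj g K)))).resolve_right fun k => h5 (k ⟨hg, hn⟩)
  obtain ⟨O, h8, h9, h10⟩ := ncomp (h.syl.mono (h3.trans le_sup_left) h6) fun Q hQ x hx ho hx' v hv => by
    by_contra e
    have k : ¬ Sc v.1 := fun k => e (mem_center_iff.1 k.center x).symm
    have hv' := (mem_normalizer_iff.1 hx' v).1 hv
    rcases h.ab _ (hQ hv') v (hQ hv) with e' | e'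
    · exact e (odd_sign ho ((h.pm h2 (hQ hv) k (hQ hv) k x e'.symm).imp (fun e => mul_inv_eq_iff_eq_mul.1 e.symm)
        fun e => by rw [← neg_mul, ← mul_inv_eq_iff_eq_mul, neg_eq_iff_eq_neg.2 e])).symm
    · have : Q = S := le_antisymm hQ fun s hs => h.gen h2 (hQ hv) (hQ hv') e' hs hv hv'
      rw [eq_one_of_pow_of_not_dvd (isPGroup_iff_forall.1 h.syl.pgroup x (h7 ⟨⟨hx, h6 hx⟩, this ▸ hx'⟩)).choose_spec
        ho.not_two_dvd_nat] at e
      simp at e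
  by_cases hY : K ⊓ O = ⊥
  · refine h.syl.eq_of_le (isPGroup_iff_forall.2 fun x hx => ?_) h3 h4
    obtain ⟨k, o, ho, e⟩ := Nat.exists_eq_two_pow_mul_odd (orderOf_pos x).ne'
    exact ⟨k, mem_bot.1 (hY ▸ mem_inf.2 ⟨pow_mem hx _, h10 _ (mem_sup_left (pow_mem hx _))
      (ho.of_dvd_nat (orderOf_dvd_of_pow_eq_one (by rw [← pow_mul, ← e, pow_orderOf_eq_one])))⟩)⟩
  exfalso
  obtain ⟨a, ha, -, k1, k2⟩ := h.good.ns
  have k3 : ¬ Sc a.1 := fun e => (sc_pm (h.syl.le ha) e).elim k1 k2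
  obtain ⟨b, hb, k4⟩ := h.anti h2 ha k3
  have hS : S ≤ normalizer ((K ⊓ O : Subgroup _) : Set (GL (Fin 2) F)) :=
    le_normalizer_inf (h3.trans le_normalizer) ((h3.trans le_sup_left).trans h8)
  obtain ⟨v, hv, y, hy, k5, k6⟩ := exists_fix hY (hS ha) (hS hb) (h.sq h2 ha) (h.sq h2 hb)
  obtain ⟨k7, k8⟩ : v ∈ S ∧ ¬ Sc v.1 := by
    rcases hv with rfl | rfl | rfl
    · exact ⟨ha, k3⟩
    · exact ⟨hb, fun e => neg_ne h2 (a * v) (by rw [← k4, mem_center_iff.1 e.center a])⟩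
    · refine ⟨mul_mem ha hb, fun e => neg_ne h2 (a * b) ?_⟩
      have := mem_center_iff.1 e.center a
      rwa [mul_assoc, k4, mul_right_inj, eq_comm] at this
  obtain ⟨r, hr, d⟩ := Nat.exists_prime_and_dvd (mt orderOf_eq_one_iff.1 k5)
  have := Fact.mk hr
  have ko : ∀ x ∈ O, Odd (orderOf x) := fun x hx => Nat.not_even_iff_odd.1 fun e =>
    h9 (e.two_dvd.trans (orderOf_dvd_card_of_mem hx))
  obtain ⟨z, hz, k9, k10⟩ : ∃ z ∈ K ⊓ O, orderOf z = r ∧ Commute v z :=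
    ⟨_, pow_mem hy _, orderOf_pow_orderOf_div (orderOf_pos y).ne' d, k6.pow_right _⟩
  have h11 : O ⊓ (K ⊔ cj g K) ≤ O := inf_le_left
  have hz' : g * z * g⁻¹ ∈ O ⊓ (K ⊔ cj g K) := mem_inf.2 ⟨h10 _ (mem_sup_right (conj_mem_cj hz.1))
    (by rw [show orderOf (g * z * g⁻¹) = orderOf z from MulEquiv.orderOf_eq (MulAut.conj g) z]; exact ko z hz.2),
    mem_sup_right (conj_mem_cj hz.1)⟩
  obtain ⟨R, hR, h12⟩ := exists_isSyl_ge (isPGroup_zpowers_of_orderOf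
    ((MulEquiv.orderOf_eq (MulAut.conj g) z).trans k9)) (zpowers_le.2 hz')
  obtain ⟨o, ho, h13⟩ := hR.exists_le_cj (isPGroup_zpowers_of_orderOf k9) (zpowers_le.2 ⟨hz.2, mem_sup_left hz.1⟩)
  have z1 : z ≠ 1 := fun e => hr.ne_one (by rw [← k9, e, orderOf_one])
  have ns : ∀ x ∈ O ⊓ (K ⊔ cj g K), x ≠ 1 → ¬ Sc x.1 := fun x hx e k => e (sc_odd h2 (h6 hx.2) k (ko x hx.1))
  have h14 := mem_cj.1 (h13 (mem_zpowers z))
  have h15 : g * z * g⁻¹ ∈ R := h12 (mem_zpowers _)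
  have : Nontrivial R := ⟨⟨⟨_, h15⟩, 1, fun e => z1 (by simpa using congrArg Subtype.val e)⟩⟩
  have := hR.pgroup.center_nontrivial
  obtain ⟨⟨c, hc⟩, c1⟩ := exists_ne (1 : center R)
  have h16 : Commute (o⁻¹ * z * o) (g * z * g⁻¹) := comm2 (ns c (hR.le c.2) fun e => c1 (Subtype.ext (Subtype.ext e)))
    (congrArg Subtype.val (mem_center_iff.1 hc ⟨_, h14⟩)) (congrArg Subtype.val (mem_center_iff.1 hc ⟨_, h15⟩))
  have h17 : Commute (g * v * g⁻¹) (o⁻¹ * v * o⁻¹⁻¹) := comm2 (sc_conj (ns z ⟨hz.2, mem_sup_left hz.1⟩ z1) g)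
    ((Commute.conj_iff g).2 k10) (comm2 (sc_conj (ns z ⟨hz.2, mem_sup_left hz.1⟩ z1) o⁻¹)
      ((Commute.conj_iff o⁻¹).2 k10) (by simpa using h16.symm))
  have h18 := (mem_normalizer_iff.1 hn v).1 k7
  have h19 : ∀ w ∈ S, w = o⁻¹ * v * o⁻¹⁻¹ → w = v := fun w hw e => by
    have : v⁻¹ * w ∈ S ⊓ O := mem_inf.2 ⟨mul_mem (inv_mem k7) hw, by
      simpa [e, mul_assoc] using mul_mem ((mem_normalizer_iff''.1 (h8 (mem_sup_left (h3 k7))) _).1 (inv_mem (h11 ho))) (h11 ho)⟩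
    rw [inf_eq_bot_of_pgroup_of_not_dvd h.syl.pgroup h9, mem_bot, inv_mul_eq_one] at this
    exact this.symm
  refine h5 (mem_sup_left (h3 (h.fix h2 hg hn k7 k8 ?_)))
  rcases h.pm h2 k7 k8 h18 (sc_conj k8 g) _ h17 with e | e
  · rw [h19 _ h18 e]
  · rw [neg_eq_iff_eq_neg.1 (h19 _ (by simpa using mul_mem h.good.neg h18) (neg_eq_iff_eq_neg.2 e))]
    exact (Commute.refl v).neg_left

omit h in
theorem dim2 : ∃ S : Subgroup (GL (Fin 2) F), IsSyl 2 S L₂ ∧ Good0 S ∧ (Rig S ∨ Q8 S) := by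
  obtain ⟨p, _⟩ := CharP.exists F
  have := Fintype.ofFinite F
  have : NeZero p := ⟨(CharP.char_ne_zero_of_finite F p)⟩
  obtain ⟨a, b, e⟩ := CharP.sq_add_sq F p (-1)
  obtain ⟨T, h3, -, h4⟩ := base (c := False) (σ := RingHom.id F) h2 (μ := 1) (by simpa using e) one_ne_zero (by simp)
  have h5 := h4.inf_normal (K := L₂) (fun _ _ => False.elim) le_normalizer_of_normal
  obtain ⟨u, hu, k⟩ := h3.ns
  have g : Good0 (T ⊓ L₂) := ⟨h5.pgroup, ⟨h3.neg, h3.det⟩, h3.det, fun M hM => h3.cen M fun u hu e => hM u ⟨hu, e⟩ e,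
    u, ⟨hu, k.1⟩, k⟩
  refine ⟨_, h5, g, or_iff_not_imp_left.2 fun k => ⟨h5, g, fun s hs t ht => ?_⟩⟩
  simp only [Rig, not_forall] at k
  obtain ⟨x, hx, hn, k⟩ := k
  refine (sc_pm (by simp [MonoidHom.mem_ker]) ((two_dim h2 g.pg (fun M hM => g.cen M fun u hu _ => hM u hu)
    hx hn).resolve_left k s hs t ht)).imp (fun e => ?_) fun e => ?_
  · rw [← one_mul (t * s), ← e]; group
  · rw [← neg_one_mul, ← e]; group

omit h in
theorem sp_dim2 : SP 2 L₂ := by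
  obtain ⟨S, h3, -, h | h⟩ := dim2 h2
  · exact crit_odd h3 fun x _ a b => (h x a b).center
  · refine crit h3 fun K h4 h5 g hg hn => ?_
    by_cases k : g ∈ K ⊔ cj g K
    · exact ⟨g, k, rfl⟩
    · exact ⟨1, one_mem _, by rw [h.norm h2 h4 h5 hg hn k, cj_one, mem_normalizer_iff_cj.1 hn]⟩

end H9.Pn
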