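import Cfsg.Agent.H9.SE4
import Cfsg.Agent.H5.FS

/-! Character tools for Bender's step D: `exc_count` (characters that are not constant on `K#` for an abelian
self-centralizing TI subgroup `K`; `gram_TI`, `count_nonconst`), `mult_free` (a permutation character all of whose
orbitals are self-paired is multiplicity free of rank many constituents), and the final arithmetic `arith_D`. -/

set_option autoImplicit false
open Cfsg H18 Subgroup MulAction Finset
open scoped ComplexConjugate Classical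

namespace H9

theorem count_nonconst {X Λ E : Type*} [Fintype X] [Fintype Λ] [Fintype E] [DecidableEq Λ] (α : X → Λ → ℤ)
    (ac : E → Λ → Λ)
    (inj : ∀ l, Function.Injective fun e => ac e l) (inv : ∀ x e l, α x (ac e l) = α x l)
    (gram : ∀ l m, ∑ x, α x l * α x m = Fintype.card E + #{e | ac e m = l}) (one : ∀ l, #{e | ac e l = l} = 1) :
    #{x | ∃ l m, α x l ≠ α x m} = 0 ∨ (2 * Fintype.card E ≤ Fintype.card Λ ∧
      Fintype.card E * #{x | ∃ l m, α x l ≠ α x m} ≤ Fintype.card Λ) := by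
  set r := Fintype.card E
  set W := Fintype.card Λ
  have key : ∀ x, (∃ l m, α x l ≠ α x m) → 2 * r ≤ W ∧ 2 * (r * (W - r) : ℤ) ≤ ∑ l, ∑ m, (α x l - α x m) ^ 2 := by
    rintro x ⟨l, m, hlm⟩
    set A : Finset Λ := {k | α x k = α x l}
    have hA : r ≤ #A := card_le_card_of_injOn (s := univ) (fun e => ac e l) (fun e _ => by simp [A, inv])
      (inj l).injOn
    have hB : r ≤ #Aᶜ := card_le_card_of_injOn (s := univ) (fun e => ac e m) (fun e _ => by simp [A, inv, hlm.symm])
      (inj m).injOn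
    have hW : #A + #Aᶜ = W := card_add_card_compl A
    refine ⟨by omega, le_trans ?_ (sum_le_sum fun k _ => sum_le_sum (f := fun j =>
      (if k ∈ A then 1 else 0) * (if j ∈ Aᶜ then 1 else 0) + (if k ∈ Aᶜ then 1 else 0) * (if j ∈ A then 1 else 0))
        fun j _ => ?_)⟩
    · simp only [sum_add_distrib, ← mul_sum, ← sum_mul, sum_boole, filter_mem_eq_inter, univ_inter, ← hW]
      push_cast
      nlinarith [mul_nonneg (sub_nonneg.2 (Int.ofNat_le.2 hA)) (sub_nonneg.2 (Int.ofNat_le.2 hB))]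
    · have k1 : ∀ a b : ℤ, a ≠ b → 1 ≤ |a - b| := fun a b e => Int.one_le_abs (sub_ne_zero.2 e)
      by_cases h1 : k ∈ A <;> by_cases h2 : j ∈ A <;> simp only [mem_compl, h1, h2] <;> simp
      · positivity
      · exact k1 _ _ fun e => h2 (mem_filter.2 ⟨mem_univ _, e.symm.trans (mem_filter.1 h1).2⟩)
      · exact k1 _ _ fun e => h1 (mem_filter.2 ⟨mem_univ _, e.trans (mem_filter.1 h2).2⟩)
      · positivity
  rcases (filter (fun x => ∃ l m, α x l ≠ α x m) univ).eq_empty_or_nonempty with e | ⟨x, hx⟩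
  · exact .inl (by rw [e, card_empty])
  have h1 := (key x (mem_filter.1 hx).2).1
  obtain ⟨l, -⟩ := (mem_filter.1 hx).2
  have r0 : 0 < r := Fintype.card_pos_iff.2 ⟨(card_pos.1 ((one l).symm ▸ one_pos)).choose⟩
  have s1 : ∑ l, ∑ m, (#{e | ac e m = l} : ℤ) = W * r := by
    rw [sum_comm]
    simp only [card_filter, Nat.cast_sum, Nat.cast_ite, Nat.cast_one, Nat.cast_zero]
    simp only [sum_comm (s := (univ : Finset Λ)) (t := (univ : Finset E))]
    simp [W, r, mul_comm]
  have s2 : ∑ x, ∑ l, ∑ m, (α x l - α x m) ^ 2 = 2 * (W * (W - r) : ℤ) := by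
    have : ∀ l m, ∑ x, (α x l - α x m) ^ 2 = 2 - #{e | ac e m = l} - #{e | ac e l = m} := fun l m => by
      have : ∑ x, (α x l - α x m) ^ 2 = ∑ x, α x l * α x l + ∑ x, α x m * α x m - ∑ x, α x l * α x m
          - ∑ x, α x m * α x l := by
        simp only [← sum_add_distrib, ← sum_sub_distrib]; exact sum_congr rfl fun _ _ => by ring
      rw [this, gram, gram, gram, gram, one, one]; push_cast; ring
    rw [sum_comm, sum_congr rfl fun l _ => sum_comm]
    simp only [this, sum_sub_distrib, s1]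
    rw [sum_comm (f := fun l m => (#{e | ac e l = m} : ℤ)), s1]
    simp [W]; ring
  have s3 := (card_nsmul_le_sum _ _ _ fun x hx => (key x (mem_filter.1 hx).2).2).trans
    (sum_le_sum_of_subset_of_nonneg (filter_subset _ univ) fun x _ _ => by positivity)
  rw [s2, nsmul_eq_mul] at s3
  refine .inr ⟨h1, by_contra fun e => ?_⟩
  have : (0 : ℤ) < W - r := by omega
  have : (W : ℤ) < r * #{x | ∃ l m, α x l ≠ α x m} := by exact_mod_cast not_le.1 e
  nlinarith

variable {G : Type*} [Group G] [Fintype G]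

theorem gram_TI {K : Subgroup G} {E : Type*} [Fintype E] (hC : ∀ k ∈ K, k ≠ 1 → C1(k) = K) (φ : E → K → K)
    (inj : ∀ k ≠ 1, Function.Injective (φ · k)) (hcl : ∀ k : K, k ≠ 1 → ∀ j : K, IsConj (k : G) j ↔ ∃ e, φ e k = j)
    (θ η : K → ℂ) (h1 : θ 1 = 0) : ∑ χ : IrrCharacter G, classInner (fun k : K => (χ : G → ℂ) k) θ *
      conj (classInner (fun k : K => (χ : G → ℂ) k) η) = ∑ e : E, classInner (fun k => η (φ e k)) θ := by
  have m0 : (Nat.card K : ℂ) ≠ 0 := H5.card_ne_zero_complex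
  have key : ∀ k : K, conj (θ k) * ∑ j : K, η j * ∑ χ : IrrCharacter G, (χ : G → ℂ) k * conj ((χ : G → ℂ) j) =
      Nat.card K * ∑ e : E, η (φ e k) * conj (θ k) := fun k => by
    by_cases k1 : k = 1
    · simp [k1, h1]
    simp only [H5.column_orthogonality, hC k k.2 fun e => k1 (Subtype.ext e), mul_ite, mul_zero, ← sum_filter,
      ← sum_mul]
    rw [sum_bij (s := univ) (t := {j : K | IsConj (k : G) j}) (g := η) (fun e _ => φ e k)
      (fun e _ => mem_filter.2 ⟨mem_univ _, (hcl k k1 _).2 ⟨e, rfl⟩⟩) (fun e _ e' _ h => inj k k1 h)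
      (fun j hj => by simpa using (hcl k k1 j).1 (mem_filter.1 hj).2) fun _ _ => rfl]
    ring
  have : ∑ χ : IrrCharacter G, (∑ k : K, (χ : G → ℂ) k * conj (θ k)) * ∑ j : K, conj ((χ : G → ℂ) j) * η j =
      Nat.card K * ∑ e : E, ∑ k, η (φ e k) * conj (θ k) := by
    rw [sum_comm (s := (univ : Finset E)), mul_sum, ← sum_congr rfl fun k _ => key k]
    simp only [sum_mul_sum]
    simp only [mul_sum]
    rw [sum_comm]
    exact sum_congr rfl fun _ _ => sum_comm.trans (sum_congr rfl fun _ _ => sum_congr rfl fun _ _ => by ring)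
  simp only [classInner, map_mul, map_inv₀, map_natCast, map_sum, Complex.conj_conj, ← mul_sum, mul_mul_mul_comm
    (Nat.card K : ℂ)⁻¹ _ (Nat.card K : ℂ)⁻¹, this]
  rw [mul_assoc, inv_mul_cancel_left₀ m0]

theorem eq_one_of_comp {K : Type*} [Group K] [Finite K] (cm : ∀ x y : K, x * y = y * x) {l : K → ℂ}
    (ml : ∀ x y, l (x * y) = l x * l y) (d1 : l 1 = 1) (f g : K ≃* K) (hf : ∀ k ≠ 1, f k ≠ g k)
    (h : ∀ k, l (f k) = l (g k)) (k : K) : l k = 1 := by
  obtain ⟨j, rfl⟩ := Finite.surjective_of_injective (f := fun j => (f j)⁻¹ * g j) (fun i j hj =>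
    inv_mul_eq_one.1 (by_contra fun h => hf _ h (by
      rw [map_mul, map_mul, map_inv, map_inv, ← inv_mul_cancel_left (g i) (f i)⁻¹, cm (g i), show _ * _ = _ * _ from hj, cm (f j)⁻¹,
        mul_assoc, inv_mul_cancel_right]))) k
  have := ml (f j) ((f j)⁻¹ * g j)
  rwa [mul_inv_cancel_left, ← h, eq_comm, mul_eq_left₀ fun z => by simpa [z, d1] using ml (f j) (f j)⁻¹] at this

theorem exc_count {K : Subgroup G} {E : Type*} [Fintype E] (ha : Abel K) (h1 : K ≠ ⊥)
    (hC : ∀ k ∈ K, k ≠ 1 → C1(k) = K) (φ : E → K ≃* K) (e0 : E) (h0 : ∀ k, φ e0 k = k)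
    (inj : ∀ k ≠ 1, Function.Injective (φ · k)) (hcl : ∀ k : K, k ≠ 1 → ∀ j : K, IsConj (k : G) j ↔ ∃ e, φ e k = j) :
    ∃ (α : IrrCharacter G → ℤ) (Q : Finset (IrrCharacter G)), (#Q = 0 ∨ (2 * Fintype.card E < Nat.card K ∧
      Fintype.card E * #Q < Nat.card K)) ∧ (∀ χ ∉ Q, ∃ n : ℤ, (χ : G → ℂ) 1 = α χ + Nat.card K * n) ∧
      ∑ χ ∈ univ.erase (H5.irrOne G), α χ ^ 2 = Fintype.card E := by
  have cm : ∀ x y : K, x * y = y * x := fun x y => Subtype.ext (cent_iff.1 ha _ x.2 _ y.2)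
  have d1 : ∀ l : IrrCharacter K, (l : K → ℂ) 1 = 1 := fun l => H5.Cfsg.IsIrrCharacter.apply_one_of_comm l.2 cm
  have ml := fun l : IrrCharacter K => H5.Cfsg.IsCharacter.map_mul_of_apply_one
    (H5.Cfsg.IsIrrCharacter.isCharacter l.2) (d1 l)
  have cK : Fintype.card (IrrCharacter K) = Nat.card K := by
    have := H5.sum_sq_degrees (G := K)
    simp only [d1, one_pow, sum_const, card_univ, nsmul_one] at this
    exact_mod_cast this
  have cΛ : Fintype.card {l : IrrCharacter K // l ≠ H5.irrOne K} + 1 = Nat.card K := by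
    rw [Fintype.card_subtype_compl, Fintype.card_subtype_eq, cK, Nat.sub_add_cancel Nat.card_pos]
  choose c hc hs using fun χ : IrrCharacter G => H5.Cfsg.IsCharacter.exists_nat
    (H5.Cfsg.IsCharacter.restrict (H5.Cfsg.IsIrrCharacter.isCharacter χ.2) K)
  let ac : E → {l : IrrCharacter K // l ≠ H5.irrOne K} → {l : IrrCharacter K // l ≠ H5.irrOne K} := fun e l =>
    ⟨⟨fun k => (l.1 : K → ℂ) (φ e k), H5.Cfsg.IsIrrCharacter.comp_equiv l.1.2 (φ e)⟩, fun h => l.2 (Subtype.ext
      (funext fun k => by simpa using congrFun (congrArg Subtype.val h) ((φ e).symm k)))⟩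
  have hin : ∀ l, Function.Injective fun e => ac e l := fun l e e' h => by_contra fun ne => l.2 (Subtype.ext
    (funext (eq_one_of_comp cm (ml l.1) (d1 l.1) (φ e) (φ e') (fun k k1 h => ne (inj k k1 h))
      (congrFun (congrArg (fun x => (x.1 : K → ℂ)) h)))))
  have ca : ∀ (χ : IrrCharacter G) (l : IrrCharacter K), classInner (fun k : K => (χ : G → ℂ) k)
      ((H5.irrOne K : K → ℂ) - l) = ((c χ (H5.irrOne K) - c χ l : ℤ) : ℂ) := fun χ l => by
    rw [H5.classInner_sub_right, hc, hc]; push_cast; rfl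
  have one : ∀ l, #{e | ac e l = l} = 1 := fun l => card_eq_one.2 ⟨e0, by
    have : ac e0 l = l := Subtype.ext (Subtype.ext (funext fun k => congrArg _ (h0 k)))
    ext e; simpa using ⟨fun h => hin l (h.trans this.symm), fun h => h ▸ this⟩⟩
  have gram : ∀ l m : {l : IrrCharacter K // l ≠ H5.irrOne K}, ∑ χ, (c χ (H5.irrOne K) - c χ l : ℤ) *
      (c χ (H5.irrOne K) - c χ m : ℤ) = Fintype.card E + #{e | ac e m = l} := fun l m => by
    have := gram_TI hC (φ · ·) inj hcl ((H5.irrOne K : K → ℂ) - l.1) ((H5.irrOne K : K → ℂ) - m.1) (by simp [d1])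
    simp only [ca, map_intCast] at this
    rw [sum_congr rfl (g := fun e => 1 + if ac e m = l then 1 else 0) fun e _ => by
      rw [show (fun k => ((H5.irrOne K : K → ℂ) - m.1) (φ e k)) = (H5.irrOne K : K → ℂ) - (ac e m).1 from rfl]
      simp [H5.classInner_sub_left, H5.classInner_sub_right, H5.classInner_irr, l.2.symm, (ac e m).2,
        Subtype.val_inj]] at this
    simp only [sum_add_distrib, sum_const, card_univ, nsmul_one, sum_boole] at this
    exact_mod_cast this
  obtain ⟨l0⟩ : Nonempty {l : IrrCharacter K // l ≠ H5.irrOne K} :=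
    Fintype.card_pos_iff.1 (by have := (one_lt_card_iff_ne_bot K).2 h1; omega)
  have hq := count_nonconst (fun χ l => (c χ (H5.irrOne K) - c χ l.1 : ℤ)) ac hin (fun χ e l => by
    have := hc χ (ac e l).1
    rw [show (fun k : K => (χ : G → ℂ) k) = fun k : K => (χ : G → ℂ) (φ e k) from funext fun k => by
      by_cases k1 : k = 1
      · simp [k1]
      · exact H5.Cfsg.IsClassFunction.eq_of_isConj (H5.Cfsg.IsIrrCharacter.isClassFunction χ.2)
          ((hcl k k1 _).2 ⟨e, rfl⟩)] at this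
    rw [Nat.cast_injective (R := ℂ) (this.symm.trans ((H5.classInner_comp_equiv (fun k : K => (χ : G → ℂ) k)
      l.1 (φ e)).trans (hc χ l.1)))]) gram one
  rw [← cΛ]
  refine ⟨fun χ => c χ (H5.irrOne K) - c χ l0, _, hq.imp_right fun h => ⟨Nat.lt_succ_of_le h.1,
    Nat.lt_succ_of_le h.2⟩, fun χ hχ => ?_, ?_⟩
  · have h2 : ∀ l ∈ univ.erase (H5.irrOne K), (c χ l : ℂ) = c χ l0 := fun l hl => by
      simp only [mem_filter, mem_univ, true_and, not_exists, not_not] at hχ
      have := hχ ⟨l, ne_of_mem_erase hl⟩ l0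
      exact_mod_cast sub_right_injective this
    have := congrFun (hs χ) 1
    simp only [OneMemClass.coe_one, Finset.sum_apply, Pi.smul_apply, d1, smul_eq_mul, mul_one] at this
    rw [← add_sum_erase _ _ (mem_univ (H5.irrOne K)), sum_congr rfl h2, sum_const, card_erase_of_mem (mem_univ _),
      card_univ, cK, nsmul_eq_mul, Nat.cast_sub Nat.card_pos] at this
    exact ⟨c χ l0, by rw [this, cΛ]; push_cast; ring⟩
  · have h2 := gram l0 l0
    have h3 := ca (H5.irrOne G) l0
    rw [show (fun k : K => (H5.irrOne G : G → ℂ) k) = (H5.irrOne K : K → ℂ) from rfl, H5.classInner_sub_right,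
      H5.classInner_irr, H5.classInner_irr, if_pos rfl, if_neg l0.2.symm, sub_zero, eq_comm, Int.cast_eq_one] at h3
    rw [one, ← add_sum_erase _ _ (mem_univ (H5.irrOne G)), h3] at h2
    simp only [sq]; omega

omit [Fintype G] in
theorem card_fixedBy {X : Type*} [MulAction G X] [Fintype X] [DecidableEq X] (g : G) :
    Nat.card (fixedBy X g) = #{x : X | g • x = x} := by
  rw [Nat.card_eq_fintype_card, Fintype.card_subtype]; congr

theorem mult_free (X : Type*) [MulAction G X] [Fintype X] [DecidableEq X] [Nonempty X]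
    (h : ∀ x y : X, ∃ g : G, g • x = y ∧ g • y = x) : ∃ T : Finset (IrrCharacter G),
      (∀ g : G, (#{x : X | g • x = x} : ℂ) = ∑ χ ∈ T, (χ : G → ℂ) g) ∧ H5.irrOne G ∈ T ∧
      #T = Nat.card (orbitRel.Quotient G (X × X)) := by
  have g0 : (Nat.card G : ℂ) ≠ 0 := H5.card_ne_zero_complex
  obtain ⟨m, hm, hs, hq⟩ := H5.Cfsg.IsCharacter.classInner_self_eq_sum_sq (H5.isCharacter_fixedBy (G := G) X)
  simp only [card_fixedBy] at hm hs hq
  have sq : ∀ g : G, #{x : X | g • x = x} ^ 2 = #{p : X × X | g • p = p} := fun g => by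
    rw [sq, ← card_product, ← filter_product, univ_product_univ]; simp [Prod.ext_iff]
  have A : ∑ g : G, #{x : X | (g * g) • x = x} = ∑ g : G, #{x : X | g • x = x} ^ 2 := by
    have : ∀ g : G, #{x : X | (g * g) • x = x} = #{p : X × X | g • p = p.swap} := fun g =>
      card_bij (fun x _ => (x, g • x)) (fun x hx => by simpa [mul_smul] using hx) (fun _ _ _ _ e => congrArg Prod.fst e)
        fun p hp => by
          simp only [mem_filter, mem_univ, true_and, Prod.ext_iff, Prod.smul_fst, Prod.smul_snd, Prod.fst_swap,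
            Prod.snd_swap] at hp ⊢
          exact ⟨p.1, by rw [mul_smul, hp.1, hp.2], rfl, hp.1⟩
    simp only [this, sq]
    simp only [card_filter]
    rw [sum_comm, sum_comm (s := (univ : Finset G))]
    refine sum_congr rfl fun p _ => ?_
    obtain ⟨g, h1, h2⟩ := h p.1 p.2
    rw [← Equiv.sum_comp (Equiv.mulLeft g)]
    have : p.swap = g • p := Prod.ext h1.symm h2.symm
    simp [mul_smul, this]
  have B : ((∑ χ, m χ ^ 2 : ℕ) : ℂ) = ∑ χ, m χ * H5.fsInd (χ : G → ℂ) := by
    rw [← hq, classInner]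
    simp only [map_natCast, ← pow_two, ← Nat.cast_pow, ← Nat.cast_sum, ← A]
    simp only [H5.fsInd, pow_two]
    rw [Nat.cast_sum, sum_congr rfl fun g _ => congrFun hs (g * g)]
    simp only [Finset.sum_apply, Pi.smul_apply, smul_eq_mul, mul_sum]
    rw [sum_comm]
    exact sum_congr rfl fun _ _ => sum_congr rfl fun _ _ => by ring
  have C : ∑ χ, m χ ^ 2 ≤ ∑ χ, m χ := by
    have := congrArg Complex.re B
    rw [Complex.natCast_re, Complex.re_sum] at this
    exact_mod_cast (this.trans_le (sum_le_sum (g := fun χ => (m χ : ℝ)) fun χ _ => by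
      rcases H5.Cfsg.IsIrrCharacter.fsInd_cases χ.2 with e | e | e <;> simp [e]))
  have D : ∀ χ, m χ = 0 ∨ m χ = 1 := fun χ => by
    have := (sum_eq_sum_iff_of_le fun χ _ => Nat.le_self_pow two_ne_zero (m χ)).1
      (le_antisymm (sum_le_sum fun χ _ => Nat.le_self_pow two_ne_zero (m χ)) C) χ (mem_univ _)
    exact or_iff_not_imp_left.2 fun e => by nlinarith [Nat.pos_of_ne_zero e]
  refine ⟨univ.filter (m · = 1), fun g => ?_, mem_filter.2 ⟨mem_univ _, by_contra fun e => ?_⟩, ?_⟩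
  · rw [congrFun hs g, Finset.sum_apply, sum_filter]
    exact sum_congr rfl fun χ _ => by rcases D χ with e | e <;> simp [e]
  · have := hm (H5.irrOne G)
    rw [(D _).resolve_right e, H5.coe_irrOne, H5.classInner_one_right, ← Nat.cast_sum, Nat.cast_zero,
      mul_eq_zero_iff_left (inv_ne_zero g0), Nat.cast_eq_zero, sum_eq_zero_iff] at this
    simpa using this 1 (mem_univ _)
  · have := sum_card_fixedBy_eq_card_orbits_mul_card_group G (X × X)
    simp only [← Nat.card_eq_fintype_card, card_fixedBy, ← sq] at this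
    rw [classInner, inv_mul_eq_iff_eq_mul₀ g0] at hq
    simp only [map_natCast, ← pow_two, ← Nat.cast_pow, ← Nat.cast_sum, this] at hq
    rw [card_filter, sum_congr rfl (g := fun χ => m χ ^ 2) fun χ _ => by rcases D χ with e | e <;> simp [e]]
    exact (Nat.eq_of_mul_eq_mul_left Nat.card_pos (by rw [mul_comm _ (Nat.card _)]; exact_mod_cast hq)).symm

theorem arith_D {ι : Type*} [DecidableEq ι] (S Q : Finset ι) (α d : ι → ℤ) {ν m : ℕ} (ho : Odd ν) (h3 : 1 < ν)
    (hm : m + 1 = 2 ^ ν) (hS : m ≤ ν * #S) (hQ : #Q = 0 ∨ (2 * (2 * ν) < m ∧ 2 * ν * #Q < m))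
    (hd : ∀ i ∈ S, 0 < d i) (hs : ∑ i ∈ S, d i < m) (hα : ∀ i ∈ S \ Q, ∃ n : ℤ, 2 * d i = α i + m * n)
    (ha : ∑ i ∈ S \ Q, α i ^ 2 ≤ 2 * ν) : False := by
  have h5 : ν = 3 ∧ m = 7 ∨ 5 ≤ ν ∧ ν * (ν + 1) < m := by
    obtain ⟨n, rfl⟩ := ho
    rcases n with _ | _ | n
    · omega
    · omega
    · refine .inr ⟨by omega, ?_⟩
      have : ∀ k : ℕ, (k + 5) * (k + 5 + 1) + 1 < 2 ^ (k + 5) := fun k => by
        induction k with
        | zero => norm_num
        | succ k ih => rw [show k + 1 + 5 = k + 5 + 1 from rfl, pow_succ]; nlinarith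
      have := this (2 * n)
      rw [show 2 * (n + 1 + 1) + 1 = 2 * n + 5 by ring] at hm ⊢
      omega
  have mo : (m : ℤ) % 2 = 1 := by have := Nat.even_pow.2 ⟨even_two, h3.ne_bot⟩; have := Nat.even_iff.1 this; omega
  have hS' : ν < (#S - 1) ^ 2 ∧ 3 ≤ #S := by
    rcases h5 with ⟨rfl, rfl⟩ | ⟨h, h'⟩
    · have : 2 ≤ #S - 1 := by omega
      exact ⟨by nlinarith, by omega⟩
    · have : ν + 1 < #S := lt_of_mul_lt_mul_left (h'.trans_le hS) ν.zero_le
      have : ν ≤ #S - 1 := by omega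
      exact ⟨by nlinarith, by omega⟩
  have sub : ∀ T ⊆ S, ∑ i ∈ T, d i + (#S - #T : ℤ) < m := fun T hT => by
    have := card_nsmul_le_sum (S \ T) d 1 fun i hi => hd i (mem_sdiff.1 hi).1
    rw [← sum_sdiff hT] at hs
    rw [card_sdiff_of_subset hT, nsmul_one, Nat.cast_sub (card_le_card hT)] at this
    linarith
  have bd : ∀ T ⊆ S \ Q, ∑ i ∈ T, α i ^ 2 ≤ 2 * ν := fun T hT =>
    (sum_le_sum_of_subset_of_nonneg hT fun _ _ _ => sq_nonneg _).trans ha
  have key : ∀ i ∈ S \ Q, α i ≠ 0 ∧ (α i % 2 = 1 → 2 * d i = α i + m) := fun i hi => by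
    obtain ⟨n, e⟩ := hα i hi
    have h1 := hd i (mem_sdiff.1 hi).1
    have h2 := sub {i} (by simpa using (mem_sdiff.1 hi).1)
    have h4 := bd {i} (by simpa using hi)
    simp only [sum_singleton, card_singleton] at h2 h4
    have h6 : -(m : ℤ) < α i ∧ α i < m := by
      have : (2 * ν : ℤ) < m ^ 2 := by
        rcases h5 with ⟨rfl, rfl⟩ | ⟨h, h'⟩ <;>
          [norm_num; exact_mod_cast (by nlinarith : 2 * ν < m).trans_le (Nat.le_self_pow two_ne_zero m)]
      exact abs_lt_of_sq_lt_sq' (h4.trans_lt this) m.cast_nonneg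
    have h7 : -1 < n := by nlinarith
    have h8 : n < 3 := by have : d i < m := by omega
                          nlinarith
    interval_cases n <;> omega
  have two : ∀ i ∈ S \ Q, ∀ j ∈ S \ Q, α i % 2 = 1 → α j % 2 = 1 → i = j := fun i hi j hj oi oj =>
    by_contra fun ne => by
      have h2 := sub {i, j} (by simp [insert_subset_iff, (mem_sdiff.1 hi).1, (mem_sdiff.1 hj).1])
      have h4 := bd {i, j} (by simp only [insert_subset_iff, singleton_subset_iff]; exact ⟨hi, hj⟩)
      rw [sum_pair ne] at h2 h4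
      rw [card_pair ne] at h2
      have := (key i hi).2 oi
      have := (key j hj).2 oj
      have h6 : (ν : ℤ) < (#S - 1) ^ 2 := by have := hS'.1; zify [show 1 ≤ #S by omega] at this; exact this
      have h7 : (3 : ℤ) ≤ #S := by exact_mod_cast hS'.2
      have h8 : 2 * (#S - 1 : ℤ) ≤ -(α i + α j) := by omega
      nlinarith [sq_nonneg (α i - α j)]
  have h1 : #{i ∈ S \ Q | α i % 2 = 1} ≤ 1 := card_le_one.2 fun i hi j hj =>
    two i (mem_filter.1 hi).1 j (mem_filter.1 hj).1 (mem_filter.1 hi).2 (mem_filter.1 hj).2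
  have h2 : ∑ i ∈ S \ Q, (4 - 3 * if α i % 2 = 1 then 1 else 0 : ℤ) ≤ ∑ i ∈ S \ Q, α i ^ 2 :=
    sum_le_sum fun i hi => by
      have := (key i hi).1
      split_ifs with e
      · have := sq_pos_of_ne_zero this; omega
      · have : 2 ≤ α i ∨ α i ≤ -2 := by omega
        rcases this with e | e <;> nlinarith
  rw [sum_sub_distrib, ← mul_sum, sum_boole, sum_const, nsmul_eq_mul] at h2
  have h4 := le_card_sdiff Q S
  have h6 : 2 * #(S \ Q) ≤ ν + 1 := by obtain ⟨n, rfl⟩ := ho; omega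
  have h7 : #S ≤ #(S \ Q) + #Q := by omega
  rcases h5 with ⟨rfl, rfl⟩ | ⟨h, h'⟩
  · omega
  · rcases hQ with e | e <;> nlinarith [Nat.mul_le_mul_left ν h6, Nat.mul_le_mul_left ν h7]

end H9
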