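import Cfsg.Agent.H9.SE6

/-! Bender's step D, second half: when `D = K ⋊ V` is a Frobenius group (structure `S4`), the point stabilizer is not
doubly transitive on its involutions (`not_two_trans`). -/

set_option autoImplicit false
set_option linter.unusedSectionVars false
open Cfsg H18 Subgroup MulAction Finset
open H5 (exists_cent_mul_inv piNat_two_compl odd_card_of_le odd_order_of_mem eq_one_of_odd)
open scoped Classical

namespace H9

variable {G Ω : Type*} [Group G] [MulAction G Ω] {a b c : Ω} {t s u v w g k : G} {K : Subgroup G}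

/-- the involutions of `G`, permuted by conjugation -/
abbrev InvT (G : Type*) [Group G] := {u : G // u * u = 1 ∧ u ≠ 1}
instance : MulAction G (InvT G) where
  smul g u := ⟨g * u.1 * g⁻¹, conj_sq u.2.1 g, conj_ne u.2.2 g⟩
  one_smul u := Subtype.ext (show 1 * u.1 * 1⁻¹ = u.1 by group)
  mul_smul g h u := Subtype.ext (show g * h * u.1 * (g * h)⁻¹ = g * (h * u.1 * h⁻¹) * g⁻¹ by group)
theorem conj_mem (hk : k ∈ K) (hg : g ∈ K) : g * k * g⁻¹ ∈ K := mul_mem (mul_mem hg hk) (inv_mem hg)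
theorem InvT.smul_eq {x y : InvT G} : g • x = y ↔ g * x.1 * g⁻¹ = y.1 := Subtype.ext_iff

structure S4 (G : Type*) {Ω : Type*} [Group G] [MulAction G Ω] (a b : Ω) (t s : G) (K : Subgroup G) : Prop
    extends SA G Ω where
  rk : 1 < prank 2 (⊤ : Subgroup G)
  hab : a ≠ b
  t2 : t * t = 1
  ht : t • a = b
  hs : s ∈ Inv G a
  hK : ∀ k, k ∈ K ↔ k • a = a ∧ t * k * t = k⁻¹
  hV : St(a) ⊓ St(b) ⊓ C1(t) = St(a) ⊓ St(b) ⊓ C1(s)
  hV1 : St(a) ⊓ St(b) ⊓ C1(t) ≠ ⊥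
  hfix : ∀ k ∈ K, k ≠ 1 → ∀ c, k • c = c → c = a ∨ c = b
  hsr : Semireg K (St(a) ⊓ St(b) ⊓ C1(t))

namespace S4
variable [Finite G] (h : S4 G a b t s K)
include h
local notation "D" => (MulAction.stabilizer G a ⊓ MulAction.stabilizer G b)
local notation "V" => (MulAction.stabilizer G a ⊓ MulAction.stabilizer G b ⊓ C1(t))

theorem abel : Abel K := H5.abel_of_inverted h.t2 fun x hx => ((h.hK x).1 hx).2
theorem KD : K ≤ D := fun k hk => ⟨((h.hK k).1 hk).1, fix_of_inverts h.ht ((h.hK k).1 hk).1 ((h.hK k).1 hk).2 h.t2⟩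
theorem VN : V ≤ N(K) := fun _ hv => mem_N_of_finite fun k hk => (h.hK _).2
  ⟨(mem_D.1 (conj_mem (h.KD hk) hv.1)).1, conj_inverted h.t2 ((mem_C1_inv h.t2).1 hv.2) ((h.hK k).1 hk).2⟩
theorem tN : t ∈ N(K) := mem_N_of_finite fun k hk => by
  rw [inv_eq_of_mul_self h.t2, ((h.hK k).1 hk).2]; exact inv_mem hk
theorem V1 (hv : v ∈ V) (hk : k ∈ K) (k1 : k ≠ 1) (e : k ∈ C1(v)) : v = 1 :=
  by_contra fun v1 => k1 (eq_one_of_eq_bot (h.hsr v hv v1) ⟨hk, e⟩)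
theorem card_Inv (c : Ω) : (Inv G c).ncard = Nat.card K := by
  rw [h.ncard_Inv c a, ← h.ncard_K h.t2 h.ht h.hab, ← SetLike.coe_sort_coe, Nat.card_coe_set_eq]
  exact congrArg _ (Set.ext fun k => ⟨fun e => (h.hK k).2 ⟨e.1.1, e.2⟩, fun e => ⟨h.KD e, ((h.hK k).1 e).2⟩⟩)
theorem card_D : Nat.card ↥D = Nat.card ↥V * Nat.card K := by
  rw [card_cent_mul_inv h.t2 (h.odd_D h.hab) fun _ => swap_D h.t2 h.ht, h.ncard_K h.t2 h.ht h.hab, h.card_Inv]
theorem K_ne : K ≠ ⊥ := fun e => by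
  obtain ⟨v, -, v2, v1, vs, -, va⟩ := h.exists_pair h.rk h.hs.1 h.hs.2.1 (mem_top _) h.hs.2.2
  obtain ⟨k, -, hk, ik, e'⟩ := h.exists_K h.t2 h.ht h.hab h.hs.1 h.hs.2.1 h.hs.2.2 v2 v1 va (mem_top _) (mem_top _)
    (mem_top _)
  exact vs (by rw [← e', eq_one_of_eq_bot e ((h.hK k).2 ⟨hk.1, ik⟩)]; group)

theorem dec (hk : k ∈ K) (k1 : k ≠ 1) (e : g * k * g⁻¹ ∈ K) : ∃ v ∈ V, v⁻¹ * g ∈ K ∨ (v * t)⁻¹ * g ∈ K := by
  have dd : ∀ d ∈ D, ∃ v ∈ V, v⁻¹ * d ∈ K := fun d hd => by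
    obtain ⟨v, hv, j, hj, iv, ij, rfl⟩ := exists_cent_mul_inv h.t2 (h.odd_D h.hab) (fun _ => swap_D h.t2 h.ht) hd
    exact ⟨v, ⟨hv, (mem_C1_inv h.t2).2 iv⟩, by simpa using (h.hK j).2 ⟨hj.1, ij⟩⟩
  have ha := h.hfix _ e (conj_ne k1 g) _ (conj_smul_fix (h.KD hk).1 g)
  have hb := h.hfix _ e (conj_ne k1 g) _ (conj_smul_fix (h.KD hk).2 g)
  have ne : g • a ≠ g • b := fun e => h.hab (smul_left_cancel g e)
  rcases ha with ha | ha
  · exact (dd g ⟨ha, hb.resolve_left (ha ▸ ne.symm)⟩).imp fun v hv => ⟨hv.1, .inl hv.2⟩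
  · refine (dd (g * t) (mem_D.2 ⟨by rw [mul_smul, h.ht, hb.resolve_right (ha ▸ ne.symm)],
      by rw [mul_smul, swap_back h.t2 h.ht, ha]⟩)).imp fun v hv => ⟨hv.1, .inr ?_⟩
    have := conj_mem_N h.tN hv.2
    rwa [show t * (v⁻¹ * (g * t)) * t⁻¹ = (v * t⁻¹)⁻¹ * g by group, inv_eq_of_mul_self h.t2] at this

theorem C1_eq (k : G) (hk : k ∈ K) (k1 : k ≠ 1) : C1(k) = K := by
  have hc : K ≤ C1(k) := fun j hj => mem_C1.2 (cent_iff.1 h.abel _ hj _ hk)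
  refine le_antisymm (fun g hg => ?_) hc
  obtain ⟨v, hv, e | e⟩ := h.dec (g := g) hk k1 (by rwa [mem_C1.1 hg, mul_inv_cancel_right])
  · simpa [h.V1 hv hk k1 (mem_C1_comm.1 (by simpa using mul_mem hg (inv_mem (hc e))))] using e
  · have h1 : v * t ∈ C1(k) := by simpa using mul_mem hg (inv_mem (hc e))
    have h2 := mul_mem h1 h1
    rw [mul_assoc, ← mul_assoc t, (mem_C1_inv h.t2).1 hv.2] at h2
    rw [eq_one_of_odd (odd_order_of_mem (h.odd_D h.hab) hv.1) (h.V1 (mul_mem hv hv) hk k1 (mem_C1_comm.1 h2)),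
      one_mul, mem_C1_comm, mem_C1_inv h.t2, ((h.hK k).1 hk).2] at h1
    exact absurd (eq_one_of_odd (odd_order_of_mem (h.odd_D h.hab) (h.KD hk)) (inv_eq_iff_mul_eq_one.1 h1)) k1

theorem exc [Fintype G] : ∃ (α : IrrCharacter G → ℤ) (Q : Finset (IrrCharacter G)), (#Q = 0 ∨
      (2 * (2 * Nat.card ↥V) < Nat.card K ∧ 2 * Nat.card ↥V * #Q < Nat.card K)) ∧
      (∀ χ ∉ Q, ∃ n : ℤ, (χ : G → ℂ) 1 = α χ + Nat.card K * n) ∧
      ∑ χ ∈ univ.erase (H5.irrOne G), α χ ^ 2 = 2 * Nat.card ↥V := by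
  let ι : ↥V ⊕ ↥V → N(K) := Sum.elim (fun v => ⟨v, h.VN v.2⟩) fun v => ⟨v * t, mul_mem (h.VN v.2) h.tN⟩
  have := exc_count h.abel h.K_ne h.C1_eq (fun e => K.normalizerMonoidHom (ι e)) (.inl 1)
    (fun k => Subtype.ext (by simp [ι])) (fun k k1 e e' he => ?_) fun k k1 j => ⟨fun e => ?_, ?_⟩
  · rw [Fintype.card_sum, ← two_mul, ← Nat.card_eq_fintype_card] at this
    exact_mod_cast this
  · have : (ι e : G)⁻¹ * ι e' ∈ K := (h.C1_eq k k.2 fun e => k1 (Subtype.ext e)).le (mem_C1.2 (by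
      have : (ι e : G) * k * (ι e : G)⁻¹ = ι e' * k * (ι e' : G)⁻¹ := congrArg Subtype.val he
      rw [show (ι e : G)⁻¹ * ι e' * k = (ι e : G)⁻¹ * (ι e' * k * (ι e' : G)⁻¹) * ι e' by group, ← this]; group))
    have key : ∀ v v' : ↥V, (v : G)⁻¹ * v' ∈ K → v = v' := fun v v' e => Subtype.ext (inv_mul_eq_one.1
      (by_contra fun ne => ne (h.V1 (mul_mem (inv_mem v.2) v'.2) e ne (mem_C1.2 rfl))))
    have key' : ∀ v v' : ↥V, (v : G)⁻¹ * (v' * t) ∉ K := fun v v' e => h.hab (by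
      have := mem_D.1 (mul_mem (inv_mem (mul_mem (inv_mem (mem_inf.1 v.2).1) (mem_inf.1 v'.2).1)) (h.KD e))
      rw [← h.ht]; simpa [mul_assoc] using this.1.symm)
    rcases e with v | v <;> rcases e' with v' | v'
    · rw [key v v' this]
    · exact absurd this (key' v v')
    · exact absurd (by simpa [ι] using inv_mem this) (key' v' v)
    · rw [key v v' (by simpa [ι, mul_assoc] using conj_mem_N h.tN this)]
  · obtain ⟨g, hg⟩ := isConj_iff.1 e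
    have k1' : (k : G) ≠ 1 := fun e => k1 (Subtype.ext e)
    have key : ∀ e, (ι e : G)⁻¹ * g ∈ K → K.normalizerMonoidHom (ι e) k = j := fun e he => Subtype.ext (by
      have := mem_C1.1 ((h.C1_eq k k.2 k1').ge he)
      rw [← hg, show g * k * g⁻¹ = ι e * ((ι e : G)⁻¹ * g * k) * g⁻¹ by group, this]
      simp [mul_assoc])
    obtain ⟨v, hv, e | e⟩ := h.dec k.2 k1' (hg ▸ j.2)
    · exact ⟨.inl ⟨v, hv⟩, key _ e⟩
    · exact ⟨.inr ⟨v, hv⟩, key _ e⟩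
  · rintro ⟨e, rfl⟩
    exact isConj_iff.2 ⟨ι e, rfl⟩

theorem card_Ω [Fintype Ω] : ∃ n : ℤ, (Fintype.card Ω : ℤ) = 2 + Nat.card K * n := by
  have := Fintype.ofFinite G
  have := sum_card_fixedBy_eq_card_orbits_mul_card_group K Ω
  simp only [← Nat.card_eq_fintype_card, card_fixedBy] at this
  rw [← add_sum_erase _ _ (mem_univ 1), sum_congr rfl (g := fun _ => 2) fun k hk => by
    rw [← card_pair h.hab]; congr 1; ext c
    simpa using ⟨h.hfix k k.2 (fun e => ne_of_mem_erase hk (Subtype.ext e)) c, by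
      rintro (rfl | rfl); exacts [(h.KD k.2).1, (h.KD k.2).2]⟩, sum_const, card_erase_of_mem (mem_univ _), card_univ,
    ← Nat.card_eq_fintype_card, smul_eq_mul] at this
  simp only [one_smul, filter_true, card_univ] at this
  zify [show 1 ≤ Nat.card K from Nat.card_pos] at this
  exact ⟨Nat.card (orbitRel.Quotient K Ω) - 2, by linear_combination this⟩

theorem card_K_succ (hc : ∀ u ∈ Inv G a, ∀ w ∈ Inv G a, u * w = w * u) : Nat.card K + 1 = 2 ^ Nat.card ↥V := by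
  have mU := fun u : G => mem_omega_two (u := u) (M := St(a)) fun u hu v hv u2 v2 => by
    by_cases u1 : u = 1; · simp [u1]
    by_cases v1 : v = 1; · simp [v1]
    exact hc u ⟨u2, u1, hu⟩ v ⟨v2, v1, hv⟩
  obtain ⟨U, hU⟩ : ∃ U, U = Ω[2]((St(a) : Subgroup G)) := ⟨_, rfl⟩
  rw [← hU] at mU
  have h2 : PiGrp {2} U := piGrp_of_elt fun u hu => piElt_of_pow_eq_one Nat.prime_two (by rw [sq, ((mU u).1 hu).2])
  have LD : K ⊔ V ≤ D := sup_le h.KD inf_le_left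
  obtain ⟨k, hk, k1⟩ := K.bot_or_exists_ne_one.resolve_left h.K_ne
  obtain ⟨v, hv, v1⟩ := (bot_or_exists_ne_one _).resolve_left h.hV1
  have h3 := H1.Frobenius_card_eq_pow (sd_sup h.VN (inf_eq_bot_of_coprime' (h.hsr.coprime h.VN))) h.hsr
    (hU ▸ norm_omega (le_norm (LD.trans inf_le_left))) (h2.coprime (piNat_two_compl.2
      (odd_card_of_le (h.odd_D h.hab) LD))) h2.solv
    (eq_bot_iff.2 fun u hu => mem_bot.2 (by_contra fun u1 => k1 (h.K_eq_one h.t2 h.ht h.hab ((mU u).1 hu.1).2 u1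
      ((mU u).1 hu.1).1 (h.KD hk).1 ((h.hK k).1 hk).2 (mem_C.1 hu.2 k hk))))
  rw [show U ⊓ C(V) = zpowers s from le_antisymm (fun u hu => by
      by_cases u1 : u = 1
      · exact u1 ▸ one_mem _
      obtain ⟨j, -, hj, ij, e⟩ := h.exists_K h.t2 h.ht h.hab h.hs.1 h.hs.2.1 h.hs.2.2 ((mU u).1 hu.1).2 u1
        ((mU u).1 hu.1).1 (mem_top _) (mem_top _) (mem_top _)
      have := h.K_inj h.t2 h.ht h.hab h.hs.1 h.hs.2.1 h.hs.2.2 hj.1 ij (mem_D.1 (conj_mem hj hv.1)).1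
        (conj_inverted h.t2 ((mem_C1_inv h.t2).1 hv.2) ij) (by
          rw [show (v * j * v⁻¹)⁻¹ * s * (v * j * v⁻¹) = v * (j⁻¹ * (v⁻¹ * (s * v)) * j) * v⁻¹ by group,
            ← mem_C1.1 (h.hV.le hv).2, inv_mul_cancel_left, e, mem_C.1 hu.2 v hv, mul_inv_cancel_right])
      rw [← e, eq_one_of_eq_bot (h.hsr v hv v1) ⟨(h.hK j).2 ⟨hj.1, ij⟩, mem_C1.2 (eq_mul_inv_iff_mul_eq.1 this)⟩]
      simp)
    (zpowers_le.2 ⟨(mU s).2 ⟨h.hs.2.2, h.hs.1⟩, mem_C.2 fun v hv => mem_C1.1 (h.hV.le hv).2⟩),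
    card_zpowers', orderOf_eq_two.2 ⟨h.hs.1, h.hs.2.1⟩] at h3
  rw [← h3, ← h.card_Inv a, ← Set.ncard_insert_of_notMem (a := 1) fun e => e.2.1 rfl, ← SetLike.coe_sort_coe,
    Nat.card_coe_set_eq]
  refine congrArg _ (Set.ext fun u => ⟨?_, fun e => or_iff_not_imp_left.2 fun u1 =>
    ⟨((mU u).1 e).2, u1, ((mU u).1 e).1⟩⟩)
  rintro (rfl | e); exacts [one_mem _, (mU u).2 ⟨e.2.2, e.1⟩]

theorem card_le [Fintype Ω] :
    Nat.card G ≤ Nat.card ↥V * Nat.card K * (Fintype.card Ω * (Fintype.card Ω - 1)) := by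
  rw [← h.card_D, ← card_mul_index D, show D = stabilizer G (a, b) from Subgroup.ext fun _ => by simp,
    index_stabilizer, Nat.mul_sub_one, ← card_univ, ← offDiag_card, ← Set.ncard_coe_finset]
  refine Nat.mul_le_mul_left _ (Set.ncard_le_ncard ?_)
  rintro _ ⟨g, rfl⟩
  simpa using h.hab

theorem card_pt [Fintype (InvT G)] {pt : InvT G → Ω} (hpt : ∀ u c, pt u = c ↔ u.1 • c = c) (c : Ω) :
    #{u | pt u = c} = Nat.card K := by
  rw [← h.card_Inv c, ← Set.ncard_coe_finset, ← Set.ncard_image_of_injective _ Subtype.val_injective]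
  exact congrArg _ (Set.ext fun u => ⟨by rintro ⟨u, hu, rfl⟩; exact ⟨u.2.1, u.2.2, (hpt _ _).1 (mem_filter.1 hu).2⟩,
    fun hu => ⟨⟨u, hu.1, hu.2.1⟩, mem_filter.2 ⟨mem_univ _, (hpt _ _).2 hu.2.2⟩, rfl⟩⟩)

variable (h2I : ∀ u ∈ Inv G a, ∀ v ∈ Inv G a, ∀ w ∈ Inv G a, v ≠ u → w ≠ u →
  ∃ g : G, g • a = a ∧ g * u * g⁻¹ = u ∧ g * v * g⁻¹ = w)
include h2I

theorem two_at (hu : u ∈ Inv G c) (hv : v ∈ Inv G c) (hw : w ∈ Inv G c) (vu : v ≠ u) (wu : w ≠ u) :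
    ∃ g : G, g * u * g⁻¹ = u ∧ g * v * g⁻¹ = w := by
  obtain ⟨x, rfl⟩ := h.trans a c
  have k1 : ∀ y ∈ Inv G (x • a), x⁻¹ * y * x ∈ Inv G a := fun y hy =>
    ⟨conj_sq' hy.1 x, conj_ne' hy.2.1 x, by simpa using conj_smul_fix' hy.2.2 x⟩
  obtain ⟨g, -, e1, e2⟩ := h2I _ (k1 u hu) _ (k1 v hv) _ (k1 w hw) (by simpa) (by simpa)
  have k2 : ∀ y, x * g * x⁻¹ * y * (x * g * x⁻¹)⁻¹ = x * (g * (x⁻¹ * y * x) * g⁻¹) * x⁻¹ := fun y => by group
  exact ⟨x * g * x⁻¹, by rw [k2, e1]; group, by rw [k2, e2]; group⟩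

theorem comm (hu : u ∈ Inv G c) (hw : w ∈ Inv G c) : u * w = w * u := by
  by_cases e : w = u
  · rw [e]
  obtain ⟨v, -, v2, v1, vu, c, hv⟩ := h.exists_pair h.rk hu.1 hu.2.1 (mem_top _) hu.2.2
  obtain ⟨g, e1, rfl⟩ := h.two_at h2I hu ⟨v2, v1, hv⟩ hw vu e
  rw [← e1, conj_mul, conj_mul, c]

theorem swapJ (x y : InvT G) : ∃ g : G, g • x = y ∧ g • y = x := by
  simp only [InvT.smul_eq]
  obtain ⟨c, hc⟩ := h.fix _ x.2.1 x.2.2
  obtain ⟨d, hd⟩ := h.fix _ y.2.1 y.2.2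
  by_cases e : c = d
  · by_cases e' : x.1 = y.1
    · exact ⟨1, by simp [e']⟩
    have hx : x.1 ∈ Inv G c := ⟨x.2.1, x.2.2, hc⟩
    have hy : y.1 ∈ Inv G c := ⟨y.2.1, y.2.2, e ▸ hd⟩
    obtain ⟨g, e1, e2⟩ := h.two_at h2I (Inv_mul hx hy (h.comm h2I hx hy) fun e => e' (by
      rw [← inv_eq_of_mul_self x.2.1, inv_eq_of_mul_eq_one_right e])) hx hy (by simpa using y.2.2)
      (by simpa using x.2.2)
    exact ⟨g, e2, by rw [← tt' x.2.1 y.1, ← conj_mul, e1, e2, h.comm h2I hx hy, tt' y.2.1]⟩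
  · obtain ⟨w, -, w2, -, e'⟩ := h.exists_swap x.2.1 x.2.2 hc y.2.1 y.2.2 hd e (mem_top _) (mem_top _)
    exact ⟨w, by rw [inv_eq_of_mul_self w2, e'], by rw [inv_eq_of_mul_self w2, ← e', ← mul_assoc, tt' w2, tt'' w2]⟩

theorem card_conj [Fintype (InvT G)] {pt : InvT G → Ω} (hpt : ∀ u c, pt u = c ↔ u.1 • c = c) (x y : InvT G) :
    #{u : InvT G | u.1 • x = y} = (if pt x = pt y then 0 else 1) + Nat.card K * if x = y then 1 else 0 := by
  have hx : x.1 ∈ Inv G (pt x) := ⟨x.2.1, x.2.2, (hpt _ _).1 rfl⟩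
  have hy : y.1 ∈ Inv G (pt y) := ⟨y.2.1, y.2.2, (hpt _ _).1 rfl⟩
  simp only [InvT.smul_eq]
  by_cases e : pt x = pt y
  · have key : ∀ u : InvT G, u.1 * x.1 * u.1⁻¹ = y.1 ↔ pt u = pt x ∧ x = y := fun u => by
      have : pt u = pt x → u.1 * x.1 * u.1⁻¹ = x.1 := fun e => by
        rw [h.comm h2I ⟨u.2.1, u.2.2, (hpt _ _).1 e⟩ hx, mul_inv_cancel_right]
      exact ⟨fun e' => (and_iff_left_of_imp fun hu => Subtype.ext ((this hu).symm.trans e')).2 ((hpt _ _).2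
        (h.conj_fix hx.1 hx.2.1 hx.2.2 (by rw [e', e]; exact hy.2.2))), fun e => e.2 ▸ this e.1⟩
    by_cases e' : x = y <;> simp only [key] <;> simp [e, e', h.card_pt hpt]
  · rw [if_neg e, if_neg fun e' => e (congrArg pt e'), mul_zero, add_zero, Finset.card_eq_one]
    obtain ⟨w, -, w2, hw, e'⟩ := h.exists_swap hx.1 hx.2.1 hx.2.2 hy.1 hy.2.1 hy.2.2 e (mem_top _) (mem_top _)
    refine ⟨⟨w, w2, ne_one_of_smul hw e⟩, eq_singleton_iff_unique_mem.2 ⟨mem_filter.2 ⟨mem_univ _, by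
      rwa [inv_eq_of_mul_self w2]⟩, fun u hu => Subtype.ext ?_⟩⟩
    have hu := (mem_filter.1 hu).2
    rw [inv_eq_of_mul_self u.2.1] at hu
    have c : w * u.1 * x.1 = x.1 * (w * u.1) := by
      rw [← tt'' u.2.1 (w * u.1 * x.1), mul_assoc w, mul_assoc w, hu, ← e', ← mul_assoc, ← mul_assoc, w2, one_mul,
        mul_assoc]
    have := h.K_eq_one w2 hw e hx.1 hx.2.1 hx.2.2 (h.comm_fix hx.1 hx.2.1 hx.2.2 c) (by
      rw [tt' w2, mul_inv_rev, inv_eq_of_mul_self w2, inv_eq_of_mul_self u.2.1]) c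
    rw [← tt' w2 u.1, this, mul_one]

theorem false_of (h2t : ∀ c d, c ≠ a → d ≠ a → ∃ g : G, g • a = a ∧ g • c = d) : False := by
  have := Fintype.ofFinite G
  have := h.finite
  have := Fintype.ofFinite Ω
  have := Fintype.ofFinite (InvT G)
  have : Nonempty Ω := ⟨a⟩
  let s' : InvT G := ⟨s, h.hs.1, h.hs.2.1⟩
  have : Nonempty (InvT G) := ⟨s'⟩
  obtain ⟨pt, hpt⟩ : ∃ pt : InvT G → Ω, ∀ u c, pt u = c ↔ u.1 • c = c := by
    choose pt hpt using fun u : InvT G => h.fix _ u.2.1 u.2.2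
    exact ⟨pt, fun u c => ⟨fun e => e ▸ hpt u, h.uniq _ u.2.1 u.2.2 _ _ (hpt u)⟩⟩
  have pts : ∀ (g : G) u, pt (g • u) = g • pt u := fun g u => (hpt _ _).2 (conj_smul_fix ((hpt u _).1 rfl) g)
  set m := Nat.card K
  set N := Fintype.card Ω
  have cnt : ∀ (P : Ω → Prop) [DecidablePred P], #{u | P (pt u)} = m * #{c | P c} := fun P _ => by
    rw [card_eq_sum_card_fiberwise (f := pt) (t := {c | P c}) fun u hu => by simpa using hu, mul_comm, ← smul_eq_mul,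
      ← sum_const]
    refine sum_congr rfl fun c hc => (congrArg _ (Finset.ext fun u => ?_)).trans (h.card_pt hpt c)
    simpa using fun e => e ▸ (mem_filter.1 hc).2
  have cJ : Fintype.card (InvT G) = m * N := by simpa using cnt fun _ => True
  obtain ⟨T, hT, T1, cT⟩ := mult_free (G := G) (InvT G) (h.swapJ h2I)
  obtain ⟨T', hT', T1', cT'⟩ := mult_free (G := G) Ω fun x y => by
    by_cases e : x = y
    · exact ⟨1, by simp [e]⟩
    · obtain ⟨w, w2, e⟩ := h.swap e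
      exact ⟨w, e, swap_back w2 e⟩
  have c2 : #T' ≤ 2 := by
    rw [cT', ← Fintype.card_bool, ← Nat.card_eq_fintype_card]
    refine Nat.card_le_card_of_surjective (fun e => Quotient.mk'' (bif e then (a, a) else (a, b))) fun q => ?_
    obtain ⟨⟨x, y⟩, rfl⟩ := Quotient.exists_rep q
    obtain ⟨g, rfl⟩ := h.trans a x
    by_cases e : g⁻¹ • y = a
    · exact ⟨true, Quotient.sound ⟨g⁻¹, by simp [e]⟩⟩
    · obtain ⟨k, e1, e2⟩ := h2t _ _ e h.hab.symm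
      exact ⟨false, Quotient.sound ⟨k * g⁻¹, by simp [mul_smul, e1, e2]⟩⟩
  have N2 : 1 < N := Fintype.one_lt_card_iff.2 ⟨a, b, h.hab⟩
  have m0 : 0 < m := Nat.card_pos
  have hS : m ≤ Nat.card ↥V * #(T \ T') := by
    obtain ⟨v, -, v2, v1, vs, -, va⟩ := h.exists_pair h.rk h.hs.1 h.hs.2.1 (mem_top _) h.hs.2.2
    let q : InvT G × InvT G → orbitRel.Quotient G (InvT G × InvT G) := Quotient.mk''
    have hq : ∀ p p', q p = q p' → ∃ g : G, g • p' = p := fun p p' e => Quotient.exact e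
    have h1 : q (s', s') ≠ q (s', ⟨v, v2, v1⟩) := fun e => by
      obtain ⟨g, e⟩ := hq _ _ e
      exact vs (congrArg Subtype.val (smul_left_cancel g ((congrArg Prod.snd e).trans (congrArg Prod.fst e).symm)))
    have h3 := card_le_mul_card_image_of_maps_to (f := q) (s := {p | pt p.1 ≠ pt p.2})
      (t := {q (s', s'), q (s', ⟨v, v2, v1⟩)}ᶜ) (fun p hp => mem_compl.2 fun e => (mem_filter.1 hp).2 (by
        simp only [mem_insert, mem_singleton] at e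
        rcases e with e | e <;> obtain ⟨g, rfl⟩ := hq _ _ e
        · rfl
        · rw [Prod.smul_fst, Prod.smul_snd, pts, pts, (hpt s' a).2 h.hs.2.2, (hpt ⟨v, v2, v1⟩ a).2 va]))
      (Nat.card G) fun o _ => by
        obtain ⟨p, rfl⟩ := Quotient.exists_rep o
        exact (card_le_card (t := univ.image fun g : G => g • p) fun p' hp => by
          simpa using hq _ _ (mem_filter.1 hp).2).trans (card_image_le.trans_eq Nat.card_eq_fintype_card.symm)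
    have h4 : #{p : InvT G × InvT G | pt p.1 ≠ pt p.2} = m * N * (m * (N - 1)) := by
      rw [card_filter, Fintype.sum_prod_type]
      simp only [← card_filter, fun u => cnt (pt u ≠ ·), filter_ne, card_erase_of_mem (mem_univ _), card_univ,
        sum_const, cJ, smul_eq_mul, N]
    rw [h4, card_compl, card_pair h1, ← Nat.card_eq_fintype_card, ← cT] at h3
    have h5 := h3.trans (Nat.mul_le_mul h.card_le (show _ ≤ #(T \ T') by have := le_card_sdiff T' T; omega))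
    exact Nat.le_of_mul_le_mul_left (c := m * N * (N - 1)) (by linarith)
      (Nat.mul_pos (Nat.mul_pos m0 (by omega)) (by omega))
  choose n n0 hn using fun χ : IrrCharacter G => H5.Cfsg.IsIrrCharacter.exists_apply_one χ.2
  have hω : ∀ (χ : IrrCharacter G) x, ∑ u : InvT G, (χ : G → ℂ) (u.1 * x) =
      m * N * (χ : G → ℂ) s / n χ * (χ : G → ℂ) x := fun χ x => by
    have cj : ∀ g, g ∈ univ.filter (IsConj s) ↔ g * g = 1 ∧ g ≠ 1 := fun g => by
      simp only [mem_filter, mem_univ, true_and, isConj_iff]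
      exact ⟨by rintro ⟨c, rfl⟩; exact ⟨conj_sq h.hs.1 c, conj_ne h.hs.2.1 c⟩, fun e => by
        simpa using h.conj_inv h.hs.1 h.hs.2.1 h.hs.2.2 (mem_top _)
          (fun e => h.hab ((e (mem_top t)).symm.trans h.ht)) e.1 e.2 (mem_top _)⟩
    have := H5.Cfsg.IsIrrCharacter.sum_mul_apply_mul χ.2 (H5.isClassFunction_indicator_isConj s) x
    simp only [ite_mul, one_mul, zero_mul, ← sum_filter] at this
    rw [sum_subtype (F := ‹_›) _ cj, sum_subtype (F := ‹_›) _ cj, sum_congr (f := fun u : InvT G => (χ : G → ℂ) u) rfl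
      (g := fun _ => (χ : G → ℂ) s) fun u _ => (H5.Cfsg.IsClassFunction.eq_of_isConj
        (H5.Cfsg.IsIrrCharacter.isClassFunction χ.2) (mem_filter.1 ((cj _).2 u.2)).2).symm, sum_const, card_univ,
      hn, cJ] at this
    simpa using this
  have hd : ∀ χ ∈ T \ T', N ∣ n χ := fun χ hχ => by
    have key : ∑ ψ ∈ T, (m * N * (ψ : G → ℂ) s / n ψ) • (ψ : G → ℂ) = (m * N : ℂ) • (H5.irrOne G : G → ℂ) -
        (m : ℂ) • ∑ ψ ∈ T', (ψ : G → ℂ) + (m : ℂ) • ∑ ψ ∈ T, (ψ : G → ℂ) := funext fun x => by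
      simp only [Finset.sum_apply, Pi.smul_apply, Pi.add_apply, Pi.sub_apply, smul_eq_mul, ← hω, ← hT, ← hT',
        H5.irrOne_apply]
      rw [sum_comm]
      simp only [← hT, card_filter, mul_smul, ← Nat.cast_sum]
      rw [sum_comm]
      simp only [← card_filter, h.card_conj h2I hpt, sum_add_distrib, ← mul_sum, pts]
      rw [sum_congr rfl fun _ _ => (ite_not ..).symm, ← card_filter, cnt fun c => ¬ x • c = c,
        show N = _ from (card_filter_add_card_filter_not (s := univ) fun c : Ω => x • c = c).symm]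
      push_cast; ring
    have := congrArg (classInner · χ) key
    simp only [H5.classInner_sum_left, H5.classInner_smul_left, H5.classInner_add_left, H5.classInner_sub_left,
      H5.classInner_irr, sum_ite_eq', mul_ite, mul_one, mul_zero, sub_zero, zero_add, (mem_sdiff.1 hχ).1,
      (mem_sdiff.1 hχ).2, if_true, if_false, if_neg (show H5.irrOne G ≠ χ from fun e => (mem_sdiff.1 hχ).2 (e ▸ T1'))] at this
    refine H5.dvd_of_isIntegral_div (by omega) ?_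
    rw [show (n χ : ℂ) / N = (χ : G → ℂ) s by
      rw [div_eq_iff (Nat.cast_ne_zero.2 (n0 χ).ne'), mul_assoc, mul_right_inj' (Nat.cast_ne_zero.2 m0.ne')] at this
      rw [← this, mul_div_cancel_left₀ _ (Nat.cast_ne_zero.2 (by omega))]]
    exact H5.Cfsg.IsCharacter.isIntegral (H5.Cfsg.IsIrrCharacter.isCharacter χ.2) s
  obtain ⟨α, Q, hQ, hα, ha⟩ := h.exc
  obtain ⟨j, hj⟩ := h.card_Ω
  refine arith_D (T \ T') Q α (fun χ => (n χ / N : ℕ)) (odd_card_of_le (h.odd_D h.hab) inf_le_left)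
    (one_lt_card h.hV1) (h.card_K_succ fun u hu w hw => h.comm h2I hu hw) hS hQ
    (fun χ hχ => by exact_mod_cast Nat.div_pos (Nat.le_of_dvd (n0 χ) (hd χ hχ)) (by omega)) ?_ (fun χ hχ => ?_)
    ((sum_le_sum_of_subset_of_nonneg (fun χ hχ => mem_erase.2 ⟨fun e => (mem_sdiff.1 (mem_sdiff.1 hχ).1).2
      (e ▸ T1'), mem_univ _⟩) fun _ _ _ => sq_nonneg _).trans ha.le)
  · have h1 := hT 1
    simp only [one_smul, filter_true, card_univ, cJ, hn, ← Nat.cast_sum, Nat.cast_inj] at h1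
    have h3 : ∑ χ ∈ T \ T', n χ < ∑ χ ∈ T, n χ := sum_lt_sum_of_subset sdiff_subset T1 (by simp [T1']) (n0 _)
      fun _ _ _ => Nat.zero_le _
    rw [← h1, sum_congr rfl fun χ hχ => (Nat.div_mul_cancel (hd χ hχ)).symm, ← sum_mul] at h3
    exact_mod_cast lt_of_mul_lt_mul_right h3 N.zero_le
  · obtain ⟨i, hi⟩ := hα χ (mem_sdiff.1 hχ).2
    rw [hn, ← Nat.div_mul_cancel (hd χ (mem_sdiff.1 hχ).1)] at hi
    have hi : ((n χ / N : ℕ) * N : ℤ) = α χ + m * i := Int.cast_injective (α := ℂ) (by push_cast at hi ⊢; exact hi)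
    exact ⟨i - j * (n χ / N : ℕ), by rw [hj] at hi; linear_combination hi⟩

end S4

theorem not_two_trans [Finite G] (h : SA G Ω) (h2 : 1 < prank 2 (⊤ : Subgroup G))
    (h2t : ∀ c d, c ≠ a → d ≠ a → ∃ g : G, g • a = a ∧ g • c = d) (hab : a ≠ b) (t2 : t * t = 1) (ht : t • a = b)
    (s2 : s * s = 1) (s1 : s ≠ 1) (hs : s • a = a) (hK : ∀ k, k ∈ K ↔ k • a = a ∧ t * k * t = k⁻¹)
    (hV : St(a) ⊓ St(b) ⊓ C1(t) = St(a) ⊓ St(b) ⊓ C1(s)) (hV1 : St(a) ⊓ St(b) ⊓ C1(t) ≠ ⊥)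
    (hfix : ∀ k ∈ K, k ≠ 1 → ∀ c, k • c = c → c = a ∨ c = b) (hsr : Semireg K (St(a) ⊓ St(b) ⊓ C1(t)))
    (h2I : ∀ u ∈ Inv G a, ∀ v ∈ Inv G a, ∀ w ∈ Inv G a, v ≠ u → w ≠ u →
      ∃ g : G, g • a = a ∧ g * u * g⁻¹ = u ∧ g * v * g⁻¹ = w) : False :=
  S4.false_of ⟨h, h2, hab, t2, ht, ⟨s2, s1, hs⟩, hK, hV, hV1, hfix, hsr⟩ h2I h2t

end H9
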