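import Cfsg.Agent.H2.Kf2
import Cfsg.Agent.H7.Homo
import Cfsg.Agent.H17.Cores
import Cfsg.Agent.H16.OddOrder

/-! Involutions with centralizer `Z₄`, part 1: extremal conjugation (`extC`, `extN`), the generalized Thompson
transfer lemma (`gt`), Brauer's theorem (`brauer`), cyclic subgroups of index 2 (`cyc`). -/

set_option autoImplicit false
set_option linter.unusedSectionVars false
open Subgroup H2
open scoped Pointwise IsMulCommutative

namespace H9.Z4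

variable {G : Type*} [Group G] [Finite G] {A S K M R : Subgroup G} {a b c g r s v y z p q : G}

/-- no subgroup of index 2 -/
def N2 (A : Subgroup G) : Prop := ∀ M : Subgroup A, M.Normal → M.index = 2 → False

theorem ext (hS : SylIn 2 S A) (hK : S ≤ K) (hR : IsPGroup 2 R) (hRA : R ≤ A) (hg : g ∈ normalizer (A : Set G))
    (h : ∀ r ∈ R, g * r * g⁻¹ ∈ K) : ∃ m ∈ A, m ∈ K ∧ ∀ r ∈ R, m * (g * r * g⁻¹) * m⁻¹ ∈ S := by
  haveI : Fact (Nat.Prime 2) := Nat.fact_prime_two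
  obtain ⟨k, hk, hle⟩ := (hS.of_le (le_inf hS.le hK) inf_le_left).exists_le_conj (isPGroup_conj hR g) (by
    rintro _ ⟨r, hr, rfl⟩
    exact ⟨(mem_normalizer_iff.1 hg r).1 (hRA hr), h r hr⟩)
  refine ⟨k⁻¹, inv_mem hk.1, inv_mem hk.2, fun r hr => ?_⟩
  have := hle (⟨r, hr, rfl⟩ : g * r * g⁻¹ ∈ MulAut.conj g • R)
  rwa [mem_pointwise_smul_iff_inv_smul_mem, ← map_inv, MulAut.smul_def, MulAut.conj_apply] at this

theorem extC (hS : SylIn 2 S A) (hc : ∀ s ∈ S, s * c = c * s) (hg : g ∈ A) (e : g * r * g⁻¹ = c) :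
    ∃ h ∈ A, h * r * h⁻¹ = c ∧ ∀ b ∈ S, b * r = r * b → h * b * h⁻¹ ∈ S := by
  obtain ⟨m, hm, hmc, h⟩ := ext (K := centralizer {c}) (R := S ⊓ centralizer {r}) hS
    (fun s hs => mem_centralizer_singleton_iff.2 (hc s hs)) hS.isPGroup.to_inf_left (inf_le_left.trans hS.le)
    (le_normalizer hg) fun b hb => mem_centralizer_singleton_iff.2 (by
      have := mem_centralizer_singleton_iff.1 hb.2
      rw [← e]
      calc g * b * g⁻¹ * (g * r * g⁻¹) = g * (b * r) * g⁻¹ := by group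
        _ = _ := by rw [this]; group)
  refine ⟨m * g, mul_mem hm hg, ?_, fun b hb e' => ?_⟩
  · have := mem_centralizer_singleton_iff.1 hmc
    calc m * g * r * (m * g)⁻¹ = m * (g * r * g⁻¹) * m⁻¹ := by group
      _ = c := by rw [e, this]; group
  · have := h b ⟨hb, mem_centralizer_singleton_iff.2 e'⟩
    convert this using 1; group

theorem norm_zp (h : g * c * g⁻¹ = c ∨ g * c * g⁻¹ = c⁻¹) : g ∈ normalizer (zpowers c : Set G) :=
  mem_normalizer_of_conj_mem fun a ⟨i, hi⟩ => by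
    rw [← hi]; simp only; rw [← conj_zpow]
    rcases h with h | h <;> rw [h]
    exacts [zpow_mem (mem_zpowers c) i, zpow_mem (inv_mem (mem_zpowers c)) i]

/-- conjugating an element normalizing `⟨c⟩` into the Sylow subgroup -/
theorem extN (hS : SylIn 2 S A) (hc : ∀ s ∈ S, s * c * s⁻¹ = c ∨ s * c * s⁻¹ = c⁻¹) (hs : s ∈ A)
    (h2 : IsPGroup 2 (zpowers s)) (e : s * c * s⁻¹ = c ∨ s * c * s⁻¹ = c⁻¹) :
    ∃ m ∈ A, m * s * m⁻¹ ∈ S ∧ m * c * m⁻¹ ∈ zpowers c ∧ m⁻¹ * c * m ∈ zpowers c := by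
  obtain ⟨m, hm, hmc, h⟩ := ext (K := normalizer (zpowers c : Set G)) (g := 1) hS (fun s hs => norm_zp (hc s hs)) h2
    (zpowers_le.2 hs) (one_mem _) fun r hr => by
      simpa using (zpowers_le.2 (norm_zp e)) hr
  refine ⟨m, hm, by simpa using h s (mem_zpowers s), (mem_normalizer_iff.1 hmc c).1 (mem_zpowers c), ?_⟩
  simpa using (mem_normalizer_iff.1 (inv_mem hmc) c).1 (mem_zpowers c)

theorem pg_conj (h : IsPGroup 2 (zpowers s)) (g : G) : IsPGroup 2 (zpowers (g * s * g⁻¹)) := by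
  have := h.map (MulAut.conj g).toMonoidHom
  rwa [MonoidHom.map_zpowers] at this

/-- a central element is not conjugate to an inverted element of order `> 2` -/
theorem nc (hS : SylIn 2 S A) (hc : ∀ s ∈ S, s * c = c * s) (hg : g ∈ A) (e : g * b * g⁻¹ = c) (hs : s ∈ S)
    (hi : s * b * s⁻¹ = b⁻¹) : b * b = 1 := by
  have e1 : g * s * g⁻¹ * c * (g * s * g⁻¹)⁻¹ = c⁻¹ := by
    rw [← e]
    calc _ = g * (s * b * s⁻¹) * g⁻¹ := by group
      _ = _ := by rw [hi]; group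
  obtain ⟨m, -, h1, h2, -⟩ := extN hS (fun s hs => Or.inl (by rw [hc s hs]; group))
    (mul_mem (mul_mem hg (hS.le hs)) (inv_mem hg)) (pg_conj (hS.isPGroup.to_le (zpowers_le.2 hs)) g) (Or.inr e1)
  obtain ⟨i, hi⟩ := h2
  simp only at hi
  have h3 : Commute (m * (g * s * g⁻¹) * m⁻¹) (m * c * m⁻¹) := hi ▸ Commute.zpow_right (hc _ h1) i
  have h4 : c⁻¹ = c := by
    rw [← e1]
    calc _ = m⁻¹ * (m * (g * s * g⁻¹) * m⁻¹ * (m * c * m⁻¹)) * m * (g * s * g⁻¹)⁻¹ := by group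
      _ = c := by rw [h3.eq]; group
  calc b * b = g⁻¹ * (g * b * g⁻¹ * (g * b * g⁻¹)) * g := by group
    _ = 1 := by rw [e]; nth_rewrite 1 [← h4]; group

theorem gt0 {H Q : Subgroup G} (hH : ¬ 2 ∣ H.index) (hQ : Q.relIndex H = 2) {u : G} (huH : u ∈ H)
    (he : ∀ (g : G) (k : ℕ), g * u ^ (2 * k) * g⁻¹ ∈ H → g * u ^ (2 * k) * g⁻¹ ∈ Q)
    (ho : ∀ (g : G) (k : ℕ), g * u ^ (2 * k + 1) * g⁻¹ ∈ H → g * u ^ (2 * k + 1) * g⁻¹ ∉ Q) :
    ∃ M : Subgroup G, M.Normal ∧ M.index = 2 := by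
  have hn : (Q.subgroupOf H).Normal := normal_of_index_eq_two hQ
  have : Fact (Nat.Prime 2) := Nat.fact_prime_two
  have hcyc : IsCyclic (H ⧸ Q.subgroupOf H) := isCyclic_of_prime_card (p := 2) hQ
  let ϕ := QuotientGroup.mk' (Q.subgroupOf H)
  have huQ : u ∉ Q := by simpa using ho 1 0 (by simpa using huH)
  have hne : ϕ ⟨u, huH⟩ ≠ 1 := fun e => huQ ((QuotientGroup.eq_one_iff (⟨u, huH⟩ : H)).mp e)
  have hsq : ϕ ⟨u, huH⟩ ^ 2 = 1 := by
    rw [← map_pow]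
    exact (QuotientGroup.eq_one_iff _).2 (sq_mem_of_index_two hQ _)
  have hV : MonoidHom.transfer ϕ u = ϕ ⟨u, huH⟩ ^ H.index := by
    refine H3.transfer_eq_pow_of_conj ϕ u _ fun k t hk => ?_
    rcases Nat.even_or_odd' k with ⟨j, rfl | rfl⟩
    · rw [pow_mul (ϕ _), hsq, one_pow]
      have := he t⁻¹ j (by rwa [inv_inv])
      rw [inv_inv] at this
      exact (QuotientGroup.eq_one_iff _).2 this
    · rw [pow_succ (ϕ _), pow_mul (ϕ _), hsq, one_pow, one_mul]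
      apply QuotientGroup.eq.mpr
      rw [mul_mem_iff_of_index_two hQ, inv_mem_iff, mem_subgroupOf, mem_subgroupOf]
      have := ho t⁻¹ j (by rwa [inv_inv])
      rw [inv_inv] at this
      exact iff_of_false this huQ
  obtain ⟨j, hj⟩ := Nat.odd_iff.mpr (Nat.two_dvd_ne_zero.mp hH)
  rw [hj, pow_succ, pow_mul, hsq, one_pow, one_mul] at hV
  refine ⟨(MonoidHom.transfer ϕ).ker, inferInstance, ?_⟩
  rw [index_ker]
  have h1 : Nat.card (MonoidHom.transfer ϕ).range ∣ 2 := hQ ▸ card_subgroup_dvd_card _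
  refine ((Nat.dvd_prime Nat.prime_two).mp h1).resolve_left fun e => hne ?_
  rw [card_eq_one] at e
  rw [← hV, ← mem_bot, ← e]
  exact ⟨u, rfl⟩

/-- generalized Thompson transfer lemma -/
theorem gt (hA : N2 A) (hS : SylIn 2 S A) (hM : M.relIndex S = 2) (hs : s ∈ S)
    (he : ∀ g ∈ A, ∀ k : ℕ, g * s ^ (2 * k) * g⁻¹ ∈ S → g * s ^ (2 * k) * g⁻¹ ∈ M) :
    ∃ g ∈ A, ∃ k : ℕ, g * s ^ (2 * k + 1) * g⁻¹ ∈ S ∧ g * s ^ (2 * k + 1) * g⁻¹ ∈ M := by
  by_contra hn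
  push Not at hn
  obtain ⟨N, h1, h2⟩ := gt0 (G := A) (H := S.subgroupOf A) (Q := (M ⊓ S).subgroupOf A) hS.not_dvd
    (by rw [relIndex_subgroupOf hS.le, inf_relIndex_right, hM]) (u := ⟨s, hS.le hs⟩) hs
    (fun g k h => ⟨he g g.2 k h, h⟩) (fun g k h h' => hn g g.2 k h h'.1)
  exact hA N h1 h2

theorem th (hA : N2 A) (hS : SylIn 2 S A) (hM : M.relIndex S = 2) (hs : s ∈ S) (h2 : s * s = 1) :
    ∃ g ∈ A, g * s * g⁻¹ ∈ S ∧ g * s * g⁻¹ ∈ M := by
  have e : ∀ k : ℕ, s ^ (2 * k) = 1 := fun k => by rw [pow_mul, pow_two, h2, one_pow]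
  obtain ⟨g, hg, k, h⟩ := gt hA hS hM hs fun g _ k _ => by rw [e]; simpa using M.one_mem
  rw [pow_succ, e, one_mul] at h
  exact ⟨g, hg, h⟩

theorem brauer {X : Type*} [Group X] [Finite X] (P : Sylow 2 X) (h : H7.R2 P) (h4 : 4 < Nat.card P) :
    Group.IsSolvable X := by
  haveI : Fact (Nat.Prime 2) := Nat.fact_prime_two
  let N := Cfsg.pPrimeCore 2 X
  have hN : ¬ 2 ∣ Nat.card N := H7.not_dvd_card_pPrimeCore
  let f := QuotientGroup.mk' N
  let Q := P.mapSurjective (QuotientGroup.mk'_surjective N)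
  have inj : Function.Injective (f.subgroupMap P) := by
    rw [← MonoidHom.ker_eq_bot_iff, eq_bot_iff]
    intro x hx
    have h1 : (x : X) ∈ N := (QuotientGroup.eq_one_iff _).1 (congrArg Subtype.val (MonoidHom.mem_ker.1 hx))
    obtain ⟨k, hk⟩ := P.2 x
    have h2 : orderOf (x : X) ∣ Nat.card N := orderOf_dvd_natCard N h1
    have h3 : orderOf (x : X) ∣ 2 ^ k := orderOf_dvd_of_pow_eq_one (congrArg Subtype.val hk)
    have h5 := Nat.eq_one_of_dvd_coprimes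
      ((Nat.prime_two.coprime_iff_not_dvd.2 hN).pow_left k) h3 h2
    exact Subtype.ext (orderOf_eq_one_iff.1 h5)
  let e : P ≃* Q := MulEquiv.ofBijective _ ⟨inj, f.subgroupMap_surjective P⟩
  have hQ : (Q : Subgroup (X ⧸ N)).Normal := H7.normal_of_r2 (H7.sylIn_top Q) (h.of_equiv e.symm)
    (by rwa [← Nat.card_congr e.toEquiv]) (H17.pPrimeCore_quotient (G := X) 2)
  haveI : Group.IsSolvable Q := Group.isSolvable_of_comm (h.of_equiv e.symm).comm
  haveI : Group.IsSolvable ((X ⧸ N) ⧸ (Q : Subgroup (X ⧸ N))) :=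
    H16.odd_order _ (Nat.odd_iff.2 (Nat.two_dvd_ne_zero.1 Q.not_dvd_index))
  haveI : Group.IsSolvable (X ⧸ N) := Group.isSolvable_of_ker_le_range (Q : Subgroup (X ⧸ N)).subtype
    (QuotientGroup.mk' (Q : Subgroup (X ⧸ N))) (by simp)
  haveI : Group.IsSolvable N := H16.odd_order _ (Nat.odd_iff.2 (Nat.two_dvd_ne_zero.1 hN))
  exact Group.isSolvable_of_ker_le_range N.subtype f (by simp [f])

theorem mem_ext (hn : ∀ k ∈ K, r * k * r⁻¹ ∈ K) (h2 : r * r ∈ K) : g ∈ K ⊔ zpowers r ↔ g ∈ K ∨ g * r⁻¹ ∈ K := by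
  let K' : Subgroup G :=
    { carrier := {g | g ∈ K ∨ g * r⁻¹ ∈ K}
      one_mem' := Or.inl K.one_mem
      mul_mem' := by
        rintro a b (ha | ha) (hb | hb)
        · exact Or.inl (mul_mem ha hb)
        · exact Or.inr (by simpa [mul_assoc] using mul_mem ha hb)
        · exact Or.inr (by simpa [mul_assoc] using mul_mem ha (hn b hb))
        · exact Or.inl (by simpa [mul_assoc] using mul_mem (mul_mem ha (hn _ hb)) h2)
      inv_mem' := by
        rintro a (ha | ha)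
        · exact Or.inl (inv_mem ha)
        · exact Or.inr (by simpa [mul_assoc] using mul_mem (inv_mem h2) (hn _ (inv_mem ha))) }
  constructor
  · exact fun h => (sup_le (fun a ha => Or.inl ha) (zpowers_le.2 (Or.inr (by simpa using K.one_mem))) :
      K ⊔ zpowers r ≤ K') h
  · rintro (h | h)
    · exact mem_sup_left h
    · simpa using mul_mem (mem_sup_left h : _ ∈ K ⊔ zpowers r) (mem_sup_right (mem_zpowers r))

theorem uniq (hz : z ∈ zpowers y) (z1 : z ≠ 1) (z2 : z * z = 1) (ha : a ∈ zpowers y) (h2 : a * a = 1) :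
    a = 1 ∨ a = z :=
  eq_one_or_eq_of_mem_zpowers z2 (mem_zpowers_of_orderOf_dvd ha hz (by
    rw [orderOf_eq_two.2 ⟨z2, z1⟩]; exact orderOf_dvd_of_pow_eq_one (by rwa [pow_two])))

theorem cj2 (h : a * a = b) (g : G) : g * a * g⁻¹ * (g * a * g⁻¹) = g * b * g⁻¹ := by rw [← h]; group
theorem cj1 (h : a * a = 1) (g : G) : g * a * g⁻¹ * (g * a * g⁻¹) = 1 := by rw [cj2 h]; group
theorem cj_ne (h : a ≠ 1) (g : G) : g * a * g⁻¹ ≠ 1 := by simpa using h
theorem cj_inj (h : g * a * g⁻¹ = g * b * g⁻¹) : a = b := by simpa using h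

/-- an involution commuting with a square root of `z` is not conjugate to `z` -/
theorem extz (hS : SylIn 2 S A) (zc : ∀ s ∈ S, s * z = z * s) (z1 : z ≠ 1) (z2 : z * z = 1)
    (hq : ∀ g ∈ S, g * g * (g * g) = 1 → g * g = 1 ∨ g * g = z) (hb : b ∈ S) (b2 : b * b = z) (hc : b * r = r * b)
    (hg : g ∈ A) (e : g * r * g⁻¹ = z) : r = z := by
  obtain ⟨h, -, h1, h2⟩ := extC hS zc hg e
  have := hq _ (h2 b hb hc) (by rw [cj2 b2]; exact cj1 z2 h)
  rw [cj2 b2] at this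
  exact cj_inj (h1.trans (this.resolve_left (cj_ne z1 h)).symm)

/-- a cyclic subgroup of index 2 -/
theorem cyc (hA : N2 A) (hS : SylIn 2 S A) (zc : ∀ s ∈ S, s * z = z * s) (z1 : z ≠ 1) (z2 : z * z = 1)
    (hz : z ∈ zpowers y) (hv : v ∈ S) (v2 : v * v = 1) (v1 : v ≠ 1) (vz : v ≠ z)
    (cov : ∀ g ∈ S, g ∈ zpowers y ∨ g * v⁻¹ ∈ zpowers y) (hb : b ∈ S) (b2 : b * b = z) (hc : b * v = v * b) :
    False := by
  have idx := relIndex_eq_two_of hv (fun h => (uniq hz z1 z2 h v2).elim v1 vz) cov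
  obtain ⟨g, hg, -, h⟩ := th hA hS idx hv v2
  refine vz (extz hS zc z1 z2 (fun g hg h => uniq hz z1 z2 ?_ h) hb b2 hc hg
    ((uniq hz z1 z2 h (cj1 v2 g)).resolve_left (cj_ne v1 g)))
  by_cases h1 : g ∈ zpowers y
  · exact mul_mem h1 h1
  · exact mul_mem_of_relIndex_two idx hg hg h1 h1

end H9.Z4
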