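import Cfsg.Agent.H9.Z4a
import Cfsg.Agent.H9.IsoP

/-! Involutions with centralizer `Z₄`, part 2: the fusion analysis for a Sylow 2-subgroup with an abelian
subgroup `Z_{2^n} × Z₂` of index 2 (`YD.false`). -/

set_option autoImplicit false
set_option linter.unusedSectionVars false
open Subgroup H2

namespace H9.Z4

variable {G : Type*} [Group G] [Finite G] {A S K M R : Subgroup G} {a b c g r s v y z p q : G}

/-- `S = Y⟨s⟩` with `Y = ⟨y⟩ × ⟨v⟩` -/
structure YD (S : Subgroup G) (z v y a s : G) : Prop where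
  zc : ∀ g ∈ S, g * z = z * g
  z1 : z ≠ 1
  z2 : z * z = 1
  vS : v ∈ S
  v2 : v * v = 1
  v1 : v ≠ 1
  vz : v ≠ z
  yS : y ∈ S
  yv : y * v = v * y
  ay : a ∈ zpowers y
  a2 : a * a = z
  sS : s ∈ S
  sY : s ∉ zpowers y ⊔ zpowers v
  cov : ∀ g ∈ S, g ∈ zpowers y ⊔ zpowers v ∨ g * s⁻¹ ∈ zpowers y ⊔ zpowers v
  sy : s * y * s⁻¹ = y⁻¹ ∨ s * y * s⁻¹ = y⁻¹ * z
  sv : s * v * s⁻¹ = v ∨ s * v * s⁻¹ = z * v
  sA : s * s = 1 ∨ s * s = z → s * y * s⁻¹ = y⁻¹

theorem mem_Y (yv : y * v = v * y) (v2 : v * v = 1) :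
    g ∈ zpowers y ⊔ zpowers v ↔ ∃ i : ℤ, g = y ^ i ∨ g = y ^ i * v := by
  rw [mem_ext (K := zpowers y) (r := v) (fun k ⟨i, hi⟩ => ⟨i, by
    rw [← hi]; simp only; rw [(Commute.zpow_right yv.symm i).eq]; group⟩) (v2 ▸ one_mem _),
    inv_eq_of_mul_eq_one_right v2]
  constructor
  · rintro (⟨i, h⟩ | ⟨i, h⟩)
    · exact ⟨i, Or.inl h.symm⟩
    · exact ⟨i, Or.inr (by simp only at h; rw [h, mul_assoc, v2, mul_one])⟩
  · rintro ⟨i, rfl | rfl⟩
    · exact Or.inl ⟨i, rfl⟩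
    · exact Or.inr ⟨i, by simp only; rw [mul_assoc, v2, mul_one]⟩

namespace YD
variable (h : YD S z v y a s)
include h

theorem mem : g ∈ zpowers y ⊔ zpowers v ↔ ∃ i : ℤ, g = y ^ i ∨ g = y ^ i * v := mem_Y h.yv h.v2
theorem zy : z ∈ zpowers y := h.a2 ▸ mul_mem h.ay h.ay
theorem le : zpowers y ⊔ zpowers v ≤ S := sup_le (zpowers_le.2 h.yS) (zpowers_le.2 h.vS)
theorem aS : a ∈ S := h.le (mem_sup_left h.ay)
theorem zS : z ∈ S := h.le (mem_sup_left h.zy)
theorem vY : v ∈ zpowers y ⊔ zpowers v := mem_sup_right (mem_zpowers v)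
theorem zY : z ∈ zpowers y ⊔ zpowers v := mem_sup_left h.zy
theorem vi : v⁻¹ = v := inv_eq_of_mul_eq_one_right h.v2
theorem zi : z⁻¹ = z := inv_eq_of_mul_eq_one_right h.z2
theorem idx : (zpowers y ⊔ zpowers v).relIndex S = 2 := relIndex_eq_two_of h.sS h.sY h.cov
theorem uq (ha : b ∈ zpowers y) (h2 : b * b = 1) : b = 1 ∨ b = z := uniq h.zy h.z1 h.z2 ha h2
theorem vy : v ∉ zpowers y := fun e => (h.uq e h.v2).elim h.v1 h.vz

theorem cm (hp : p ∈ zpowers y ⊔ zpowers v) (hq : q ∈ zpowers y ⊔ zpowers v) : p * q = q * p := by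
  have c : Commute y v := h.yv
  obtain ⟨i, rfl | rfl⟩ := h.mem.1 hp <;> obtain ⟨j, rfl | rfl⟩ := h.mem.1 hq
  · exact Commute.zpow_zpow_self y i j
  · exact (Commute.zpow_zpow_self y i j).mul_right (c.zpow_left i)
  · exact (Commute.zpow_zpow_self y i j).mul_left (c.symm.zpow_right j)
  · exact ((Commute.zpow_zpow_self y i j).mul_right (c.zpow_left i)).mul_left
      ((c.symm.zpow_right j).mul_right (Commute.refl v))

theorem sq (hp : p ∈ zpowers y ⊔ zpowers v) : p * p ∈ zpowers (y ^ 2) := by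
  have c : Commute y v := h.yv
  have e : ∀ i : ℤ, y ^ i * y ^ i ∈ zpowers (y ^ 2) := fun i => ⟨i, by
    simp only; rw [pow_two, (Commute.refl y).mul_zpow]⟩
  obtain ⟨i, rfl | rfl⟩ := h.mem.1 hp
  · exact e i
  · rw [← pow_two, (c.zpow_left i).mul_pow, pow_two v, pow_two (y ^ i), h.v2, mul_one]; exact e i

theorem sq' (hp : p ∈ zpowers y ⊔ zpowers v) : p * p ∈ zpowers y := zpowers_le.2 (npow_mem_zpowers y 2) (h.sq hp)

theorem inv (hp : p ∈ zpowers y ⊔ zpowers v) (h2 : p * p = 1) : p = 1 ∨ p = z ∨ p = v ∨ p = z * v := by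
  have c : Commute y v := h.yv
  obtain ⟨i, rfl | rfl⟩ := h.mem.1 hp
  · exact (h.uq ⟨i, rfl⟩ h2).imp_right Or.inl
  · rw [← pow_two, (c.zpow_left i).mul_pow, pow_two, pow_two, h.v2, mul_one] at h2
    rcases h.uq (zpow_mem (mem_zpowers y) i) h2 with e | e <;> rw [e] <;> simp

theorem ys (hp : p ∈ zpowers y ⊔ zpowers v) : s * p * s⁻¹ * p = 1 ∨ s * p * s⁻¹ * p = z := by
  have cz : Commute y z := h.zc y h.yS
  have e1 : ∀ i : ℤ, s * y ^ i * s⁻¹ * y ^ i ∈ zpowers z := fun i => by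
    rw [← conj_zpow]
    rcases h.sy with e | e <;> rw [e]
    · simp
    · rw [cz.inv_left.mul_zpow, mul_assoc, (cz.symm.zpow_zpow i i).eq]; simp
  have e2 : s * v * s⁻¹ * v ∈ zpowers z := by
    rcases h.sv with e | e <;> rw [e]
    · rw [h.v2]; exact one_mem _
    · rw [mul_assoc, h.v2]; simp
  refine eq_one_or_eq_of_mem_zpowers h.z2 ?_
  obtain ⟨i, rfl | rfl⟩ := h.mem.1 hp
  · exact e1 i
  · have hv : s * v * s⁻¹ ∈ zpowers y ⊔ zpowers v := conj_mem_of_relIndex_two h.idx h.le h.sS h.vY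
    have := h.cm hv (mem_sup_left (zpow_mem (mem_zpowers y) i))
    convert mul_mem (e1 i) e2 using 1
    calc _ = s * y ^ i * s⁻¹ * (s * v * s⁻¹ * y ^ i) * v := by group
      _ = _ := by rw [this]; group

theorem out (hg : g ∈ S) (hn : g ∉ zpowers y ⊔ zpowers v) : g * g = s * s ∨ g * g = z * (s * s) := by
  have hp := (h.cov g hg).resolve_left hn
  have := h.cm hp (conj_mem_of_relIndex_two h.idx h.le h.sS hp)
  have e : g * g = s * (g * s⁻¹) * s⁻¹ * (g * s⁻¹) * (s * s) := by rw [← this]; group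
  rcases h.ys hp with e' | e' <;> rw [e, e'] <;> simp

theorem cY : s * s ∈ zpowers y ⊔ zpowers v := mul_mem_of_relIndex_two h.idx h.sS h.sS h.sY h.sY

theorem cen (hp : p ∈ zpowers y ⊔ zpowers v) (e : s * p = p * s) : ∀ g ∈ S, g * p = p * g := fun g hg => by
  rcases h.cov g hg with h1 | h1
  · exact h.cm h1 hp
  · calc g * p = g * s⁻¹ * (s * p) := by group
      _ = (g * s⁻¹ * p) * s := by rw [e]; group
      _ = _ := by rw [h.cm h1 hp]; group

theorem cc : ∀ g ∈ S, g * (s * s) = s * s * g := h.cen h.cY (by group)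

theorem sy2 (hb : b ∈ zpowers (y ^ 2)) : s * b * s⁻¹ = b⁻¹ := inverts_of_mem_zpowers (by
  have cz : Commute y z := h.zc y h.yS
  rw [← conj_pow]
  rcases h.sy with e | e <;> rw [e]
  · rw [inv_pow]
  · rw [cz.inv_left.mul_pow, pow_two z, h.z2, inv_pow, mul_one]) hb

theorem cmm0 (hp : p ∈ zpowers y ⊔ zpowers v) (hq : q ∈ S) : p * q * p⁻¹ * q⁻¹ ∈ zpowers y := by
  rcases h.cov q hq with h1 | h1
  · rw [h.cm hp h1]; simp
  · have h2 := conj_mem_of_relIndex_two h.idx h.le h.sS hp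
    have e : p * q * p⁻¹ * q⁻¹ = p * p * (s * p * s⁻¹ * p)⁻¹ := by
      calc _ = p * (q * s⁻¹ * (s * p * s⁻¹)⁻¹) * (q * s⁻¹)⁻¹ := by group
        _ = _ := by rw [h.cm h1 (inv_mem h2)]; group
    rw [e]
    refine mul_mem (h.sq' hp) (inv_mem ?_)
    rcases h.ys hp with e | e <;> rw [e]
    exacts [one_mem _, h.zy]

theorem cmm (hp : p ∈ S) (hq : q ∈ S) : p * q * p⁻¹ * q⁻¹ ∈ zpowers y := by
  by_cases h1 : p ∈ zpowers y ⊔ zpowers v
  · exact h.cmm0 h1 hq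
  by_cases h2 : q ∈ zpowers y ⊔ zpowers v
  · simpa [mul_assoc] using inv_mem (h.cmm0 h2 hp)
  · simpa [mul_assoc] using h.cmm0 (mul_inv_mem_of_relIndex_two h.idx hp hq h1 h2) hq

theorem caseC (hA : N2 A) (hS : SylIn 2 S A) (e : s * s * (s * s) = z) : False := by
  have e4 : ∀ k : ℕ, (s * s) ^ k * (s * s) ^ k = z ^ k := fun k => by rw [← e, (Commute.refl (s * s)).mul_pow]
  have z2 : ∀ k : ℕ, z ^ k * z ^ k = 1 := fun k => by rw [← (Commute.refl z).mul_pow, h.z2, one_pow]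
  obtain ⟨g, hg, k, -, hp⟩ := gt hA hS h.idx h.sS fun g _ k h1 => by
    by_contra h2
    have h3 : g * s ^ (2 * k) * g⁻¹ * (g * s ^ (2 * k) * g⁻¹) = g * z ^ k * g⁻¹ := by
      rw [pow_mul, pow_two s]; exact cj2 (e4 k) g
    have h4 := cj1 (z2 k) g
    rw [← h3] at h4
    rcases h.out h1 h2 with e' | e' <;> rw [e'] at h4
    · exact h.z1 (e.symm.trans h4)
    · refine h.z1 (e.symm.trans ?_)
      rw [← h4, mul_assoc z, ← mul_assoc (s * s) z, ← h.cc z h.zS, ← mul_assoc, ← mul_assoc, ← mul_assoc z, h.z2]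
      group
  have h1 := h.sq hp
  rw [cj2 rfl, ← (Commute.refl s).mul_pow] at h1
  have := nc hS (c := (s * s) ^ (2 * k + 1)) (fun g hg => (Commute.pow_right (h.cc g hg) _).eq) (inv_mem hg)
    (by group) h.sS (h.sy2 h1)
  rw [cj2 (e4 _), pow_succ, two_mul, pow_add, z2, one_mul] at this
  exact cj_ne h.z1 g this

theorem caseB (hA : N2 A) (hns : ¬ Group.IsSolvable A) (hS : SylIn 2 S A) (e : s * s = v ∨ s * s = z * v) :
    False := by
  haveI : Fact (Nat.Prime 2) := Nat.fact_prime_two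
  have zv := h.zc v h.vS
  have zv1 : z * v ≠ 1 := fun e => h.vz (by rw [← h.zi]; exact (eq_inv_of_mul_eq_one_right e))
  have c2 : s * s * (s * s) = 1 := by
    rcases e with e | e <;> rw [e]
    exacts [h.v2, by rw [mul_assoc, ← mul_assoc v, zv, mul_assoc, h.v2, mul_one, h.z2]]
  have c1 : s * s ≠ 1 := by rcases e with e | e <;> rw [e]; exacts [h.v1, zv1]
  have cz : s * s ≠ z := by rcases e with e | e <;> rw [e]; exacts [h.vz, by simpa using h.v1]
  have iY : ∀ g ∈ S, g * g = 1 → g ∈ zpowers y ⊔ zpowers v := fun g hg h2 => by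
    by_contra hn
    rcases h.out hg hn with e' | e' <;> rw [h2] at e'
    · exact c1 e'.symm
    · exact cz (by rw [← h.zi]; exact eq_inv_of_mul_eq_one_right e'.symm)
  by_cases hd : y * s * y⁻¹ * s⁻¹ = 1
  · have sy : s * y = y * s := by rw [mul_inv_eq_one, mul_inv_eq_iff_eq_mul] at hd; exact hd.symm
    have sv : s * v = v * s := by
      rcases e with e | e
      · rw [← e]; group
      · have : v = z * (s * s) := by rw [e, ← mul_assoc, h.z2, one_mul]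
        rw [this, ← mul_assoc, h.zc s h.sS]; group
    have cY : ∀ p ∈ zpowers y ⊔ zpowers v, s * p = p * s := fun p hp => by
      obtain ⟨i, rfl | rfl⟩ := h.mem.1 hp
      exacts [Commute.zpow_right sy i, (Commute.zpow_right sy i).mul_right sv]
    have ab : ∀ p ∈ S, ∀ q ∈ S, p * q = q * p := fun p hp q hq => by
      rcases h.cov q hq with h1 | h1
      · exact h.cen h1 (cY q h1) p hp
      · have h2 := h.cen h1 (cY _ h1) p hp
        have h3 : p * s = s * p := by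
          rcases h.cov p hp with h3 | h3
          · exact (cY p h3).symm
          · have := cY _ h3
            calc p * s = (p * s⁻¹ * s) * s := by group
              _ = _ := by rw [← this]; group
        calc p * q = p * (q * s⁻¹) * s := by group
          _ = q * s⁻¹ * (p * s) := by rw [h2]; group
          _ = _ := by rw [h3]; group
    let e0 : S.subgroupOf A ≃* S := subgroupOfEquivOfLe hS.le
    have kl := isKleinFour_closure (a := (⟨z, h.zS⟩ : S)) (b := ⟨v, h.vS⟩)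
      (orderOf_eq_two.2 ⟨Subtype.ext h.z2, fun e => h.z1 (congrArg Subtype.val e)⟩)
      (orderOf_eq_two.2 ⟨Subtype.ext h.v2, fun e => h.v1 (congrArg Subtype.val e)⟩)
      (fun e => h.vz (congrArg Subtype.val e).symm) (Subtype.ext zv.symm)
    have r2 : H7.R2 S := ⟨fun a b => Subtype.ext (ab a a.2 b b.2), hS.isPGroup, _, kl, fun u =>
      ⟨fun hu => congrArg Subtype.val (IsKleinFour.mul_self (⟨u, hu⟩ : Subgroup.closure _)), fun hu => by
        have m1 : (⟨z, h.zS⟩ : S) ∈ Subgroup.closure ({⟨z, h.zS⟩, ⟨v, h.vS⟩} : Set S) := subset_closure (by simp)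
        have m2 : (⟨v, h.vS⟩ : S) ∈ Subgroup.closure ({⟨z, h.zS⟩, ⟨v, h.vS⟩} : Set S) := subset_closure (by simp)
        have hu' : (u : G) * u = 1 := congrArg Subtype.val hu
        rcases h.inv (iY u u.2 hu') hu' with e | e | e | e
        · rw [show u = 1 from Subtype.ext e]; exact one_mem _
        · rw [show u = ⟨z, h.zS⟩ from Subtype.ext e]; exact m1
        · rw [show u = ⟨v, h.vS⟩ from Subtype.ext e]; exact m2
        · rw [show u = ⟨z, h.zS⟩ * ⟨v, h.vS⟩ from Subtype.ext e]; exact mul_mem m1 m2⟩⟩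
    refine hns (brauer hS.toSylow (r2.of_equiv e0) ?_)
    rw [hS.coe_toSylow, Nat.card_congr e0.toEquiv, ← kl.card_four]
    obtain ⟨V, k1, k2⟩ := r2.kl
    rw [kl.card_four, ← k1.card_four]
    exact card_lt_of_ne_top fun e => c1 (congrArg Subtype.val ((k2 ⟨s, h.sS⟩).1 (e ▸ mem_top _)))
  obtain ⟨g, hg, k, -, hp⟩ := gt hA hS h.idx h.sS fun g _ k h1 => iY _ h1 (cj1 (by
    rw [pow_mul, pow_two s, ← (Commute.refl _).mul_pow, c2, one_pow]) g)
  have h1 := h.sq' hp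
  rw [cj2 rfl, ← (Commute.refl s).mul_pow, pow_succ, pow_mul, pow_two, c2, one_pow, one_mul] at h1
  obtain ⟨m, -, h2, h3⟩ := extC hS h.zc hg ((h.uq h1 (cj1 c2 g)).resolve_left (cj_ne c1 g))
  have h4 : ∀ b ∈ S, m * b * m⁻¹ ∈ S := fun b hb => h3 b hb (h.cc b hb)
  obtain ⟨n, hn⟩ := hS.isPGroup ⟨_, mul_mem (mul_mem (mul_mem h.yS h.sS) (inv_mem h.yS)) (inv_mem h.sS)⟩
  obtain ⟨j, j1, j2⟩ := exists_notMem_pow_mem (A := ⊥) (congrArg Subtype.val hn) hd
  rw [mem_bot] at j1 j2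
  rw [pow_succ, pow_mul, pow_two] at j2
  have j3 := (h.uq (pow_mem (h.cmm h.yS h.sS) _) j2).resolve_left j1
  have j4 : m * z * m⁻¹ ∈ zpowers y := by
    rw [← j3, ← conj_pow]
    refine pow_mem ?_ _
    convert h.cmm (h4 _ h.yS) (h4 _ h.sS) using 1; group
  exact cz (cj_inj (h2.trans ((h.uq j4 (cj1 h.z2 m)).resolve_left (cj_ne h.z1 m)).symm))

theorem sv' (e : s * y * s⁻¹ = y⁻¹) : YD S z v y a (s * v) := by
  have hn : s * v ∉ zpowers y ⊔ zpowers v := fun e => h.sY ((mul_mem_cancel_right h.vY).1 e)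
  have e' : s * v * y * (s * v)⁻¹ = y⁻¹ := by rw [mul_assoc s, ← h.yv, ← e]; group
  refine { h with
    sS := mul_mem h.sS h.vS, sY := hn, sy := Or.inl e', sA := fun _ => e'
    cov := fun g hg => or_iff_not_imp_left.2 fun h1 =>
      mul_inv_mem_of_relIndex_two h.idx hg (mul_mem h.sS h.vS) h1 hn
    sv := by rw [show s * v * v * (s * v)⁻¹ = s * v * s⁻¹ by group]; exact h.sv }

theorem yv' (e : s * y * s⁻¹ = y⁻¹) (e2 : s * v * s⁻¹ = v) : ∃ a, YD S z v (y * v) a s := by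
  have c : Commute y v := h.yv
  have eq : zpowers (y * v) ⊔ zpowers v = zpowers y ⊔ zpowers v := le_antisymm
    (sup_le (zpowers_le.2 (mul_mem (mem_sup_left (mem_zpowers y)) h.vY)) le_sup_right)
    (sup_le (zpowers_le.2 ((mul_mem_cancel_right (mem_sup_right (mem_zpowers v))).1
      (mem_sup_left (mem_zpowers _)))) le_sup_right)
  have e' : s * (y * v) * s⁻¹ = (y * v)⁻¹ := by
    rw [c.eq, mul_inv_rev, h.vi, ← e, ← c.eq]; nth_rewrite 2 [← e2]; group
  obtain ⟨i, hi⟩ := h.ay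
  exact ⟨(y * v) ^ i, { h with
    yS := mul_mem h.yS h.vS, yv := by rw [mul_assoc, ← mul_assoc v, ← h.yv, mul_assoc]
    ay := ⟨i, rfl⟩, sY := eq ▸ h.sY, cov := eq ▸ h.cov, sy := Or.inl e', sA := fun _ => e'
    a2 := by
      rw [← (Commute.refl _).mul_zpow, ← pow_two, c.mul_pow, pow_two v, h.v2, mul_one, ← h.a2, ← hi, pow_two,
        (Commute.refl y).mul_zpow] }⟩

theorem hq (e : s * s = 1 ∨ s * s = z) : ∀ g ∈ S, g * g * (g * g) = 1 → g * g = 1 ∨ g * g = z := fun g hg h2 => by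
  by_cases h1 : g ∈ zpowers y ⊔ zpowers v
  · exact h.uq (h.sq' h1) h2
  · rcases h.out hg h1 with e' | e' <;> rcases e with e | e <;> simp [e', e, h.z2]

theorem memM (e : s * s = 1 ∨ s * s = z) : g ∈ zpowers y ⊔ zpowers s ↔ g ∈ zpowers y ∨ g * s⁻¹ ∈ zpowers y :=
  mem_ext (fun k hk => by rw [inverts_of_mem_zpowers (h.sA e) hk]; exact inv_mem hk)
    (by rcases e with e | e <;> rw [e]; exacts [one_mem _, h.zy])

theorem sqM (e : s * s = 1 ∨ s * s = z) (hg : g * s⁻¹ ∈ zpowers y) : g * g = s * s := by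
  calc g * g = g * s⁻¹ * (s * (g * s⁻¹) * s⁻¹) * (s * s) := by group
    _ = _ := by rw [inverts_of_mem_zpowers (h.sA e) hg]; group

theorem idxM (e : s * s = 1 ∨ s * s = z) (hc : c * v⁻¹ ∈ zpowers y) (cc : s * c = c * s) :
    (zpowers y ⊔ zpowers s).relIndex S = 2 := by
  have cY : c ∈ zpowers y ⊔ zpowers v := (mul_mem_cancel_right (inv_mem h.vY)).1 (mem_sup_left hc)
  have k : ∀ i : ℤ, y ^ i * v * c⁻¹ ∈ zpowers y := fun i => by
    simpa [mul_assoc] using mul_mem (zpow_mem (mem_zpowers y) i) (inv_mem hc)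
  refine relIndex_eq_two_of (h.le cY) (fun e' => ?_) fun g hg => ?_
  · rcases (h.memM e).1 e' with e' | e'
    · exact h.vy (by simpa using mul_mem (inv_mem hc) e')
    · exact h.sY (by simpa using mul_mem (inv_mem (mem_sup_left e' : _ ∈ zpowers y ⊔ zpowers v)) cY)
  · rw [h.memM e, h.memM e]
    rcases h.cov g hg with h1 | h1 <;> obtain ⟨i, e' | e'⟩ := h.mem.1 h1
    · exact Or.inl (Or.inl ⟨i, e'.symm⟩)
    · exact Or.inr (Or.inl (e' ▸ k i))
    · exact Or.inl (Or.inr ⟨i, e'.symm⟩)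
    · refine Or.inr (Or.inr ?_)
      rw [mul_assoc, ← mul_inv_rev, cc, mul_inv_rev, ← mul_assoc, e']; exact k i

theorem caseA2 (hA : N2 A) (hS : SylIn 2 S A) (e : s * s = 1) (e2 : s * v * s⁻¹ = z * v) : False := by
  have aY : a * v ∈ zpowers y ⊔ zpowers v := mul_mem (mem_sup_left h.ay) h.vY
  have av := h.cm (mem_sup_left h.ay) h.vY
  have cs : s * (a * v) = a * v * s := by
    calc s * (a * v) = (s * a * s⁻¹) * (s * v * s⁻¹) * s := by group
      _ = _ := by rw [inverts_of_mem_zpowers (h.sA (Or.inl e)) h.ay, e2, ← h.a2]; group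
  have c2 : a * v * (a * v) = z := by rw [mul_assoc, ← mul_assoc v, ← av, mul_assoc, h.v2, mul_one, h.a2]
  have cc := h.cen aY cs
  have e2k : ∀ k : ℕ, (a * v) ^ (2 * k) = 1 ∨ (a * v) ^ (2 * k) = z := fun k => by
    rw [pow_mul, pow_two, c2]; exact eq_one_or_eq_of_mem_zpowers h.z2 (npow_mem_zpowers z k)
  obtain ⟨g, hg, k, -, hp⟩ := gt hA hS (h.idxM (c := a * v) (Or.inl e) (by simpa using h.ay) cs) (h.le aY)
    fun g hg k h1 => by
      rcases e2k k with e' | e' <;> rw [e'] at h1 ⊢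
      · simp
      · rw [extz hS h.zc h.z1 h.z2 (h.hq (Or.inl e)) (h.le aY) c2 (cc _ h1).symm (inv_mem hg) (by group)]
        exact mem_sup_left h.zy
  have b2 : g * (a * v) ^ (2 * k + 1) * g⁻¹ * (g * (a * v) ^ (2 * k + 1) * g⁻¹) ≠ 1 := by
    rw [cj2 rfl, ← (Commute.refl _).mul_pow, c2, pow_succ, pow_mul, pow_two, h.z2, one_pow, one_mul]
    exact cj_ne h.z1 g
  rcases (h.memM (Or.inl e)).1 hp with h1 | h1
  · exact b2 (nc hS (c := (a * v) ^ (2 * k + 1)) (fun g hg => (Commute.pow_right (cc g hg) _).eq) (inv_mem hg)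
      (by group) h.sS (inverts_of_mem_zpowers (h.sA (Or.inl e)) h1))
  · exact b2 ((h.sqM (Or.inl e) h1).trans e)

theorem nz (hS : SylIn 2 S A) (e : s * s = 1 ∨ s * s = z) (hp : p = v ∨ p = z * v) (hg : g ∈ A) :
    g * p * g⁻¹ ≠ z := fun e' => by
  have pY : p ∈ zpowers y ⊔ zpowers v := by rcases hp with rfl | rfl; exacts [h.vY, mul_mem h.zY h.vY]
  have := extz hS h.zc h.z1 h.z2 (h.hq e) h.aS h.a2 (h.cm (mem_sup_left h.ay) pY) hg e'
  rcases hp with rfl | rfl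
  exacts [h.vz this, h.v1 (by simpa using this)]

theorem thM (hA : N2 A) (hS : SylIn 2 S A) (e : s * s = 1 ∨ s * s = z) (e2 : s * v * s⁻¹ = v) :
    ∃ g ∈ A, g * v * g⁻¹ * s⁻¹ ∈ zpowers y := by
  obtain ⟨g, hg, -, hp⟩ := th hA hS (h.idxM (c := v) e (by simp) (mul_inv_eq_iff_eq_mul.1 e2)) h.vS h.v2
  exact ⟨g, hg, ((h.memM e).1 hp).resolve_left fun h1 =>
    (h.uq h1 (cj1 h.v2 g)).elim (cj_ne h.v1 g) (h.nz hS e (Or.inl rfl) hg)⟩

theorem fin (hA : N2 A) (hS : SylIn 2 S A) (e : s * s = 1) (e2 : s * v * s⁻¹ = v)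
    (h1 : ∃ g ∈ A, g * s * g⁻¹ = z) (h2 : ∃ g ∈ A, g * (y * s) * g⁻¹ = z) : False := by
  obtain ⟨g, hg, i, hi⟩ := h.thM hA hS (Or.inl e) e2
  obtain ⟨g1, hg1, h1⟩ := h1
  obtain ⟨g2, hg2, h2⟩ := h2
  simp only at hi
  have k : ∀ j : ℤ, s * y ^ j * s⁻¹ = (y ^ j)⁻¹ := fun j =>
    inverts_of_mem_zpowers (h.sA (Or.inl e)) (zpow_mem (mem_zpowers y) j)
  have m : ∀ j : ℤ, (y ^ j)⁻¹ ∈ A := fun j => inv_mem (zpow_mem (hS.le h.yS) j)
  obtain ⟨j, rfl | rfl⟩ := Int.even_or_odd' i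
  · refine h.nz hS (Or.inl e) (Or.inl rfl) (mul_mem (mul_mem hg1 (m j)) hg) ?_
    calc _ = g1 * ((y ^ j)⁻¹ * (g * v * g⁻¹ * s⁻¹) * (s * y ^ j * s⁻¹) * s) * g1⁻¹ := by group
      _ = z := by rw [← hi, k, ← h1]; group
  · refine h.nz hS (Or.inl e) (Or.inl rfl) (mul_mem (mul_mem hg2 (m j)) hg) ?_
    calc _ = g2 * ((y ^ j)⁻¹ * (g * v * g⁻¹ * s⁻¹) * (s * y ^ j * s⁻¹) * s) * g2⁻¹ := by group
      _ = z := by rw [← hi, k, ← h2]; group

theorem nvv (hS : SylIn 2 S A) (e : s * s = 1) (e2 : s * v * s⁻¹ = v) (hg : g ∈ A) : g * v * g⁻¹ ≠ z * v := by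
  intro e'
  haveI : Fact (Nat.Prime 2) := Nat.fact_prime_two
  have vc := h.cen h.vY (mul_inv_eq_iff_eq_mul.1 e2)
  obtain ⟨m, hm, h1, h2⟩ := extC hS (c := z * v) (fun g hg => by
    rw [← mul_assoc, h.zc g hg, mul_assoc, vc g hg, mul_assoc]) hg e'
  have h3 := h.hq (Or.inl e) _ (h2 a h.aS (vc a h.aS)) (by rw [cj2 h.a2]; exact cj1 h.z2 m)
  rw [cj2 h.a2] at h3
  have h4 := h3.resolve_left (cj_ne h.z1 m)
  have k : ∀ g : G, g * z * g⁻¹ = z → g * v * g⁻¹ = z * v → g * (z * v) * g⁻¹ = v := fun g a b => by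
    calc _ = g * z * g⁻¹ * (g * v * g⁻¹) := by group
      _ = v := by rw [a, b, ← mul_assoc, h.z2, one_mul]
  have k' : ∀ g : G, g * z * g⁻¹ = z → g * v * g⁻¹ = v → g * (z * v) * g⁻¹ = z * v := fun g a b => by
    calc _ = g * z * g⁻¹ * (g * v * g⁻¹) := by group
      _ = _ := by rw [a, b]
  have cm : ∀ g g' x : G, g * g' * x * (g * g')⁻¹ = g * (g' * x * g'⁻¹) * g⁻¹ := fun g g' x => by group
  have ci : ∀ g x x' : G, g * x * g⁻¹ = x' → g⁻¹ * x' * g⁻¹⁻¹ = x := fun g x x' e => by rw [← e]; group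
  let K : Subgroup G :=
    { carrier := {g | g * z * g⁻¹ = z ∧ (g * v * g⁻¹ = v ∨ g * v * g⁻¹ = z * v)}
      one_mem' := by simp
      mul_mem' := by
        rintro a b ⟨a1, a2⟩ ⟨b1, b2⟩
        refine ⟨by rw [cm, b1, a1], ?_⟩
        rw [cm]
        rcases a2 with a2 | a2 <;> rcases b2 with b2 | b2 <;> rw [b2]
        exacts [Or.inl a2, Or.inr (k' a a1 a2), Or.inr a2, Or.inl (k a a1 a2)]
      inv_mem' := by
        rintro a ⟨a1, a2 | a2⟩
        exacts [⟨ci _ _ _ a1, Or.inl (ci _ _ _ a2)⟩, ⟨ci _ _ _ a1, Or.inr (ci _ _ _ (k a a1 a2))⟩] }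
  have mc : ∀ g : G, g ∈ centralizer {v} ↔ g * v * g⁻¹ = v := fun g => by
    rw [mem_centralizer_singleton_iff, mul_inv_eq_iff_eq_mul]
  have idx : (centralizer {v}).relIndex (A ⊓ K) = 2 := relIndex_eq_two_of (y := m) ⟨hm, h4, Or.inr h1⟩
    (fun e => h.z1 (by simpa using h1.symm.trans ((mc m).1 e))) fun g hg => by
      rw [mc, mc, cm, ci _ _ _ (k m h4 h1)]
      exact hg.2.2.imp_right (k g hg.2.1)
  refine (hS.of_le (L := A ⊓ K) (le_inf hS.le fun g hg => ⟨by rw [h.zc g hg]; group, Or.inl (by rw [vc g hg]; group)⟩)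
    inf_le_left).not_dvd (idx ▸ relIndex_dvd_of_le_left _ fun g hg => mem_centralizer_singleton_iff.2 (vc g hg))

theorem claim (hA : N2 A) (hS : SylIn 2 S A) (e : s * s = 1) (e2 : s * v * s⁻¹ = v) (hr : r * s⁻¹ ∈ zpowers y) :
    (∃ g ∈ A, g * r * g⁻¹ = z) ∨ ∃ g ∈ A, g * (r * v) * g⁻¹ = z := by
  by_contra hn
  push Not at hn
  have vc := h.cen h.vY (mul_inv_eq_iff_eq_mul.1 e2)
  have rS : r ∈ S := (mul_mem_cancel_right (inv_mem h.sS)).1 (h.le (mem_sup_left hr))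
  have rY : r ∉ zpowers y ⊔ zpowers v := fun e =>
    h.sY (by simpa using mul_mem (inv_mem (mem_sup_left hr : _ ∈ zpowers y ⊔ zpowers v)) e)
  have r2 : r * r = 1 := (h.sqM (Or.inl e) hr).trans e
  have ar : a * r * a⁻¹ = z * r := by
    have h1 := inverts_of_mem_zpowers (h.sA (Or.inl e)) h.ay
    have h2 := (commute_of_mem_zpowers hr h.ay).eq
    calc _ = a * (r * s⁻¹ * (s * a * s⁻¹)⁻¹) * s := by group
      _ = _ := by rw [h1, inv_inv, h2, ← h.a2]; group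
  have zv := h.zc v h.vS
  have aA := hS.le h.aS
  have sq : ∀ p, p = v ∨ p = z * v → p * p = 1 ∧ p ≠ 1 ∧ p ∈ zpowers y ⊔ zpowers v := by
    rintro p (rfl | rfl)
    · exact ⟨h.v2, h.v1, h.vY⟩
    · exact ⟨by rw [mul_assoc, ← mul_assoc v, zv, mul_assoc, h.v2, mul_one, h.z2],
        fun e => h.vz (by rw [← h.zi]; exact eq_inv_of_mul_eq_one_right e), mul_mem h.zY h.vY⟩
  obtain ⟨g, hg, -, h1⟩ := th hA hS h.idx rS r2
  have h2 : g * r * g⁻¹ = v ∨ g * r * g⁻¹ = z * v :=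
    ((h.inv h1 (cj1 r2 g)).resolve_left (cj_ne (fun e : r = 1 => rY (e ▸ one_mem _)) g)).resolve_left (hn.1 g hg)
  obtain ⟨m, hm, h3, h4⟩ := extC hS (c := g * r * g⁻¹) (fun x hx => by
    rcases h2 with e | e <;> rw [e]
    exacts [vc x hx, by rw [← mul_assoc, h.zc x hx, mul_assoc, vc x hx, mul_assoc]]) hg rfl
  rw [← h3] at h2
  have zS := h4 z h.zS (h.zc r rS).symm
  have vS := h4 v h.vS (vc r rS).symm
  by_cases h5 : m * z * m⁻¹ ∈ zpowers y ⊔ zpowers v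
  · rcases (h.inv h5 (cj1 h.z2 m)).resolve_left (cj_ne h.z1 m) with h6 | h6
    · have h7 : m * a * m⁻¹ * (m * r * m⁻¹) * (m * a * m⁻¹)⁻¹ = z * (m * r * m⁻¹) := by
        calc _ = m * (a * r * a⁻¹) * m⁻¹ := by group
          _ = m * z * m⁻¹ * (m * r * m⁻¹) := by rw [ar]; group
          _ = _ := by rw [h6]
      have mA := mul_mem (mul_mem hm aA) (inv_mem hm)
      rcases h2 with e' | e' <;> rw [e'] at h7
      · exact h.nvv hS e e2 mA h7
      · rw [← mul_assoc z, h.z2, one_mul] at h7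
        exact h.nvv hS e e2 (inv_mem mA) (by nth_rewrite 1 [← h7]; group)
    · exact h.nz hS (Or.inl e) h6 (inv_mem hm) (by group)
  obtain ⟨p, hp, h6⟩ : ∃ p, (p = v ∨ p = z * v) ∧ m * p * m⁻¹ ∈ zpowers y ⊔ zpowers v := by
    by_cases h6 : m * v * m⁻¹ ∈ zpowers y ⊔ zpowers v
    · exact ⟨v, Or.inl rfl, h6⟩
    · exact ⟨z * v, Or.inr rfl, by simpa [mul_assoc] using mul_mem_of_relIndex_two h.idx zS vS h5 h6⟩
  have h7 := ((h.inv h6 (cj1 (sq p hp).1 m)).resolve_left (cj_ne (sq p hp).2.1 m)).resolve_left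
    (h.nz hS (Or.inl e) hp hm)
  have h8 : m * p * m⁻¹ ≠ m * r * m⁻¹ := fun e => rY (cj_inj e ▸ (sq p hp).2.2)
  have h9 : m * (r * p) * m⁻¹ = z := by
    rw [show m * (r * p) * m⁻¹ = m * r * m⁻¹ * (m * p * m⁻¹) by group]
    rcases h2 with e1 | e1 <;> rcases h7 with e3 | e3
    · exact absurd (e3.trans e1.symm) h8
    · rw [e1, e3, ← mul_assoc, zv, mul_assoc, h.v2, mul_one]
    · rw [e1, e3, mul_assoc, h.v2, mul_one]
    · exact absurd (e3.trans e1.symm) h8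
  rcases hp with rfl | rfl
  · exact hn.2 m hm h9
  · refine hn.2 (m * a) (mul_mem hm aA) ?_
    rw [← h9]
    calc _ = m * (a * r * a⁻¹ * (a * v * a⁻¹)) * m⁻¹ := by group
      _ = _ := by rw [ar, vc a h.aS, ← h.zc r rS]; group

theorem false (hA : N2 A) (hns : ¬ Group.IsSolvable A) (hS : SylIn 2 S A) : False := by
  have c2 := h.ys h.cY
  rw [show s * (s * s) * s⁻¹ = s * s by group] at c2
  rcases c2 with c2 | c2
  swap; · exact h.caseC hA hS c2
  have e : s * s = 1 ∨ s * s = z := by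
    rcases h.inv h.cY c2 with e | e | e
    exacts [Or.inl e, Or.inr e, (h.caseB hA hns hS e).elim]
  have sy := h.sA e
  rcases h.sv with e2 | e2
  · rcases e with e | e
    · have vc := h.cen h.vY (mul_inv_eq_iff_eq_mul.1 e2)
      have e3 : s * v * (s * v) = 1 := by rw [mul_assoc, ← mul_assoc v, ← vc s h.sS, mul_assoc, h.v2, mul_one, e]
      have e4 : s * v * v * (s * v)⁻¹ = v := by nth_rewrite 4 [← e2]; group
      obtain ⟨a', h'⟩ := h.yv' sy e2
      rcases h.claim hA hS e e2 (r := s) (by simp) with k1 | k1 <;>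
        rcases h.claim hA hS e e2 (r := y * s) (by simp) with k2 | k2
      · exact h.fin hA hS e e2 k1 k2
      · exact h'.fin hA hS e e2 k1 (by rwa [mul_assoc y, ← vc s h.sS, ← mul_assoc y])
      · exact (h'.sv' (h'.sA (Or.inl e))).fin hA hS e3 e4 k1 (by
          rwa [mul_assoc y, ← mul_assoc v, ← vc s h.sS, mul_assoc s, h.v2, mul_one])
      · exact (h.sv' sy).fin hA hS e3 e4 k1 (by rwa [← mul_assoc y])
    · obtain ⟨g, -, hg⟩ := h.thM hA hS (Or.inr e) e2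
      exact h.z1 (e.symm.trans ((h.sqM (Or.inr e) hg).symm.trans (cj1 h.v2 g)))
  · rcases e with e | e
    · exact h.caseA2 hA hS e e2
    · refine (h.sv' sy).caseA2 hA hS ?_ (by rw [← e2]; group)
      calc _ = s * v * s⁻¹ * (s * s) * v := by group
        _ = 1 := by rw [e2, e, mul_assoc z, h.zc v h.vS, ← mul_assoc, h.z2, one_mul, h.v2]

end YD

end H9.Z4
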