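import Cfsg.Agent.H9.Z4b

/-! Involutions with centralizer `Z₄`, part 3: the setting `St` (an involution `t` normalizing `A` with
`C_S(t) = ⟨u⟩ ≅ Z₄`), the cases without (`St.nok`) and with (`St.kl`) a normal four-group, and `St.false`. -/

set_option autoImplicit false
set_option linter.unusedSectionVars false
open Subgroup H2

namespace H9.Z4

variable {G : Type*} [Group G] [Finite G] {A L T : Subgroup G} {a b c g r t u v w x y z : G}

structure St (A L T : Subgroup G) (t u z : G) : Prop where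
  n2 : N2 A
  ns : ¬ Group.IsSolvable A
  al : A ≤ L
  la : L ≤ normalizer (A : Set G)
  syl : SylIn 2 T L
  tT : t ∈ T
  tA : t ∉ A
  t2 : t * t = 1
  cov : ∀ g ∈ L, g ∈ A ∨ g * t⁻¹ ∈ A
  uS : u ∈ T ⊓ A
  ut : u * t = t * u
  u2 : u * u = z
  zc : ∀ g ∈ T, g * z = z * g
  z1 : z ≠ 1
  z2 : z * z = 1
  cu : ∀ g ∈ T ⊓ A, g * t = t * g → g ∈ zpowers u
  P : ∀ a ∈ A, ∀ b ∈ A, a * t = t * a → b * t = t * b → a * a = 1 → b * b = 1 → a * b = b * a → a ≠ 1 → b ≠ 1 → a = b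

namespace St
variable (h : St A L T t u z)
include h

theorem hS : SylIn 2 (T ⊓ A) A :=
  haveI : Fact (Nat.Prime 2) := Nat.fact_prime_two
  h.syl.inf_of_normal h.al (h.syl.le.trans h.la)
theorem ti : t⁻¹ = t := inv_eq_of_mul_eq_one_right h.t2
theorem zu : z ∈ zpowers u := h.u2 ▸ mul_mem (mem_zpowers u) (mem_zpowers u)
theorem zS : z ∈ T ⊓ A := h.u2 ▸ mul_mem h.uS h.uS
theorem cj (hg : g ∈ L) (ha : a ∈ A) : g * a * g⁻¹ ∈ A := (mem_normalizer_iff.1 (h.la hg) a).1 ha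
theorem idx : A.relIndex T = 2 := relIndex_eq_two_of h.tT h.tA fun g hg => h.cov g (h.syl.le hg)
theorem sq (hg : g ∈ T) : g * g ∈ A := by
  by_cases h1 : g ∈ A
  exacts [mul_mem h1 h1, mul_mem_of_relIndex_two h.idx hg hg h1 h1]

/-- the data of a cyclic subgroup `C_S(w)` of index 2 -/
structure W (S T : Subgroup G) (z w y : G) : Prop where
  wS : w ∈ S
  ww : w * w = z
  wi : ∀ g ∈ T, g * w * g⁻¹ = w ∨ g * w * g⁻¹ = w⁻¹
  uq : ∀ m ∈ S, m * w = w * m → m * m = 1 → m = 1 ∨ m = z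
  inv : ∀ m ∈ S, m * w = w * m → ∀ u ∈ T, u * w * u⁻¹ = w → u * m * u⁻¹ = m⁻¹ → m * m = 1
  cmp : ∀ m ∈ S, m * w = w * m → ∀ m' ∈ S, m' * w = w * m' → m ∈ zpowers m' ∨ m' ∈ zpowers m
  yS : y ∈ S
  yy : y * y = 1
  yw : y * w * y⁻¹ = w⁻¹

theorem wne (k : W (T ⊓ A) T z w y) : w⁻¹ ≠ w := fun e => h.z1 (by
  rw [← k.ww]; nth_rewrite 1 [← e]; rw [inv_mul_cancel])

theorem nk (k : W (T ⊓ A) T z w y) (hg : g ∈ L) (hr : g * t * g⁻¹ = r) (rT : r ∈ T) (rw' : r * w * r⁻¹ = w) :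
    False := by
  have r2 : r * r = 1 := hr ▸ cj1 h.t2 g
  have ri : r⁻¹ = r := inv_eq_of_mul_eq_one_right r2
  have yi : y⁻¹ = y := inv_eq_of_mul_eq_one_right k.yy
  have hm : r * y * r⁻¹ * y⁻¹ ∈ T ⊓ A := ⟨T.mul_mem (T.mul_mem (T.mul_mem rT k.yS.1) (T.inv_mem rT)) (T.inv_mem k.yS.1),
    A.mul_mem (h.cj (h.syl.le rT) k.yS.2) (A.inv_mem k.yS.2)⟩
  have hmw : r * y * r⁻¹ * y⁻¹ * w = w * (r * y * r⁻¹ * y⁻¹) := by
    have e1 : y⁻¹ * w * y = w⁻¹ := by rw [← k.yw, yi]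
    have e2 : r⁻¹ * w * r = w := by
      conv_rhs => rw [← rw']
      rw [ri]
    calc r * y * r⁻¹ * y⁻¹ * w = r * y * r⁻¹ * (y⁻¹ * w * y) * y⁻¹ := by group
      _ = r * y * (r⁻¹ * w * r)⁻¹ * r⁻¹ * y⁻¹ := by rw [e1]; group
      _ = r * (y * w * y⁻¹)⁻¹ * y * r⁻¹ * y⁻¹ := by rw [e2]; group
      _ = (r * w * r⁻¹) * (r * y * r⁻¹ * y⁻¹) := by rw [k.yw]; group
      _ = _ := by rw [rw']
  have hm2 := k.inv _ hm hmw r rT rw' (by
    calc r * (r * y * r⁻¹ * y⁻¹) * r⁻¹ = (r * r) * y * (r * r)⁻¹ * (r * y * r⁻¹)⁻¹ := by group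
      _ = _ := by rw [r2]; group)
  have hyz : y ≠ z := fun e => h.wne k (by rw [← k.yw, e, ← h.zc w k.wS.1]; group)
  have hy1 : y ≠ 1 := fun e => h.wne k (by rw [← k.yw, e]; group)
  have cm : ∀ a, a * r = r * a → g⁻¹ * a * g⁻¹⁻¹ * t = t * (g⁻¹ * a * g⁻¹⁻¹) := fun a e => by
    calc _ = g⁻¹ * (a * (g * t * g⁻¹)) * g := by group
      _ = g⁻¹ * ((g * t * g⁻¹) * a) * g := by rw [hr, e]
      _ = _ := by group
  have huy : r * y * r⁻¹ = z * y := by
    rcases k.uq _ hm hmw hm2 with e | e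
    · refine absurd (cj_inj (h.P _ (h.cj (inv_mem hg) k.yS.2) _ (h.cj (inv_mem hg) h.zS.2)
        (cm y (mul_inv_eq_iff_eq_mul.1 (mul_inv_eq_one.1 e)).symm) (cm z (h.zc r rT).symm) (cj1 k.yy _) (cj1 h.z2 _)
        ?_ (cj_ne hy1 _) (cj_ne h.z1 _))) hyz
      calc _ = g⁻¹ * (y * z) * g := by group
        _ = _ := by rw [h.zc y k.yS.1]; group
    · exact mul_inv_eq_iff_eq_mul.1 e
  have hvv : r * w * (r * w) = z := by
    calc r * w * (r * w) = (r * w * r⁻¹) * (r * r) * w := by group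
      _ = z := by rw [rw', r2, mul_one, k.ww]
  have hvy : r * w * y = y * (r * w) := by
    have e1 : w * y = z * y * w := by
      calc w * y = (w * w) * (y * w * y⁻¹) * y := by rw [k.yw]; group
        _ = _ := by rw [k.ww]; group
    calc r * w * y = r * (w * y) := by group
      _ = (r * z) * y * w := by rw [e1]; group
      _ = z * (r * y * r⁻¹) * (r * w) := by rw [h.zc r rT]; group
      _ = (z * z) * y * (r * w) := by rw [huy]; group
      _ = _ := by rw [h.z2, one_mul]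
  exact H2.Kf.fuse_contra h.n2 h.al h.la h.syl h.zc h.z1 h.z2 k.wi k.ww k.uq k.yS k.yy k.yw
    (h.syl.le (mul_mem rT k.wS.1)) hvv hvy fun t ht => h.sq ht

theorem nok (k : W (T ⊓ A) T z w y) : False := by
  have tw := (k.wi t h.tT).resolve_left (h.nk k (one_mem _) (by group) h.tT)
  have yi : y⁻¹ = y := inv_eq_of_mul_eq_one_right k.yy
  have uw : u * w ≠ w * u := fun e => by
    rcases k.cmp u h.uS e w k.wS rfl with e' | ⟨i, e'⟩
    · have := inverts_of_mem_zpowers tw e'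
      rw [← h.ut, mul_inv_cancel_right] at this
      exact h.z1 (by rw [← h.u2]; nth_rewrite 1 [this]; rw [inv_mul_cancel])
    · simp only at e'
      exact h.wne k (by rw [← tw, ← e', (Commute.zpow_right h.ut.symm i).eq]; group)
  have cm : ∀ p ∈ T ⊓ A, p * w = w * p → ∀ q ∈ T ⊓ A, q * w = w * q → p * q = q * p := fun p hp e q hq e' =>
    (k.cmp p hp e q hq e').elim (fun a => commute_of_mem_zpowers a (mem_zpowers q))
      fun a => commute_of_mem_zpowers (mem_zpowers p) a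
  have out : ∀ p ∈ T ⊓ A, p * w ≠ w * p → p * y⁻¹ * w = w * (p * y⁻¹) := fun p hp e => by
    have := (k.wi p hp.1).resolve_left fun e' => e (mul_inv_eq_iff_eq_mul.1 e')
    calc _ = p * (y * w * y⁻¹) * y⁻¹ := by simp only [yi, mul_assoc, k.yy, mul_one]
      _ = (p * w * p⁻¹)⁻¹ * (p * y⁻¹) := by rw [k.yw]; group
      _ = _ := by rw [this, inv_inv]
  have cy : ∀ p ∈ T ⊓ A, p * w = w * p → y * p * y⁻¹ ∈ T ⊓ A ∧ y * p * y⁻¹ * w = w * (y * p * y⁻¹) := fun p hp e => by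
    refine ⟨mul_mem (mul_mem k.yS hp) (inv_mem k.yS), ?_⟩
    have e1 : w = y * w⁻¹ * y⁻¹ := by rw [show y * w⁻¹ * y⁻¹ = (y * w * y⁻¹)⁻¹ by group, k.yw, inv_inv]
    calc _ = y * (p * w⁻¹) * y⁻¹ := by nth_rewrite 1 [e1]; group
      _ = y * w⁻¹ * y⁻¹ * (y * p * y⁻¹) := by rw [(show Commute p w from e).inv_right.eq]; group
      _ = _ := by rw [← e1]
  have phi : ∀ p ∈ T ⊓ A, p * w = w * p → y * p * y⁻¹ * p = 1 ∨ y * p * y⁻¹ * p = z := fun p hp e => by
    obtain ⟨c1, c2⟩ := cy p hp e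
    have c3 : y * p * y⁻¹ * p * w = w * (y * p * y⁻¹ * p) := by rw [mul_assoc, e, ← mul_assoc, c2, mul_assoc]
    have c4 : y * (y * p * y⁻¹ * p) * y⁻¹ = y * p * y⁻¹ * p := by
      calc _ = (y * y) * p * (y * y)⁻¹ * (y * p * y⁻¹) := by group
        _ = p * (y * p * y⁻¹) := by rw [k.yy]; group
        _ = _ := cm p hp e _ c1 c2
    refine k.uq _ (mul_mem c1 hp) c3 ?_
    rcases k.cmp _ (mul_mem c1 hp) c3 w k.wS rfl with e' | ⟨i, e'⟩
    · rw [inverts_of_mem_zpowers k.yw e'] at c4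
      nth_rewrite 1 [← c4]; rw [inv_mul_cancel]
    · simp only at e'
      exact absurd (by rw [← k.yw, ← e', ← conj_zpow, c4]) (h.wne k)
  let K : Subgroup G :=
    { carrier := {p | p ∈ T ⊓ A ∧ p * w = w * p ∧ y * p * y⁻¹ = p⁻¹}
      one_mem' := ⟨one_mem _, by simp, by simp⟩
      mul_mem' := by
        rintro a b ⟨a1, a2, a3⟩ ⟨b1, b2, b3⟩
        refine ⟨mul_mem a1 b1, by rw [mul_assoc, b2, ← mul_assoc, a2, mul_assoc], ?_⟩
        rw [cm a a1 a2 b b1 b2, mul_inv_rev, ← a3, ← b3, ← cm a a1 a2 b b1 b2]; group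
      inv_mem' := by
        rintro a ⟨a1, a2, a3⟩
        exact ⟨inv_mem a1, (show Commute a w from a2).inv_left, by
          rw [show y * a⁻¹ * y⁻¹ = (y * a * y⁻¹)⁻¹ by group, a3]⟩ }
  have mK : ∀ p, p ∈ K ↔ p ∈ T ⊓ A ∧ p * w = w * p ∧ y * p * y⁻¹ = p⁻¹ := fun p => Iff.rfl
  have mD : ∀ g, g ∈ K ⊔ zpowers y ↔ g ∈ K ∨ g * y⁻¹ ∈ K := fun g =>
    mem_ext (fun p hp => by rw [hp.2.2]; exact inv_mem hp) (k.yy ▸ one_mem _)
  have sq : ∀ p : G, p * p = p * y⁻¹ * (y * (p * y⁻¹) * y⁻¹) := fun p => by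
    rw [show p * y⁻¹ * (y * (p * y⁻¹) * y⁻¹) = p * p * (y * y)⁻¹ by group, k.yy]; group
  have inv : ∀ g ∈ T ⊓ A, g * g = 1 → g ∈ K ⊔ zpowers y := fun g hg e => by
    rw [mD]
    by_cases h1 : g * w = w * g
    · refine Or.inl ⟨hg, h1, ?_⟩
      rcases k.uq g hg h1 e with rfl | rfl
      · simp
      · rw [h.zc y k.yS.1, mul_inv_cancel_right, inv_eq_of_mul_eq_one_right h.z2]
    · exact Or.inr ⟨mul_mem hg (inv_mem k.yS), out g hg h1, eq_inv_of_mul_eq_one_right ((sq g).symm.trans e)⟩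
  have u1 := mul_mem h.uS (inv_mem k.yS)
  have u2 := out u h.uS uw
  have u3 : y * (u * y⁻¹) * y⁻¹ * (u * y⁻¹) = z := by
    rw [← cm _ u1 u2 _ (cy _ u1 u2).1 (cy _ u1 u2).2, ← sq, h.u2]
  have zK : ∀ p ∈ T ⊓ A, p * w = w * p → p ∈ K ∨ p * (u * y⁻¹)⁻¹ ∈ K := fun p hp e => by
    rcases phi p hp e with e' | e'
    · exact Or.inl ⟨hp, e, eq_inv_of_mul_eq_one_left e'⟩
    · refine Or.inr ⟨mul_mem hp (inv_mem u1), (show Commute p w from e).mul_left (show Commute _ w from u2).inv_left, ?_⟩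
      calc _ = (y * p * y⁻¹ * p) * p⁻¹ * (u * y⁻¹) * (y * (u * y⁻¹) * y⁻¹ * (u * y⁻¹))⁻¹ := by group
        _ = _ := by
          rw [e', u3, mul_assoc z, ← h.zc _ (mul_mem (inv_mem hp) u1).1, mul_inv_cancel_right, mul_inv_rev p, inv_inv]
          exact cm _ (inv_mem hp) (show Commute p w from e).inv_left _ u1 u2
  have idx : (K ⊔ zpowers y).relIndex (T ⊓ A) = 2 := relIndex_eq_two_of h.uS (fun e => by
      rcases (mD u).1 e with e | e
      · exact uw e.2.1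
      · exact h.z1 (by rw [← u3, e.2.2, inv_mul_cancel])) fun g hg => by
    by_cases h1 : g * w = w * g
    · rcases zK _ (cy g hg h1).1 (cy g hg h1).2 with e | e
      · refine Or.inl ?_
        have := mul_mem (mul_mem (inv_mem (mem_sup_right (mem_zpowers y))) (mem_sup_left e : _ ∈ K ⊔ zpowers y))
          (mem_sup_right (mem_zpowers y))
        convert this using 1; group
      · refine Or.inr ?_
        have := mul_mem (inv_mem (mem_sup_right (mem_zpowers y))) (mem_sup_left e : _ ∈ K ⊔ zpowers y)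
        convert this using 1; group
    · rcases zK _ (mul_mem hg (inv_mem k.yS)) (out g hg h1) with e | e
      · exact Or.inl ((mD g).2 (Or.inr e))
      · exact Or.inr (mem_sup_left (by convert e using 1; group))
  have e4 : ∀ n : ℕ, u ^ n * u ^ n = z ^ n := fun n => by rw [← h.u2, (Commute.refl u).mul_pow]
  obtain ⟨g, hg, n, -, hb⟩ := gt h.n2 h.hS idx h.uS fun g _ n h1 => inv _ h1 (cj1 (by
    rw [e4, pow_mul, pow_two, h.z2, one_pow]) g)
  set b := g * u ^ (2 * n + 1) * g⁻¹ with hbd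
  have b2 : b * b ≠ 1 := by
    rw [hbd, cj2 (e4 _), pow_succ, pow_mul, pow_two, h.z2, one_pow, one_mul]; exact cj_ne h.z1 g
  have bK : b ∈ K := ((mD b).1 hb).resolve_right fun e => b2 (by rw [sq, e.2.2, mul_inv_cancel])
  have c1 : Commute (g * t * g⁻¹) b := (Commute.pow_right h.ut.symm _).conj g
  have c2 : Commute (g * t * g⁻¹) w := by
    rcases k.cmp b bK.1 bK.2.1 w k.wS rfl with ⟨i, e⟩ | ⟨i, e⟩ <;> simp only at e
    · have z2 : ∀ j : ℤ, z ^ j * z ^ j = 1 := fun j => by rw [← (Commute.refl z).mul_zpow, h.z2, one_zpow]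
      have cz : Commute w z := h.zc w k.wS.1
      obtain ⟨j, rfl | rfl⟩ := Int.even_or_odd' i
      · rw [zpow_mul, zpow_two, k.ww] at e
        exact absurd (e ▸ z2 j) b2
      · rw [zpow_add_one, zpow_mul, zpow_two, k.ww] at e
        have bz : b * b = z := by
          rw [← e, mul_assoc, ← mul_assoc w, (cz.zpow_right j).eq, ← mul_assoc, ← mul_assoc, z2, one_mul, k.ww]
        have c3 : Commute (g * t * g⁻¹) z := bz ▸ c1.mul_right c1
        have : w = (z ^ j)⁻¹ * b := by rw [← e]; group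
        exact this ▸ (c3.zpow_right j).inv_right.mul_right c1
    · exact e ▸ c1.zpow_right i
  have gL := h.al hg
  obtain ⟨m, hm, h1, -, j, h2⟩ := extN h.syl k.wi (mul_mem (mul_mem gL (h.syl.le h.tT)) (inv_mem gL))
    (pg_conj (h.syl.isPGroup.to_le (zpowers_le.2 h.tT)) g) (Or.inl (by rw [c2.eq]; group))
  simp only at h2
  refine h.nk k (mul_mem hm gL) (by group) h1 ?_
  calc _ = m * (g * t * g⁻¹ * (m⁻¹ * w * m)) * (g * t * g⁻¹)⁻¹ * m⁻¹ := by group
    _ = w := by rw [← h2, (c2.zpow_right j).eq, h2]; group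

theorem mem_u (hg : g ∈ zpowers u) : g ∈ zpowers z ∨ g * u⁻¹ ∈ zpowers z := by
  obtain ⟨i, rfl⟩ := hg
  obtain ⟨j, rfl | rfl⟩ := Int.even_or_odd' i <;> simp only
  · exact Or.inl ⟨j, by simp only; rw [zpow_mul, zpow_two, h.u2]⟩
  · exact Or.inr ⟨j, by simp only; rw [zpow_add_one, zpow_mul, zpow_two, h.u2, mul_inv_cancel_right]⟩

theorem kl (vS : v ∈ T ⊓ A) (v2 : v * v = 1) (v1 : v ≠ 1) (vz : v ≠ z)
    (vn : ∀ g ∈ T, g * v * g⁻¹ = v ∨ g * v * g⁻¹ = z * v) : False := by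
  haveI : Fact (Nat.Prime 2) := Nat.fact_prime_two
  have vi : v⁻¹ = v := inv_eq_of_mul_eq_one_right v2
  have zv := h.zc v vS.1
  have zc : ∀ g ∈ T ⊓ A, g * z = z * g := fun g hg => h.zc g hg.1
  have tv : t * v * t⁻¹ = z * v := (vn t h.tT).resolve_left fun e =>
    (uniq h.zu h.z1 h.z2 (h.cu v vS (mul_inv_eq_iff_eq_mul.1 e).symm) v2).elim v1 vz
  obtain ⟨U, hU⟩ : ∃ U, U = zpowers z ⊔ zpowers v := ⟨_, rfl⟩
  have mU : ∀ e, e ∈ U ↔ e = 1 ∨ e = z ∨ e = v ∨ e = z * v := fun e => by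
    rw [hU, mem_Y zv.symm v2]
    constructor
    · rintro ⟨i, rfl | rfl⟩ <;> rcases eq_one_or_eq_of_mem_zpowers h.z2 (zpow_mem (mem_zpowers z) i) with e | e <;>
        simp [e]
    · rintro (rfl | rfl | rfl | rfl)
      exacts [⟨0, by simp⟩, ⟨1, by simp⟩, ⟨0, by simp⟩, ⟨1, by simp⟩]
  have zU : zpowers z ≤ U := hU ▸ le_sup_left
  have vU : v ∈ U := (mU v).2 (by simp)
  have US : U ≤ T ⊓ A := hU ▸ sup_le (zpowers_le.2 h.zS) (zpowers_le.2 vS)
  have cz : ∀ g ∈ T, g * z * g⁻¹ = z := fun g hg => by rw [h.zc g hg]; group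
  have czv : ∀ g ∈ T, g * (z * v) * g⁻¹ = z * (g * v * g⁻¹) := fun g hg => by rw [← mul_assoc g, h.zc g hg]; group
  have nU : ∀ g ∈ T, ∀ e ∈ U, g * e * g⁻¹ ∈ U := fun g hg e he => by
    have : g * v * g⁻¹ ∈ U := by rcases vn g hg with e | e <;> rw [e, mU] <;> simp
    rcases (mU e).1 he with rfl | rfl | rfl | rfl
    · simp
    · rwa [cz g hg]
    · exact this
    · rw [czv g hg]; exact mul_mem (zU (mem_zpowers z)) this
  have fix : ∀ e ∈ U, t * e * t⁻¹ = e → e = 1 ∨ e = z := fun e he e' =>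
    uniq h.zu h.z1 h.z2 (h.cu e (US he) (mul_inv_eq_iff_eq_mul.1 e').symm) (by
      rcases (mU e).1 he with rfl | rfl | rfl | rfl
      exacts [one_mul 1, h.z2, v2, by rw [mul_assoc, ← mul_assoc v, zv, mul_assoc, v2, mul_one, h.z2]])
  have U2 : ∀ e ∈ U, e⁻¹ = e := fun e he => inv_eq_of_mul_eq_one_right (by
      rcases (mU e).1 he with rfl | rfl | rfl | rfl
      exacts [one_mul 1, h.z2, v2, by rw [mul_assoc, ← mul_assoc v, zv, mul_assoc, v2, mul_one, h.z2]])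
  have key0 : ∀ g ∈ T ⊓ A, g * t * g⁻¹ * t⁻¹ ∈ U → g ∈ U ∨ g * u⁻¹ ∈ U := fun g hg e => by
    have e1 : t * (g * t * g⁻¹ * t⁻¹) * t⁻¹ = g * t * g⁻¹ * t⁻¹ := by
      rw [← U2 _ e]
      calc _ = t * (g * t * g⁻¹ * t⁻¹)⁻¹ * t⁻¹ := rfl
        _ = (t * t) * g * t⁻¹ * g⁻¹ * t⁻¹ := by group
        _ = _ := by rw [U2 _ e, h.t2, h.ti]; group
    rcases fix _ e e1 with e2 | e2
    · exact (h.mem_u (h.cu g hg (mul_inv_eq_iff_eq_mul.1 (mul_inv_eq_one.1 e2)))).imp (zU ·) (zU ·)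
    · have : v * g * t = t * (v * g) := by
        calc _ = v * (g * t * g⁻¹ * t⁻¹) * (t * v * t⁻¹) * t * (v⁻¹ * g) := by group
          _ = v * z * z * v * t * (v * g) := by rw [e2, tv, vi]; group
          _ = _ := by rw [mul_assoc v z z, h.z2, mul_one, v2, one_mul]
      rcases h.mem_u (h.cu _ (mul_mem vS hg) this) with e3 | e3
      · exact Or.inl ((mul_mem_cancel_left vU).1 (zU e3))
      · exact Or.inr ((mul_mem_cancel_left vU).1 (by rw [← mul_assoc]; exact zU e3))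
  have key : ∀ g ∈ T, g * t * g⁻¹ * t⁻¹ ∈ U → (g ∈ U ∨ g * u⁻¹ ∈ U) ∨ g * t⁻¹ ∈ U ∨ g * t⁻¹ * u⁻¹ ∈ U := fun g hg e => by
    rcases h.cov g (h.syl.le hg) with h1 | h1
    · exact Or.inl (key0 g ⟨hg, h1⟩ e)
    · exact Or.inr (key0 _ ⟨T.mul_mem hg (T.inv_mem h.tT), h1⟩ (by convert e using 1; group))
  haveI hn : (U.subgroupOf T).Normal := ⟨fun e he g => nU g g.2 e he⟩
  let π := QuotientGroup.mk' (U.subgroupOf T)
  have πe : ∀ a b : T, π a = π b ↔ (a : G)⁻¹ * b ∈ U := fun a b => QuotientGroup.eq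
  have πe' : ∀ a b : T, π a = π b ↔ (a : G) * (b : G)⁻¹ ∈ U := fun a b => by
    rw [← mul_inv_eq_one, ← map_inv, ← map_mul]; exact QuotientGroup.eq_one_iff _
  let t' : T := ⟨t, h.tT⟩
  let u' : T := ⟨u, h.uS.1⟩
  have cen : ∀ g, g * π t' = π t' * g → g = 1 ∨ g = π u' ∨ g = π t' ∨ g = π (u' * t') := fun g e => by
    obtain ⟨g, rfl⟩ := QuotientGroup.mk'_surjective _ g
    rw [← map_mul, ← map_mul, πe'] at e
    rcases key g g.2 (by simpa [mul_assoc] using e) with (e | e) | e | e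
    · exact Or.inl ((QuotientGroup.eq_one_iff _).2 e)
    · exact Or.inr (Or.inl ((πe' _ _).2 e))
    · exact Or.inr (Or.inr (Or.inl ((πe' _ _).2 e)))
    · exact Or.inr (Or.inr (Or.inr ((πe' _ _).2 (by simpa [mul_assoc] using e))))
  have tA : ∀ g ∈ A, g * t⁻¹ ∉ A := fun g hg e => h.tA (by simpa using mul_mem (inv_mem e) hg)
  by_cases hc : IsMulCommutative (⊤ : Subgroup (T ⧸ U.subgroupOf T))
  · have cv : ∀ g ∈ T ⊓ A, g ∈ U ∨ g * u⁻¹ ∈ U := fun g hg => key0 g hg (by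
      have := H1.isMulCommutative_iff.1 hc (π ⟨g, hg.1⟩) trivial (π t') trivial
      rw [← map_mul, ← map_mul, πe'] at this
      simpa [mul_assoc] using this)
    have vu : v * u * v⁻¹ = u ∨ v * u * v⁻¹ = u⁻¹ := by
      refine (vn u h.uS.1).imp (fun e => ?_) fun e => ?_
      · rw [← mul_inv_eq_iff_eq_mul.1 e]; group
      · calc _ = v * (u * v * u⁻¹)⁻¹ * u := by group
          _ = _ := by rw [e, ← h.u2]; group
    have cov : ∀ g ∈ T ⊓ A, g ∈ zpowers u ∨ g * v⁻¹ ∈ zpowers u := fun g hg => by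
      have m : v * u * v⁻¹ ∈ zpowers u := by
        rcases vu with e | e <;> rw [e]; exacts [mem_zpowers u, inv_mem (mem_zpowers u)]
      rcases cv g hg with e | e <;> rcases (mU _).1 e with e | e | e | e
      · exact Or.inl (e ▸ one_mem _)
      · exact Or.inl (e ▸ h.zu)
      · exact Or.inr (by simp [e])
      · exact Or.inr (by simpa [e] using h.zu)
      · exact Or.inl (mul_inv_eq_one.1 e ▸ mem_zpowers u)
      · exact Or.inl (mul_inv_eq_iff_eq_mul.1 e ▸ mul_mem h.zu (mem_zpowers u))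
      · exact Or.inr (mul_inv_eq_iff_eq_mul.1 e ▸ m)
      · exact Or.inr (by rw [mul_inv_eq_iff_eq_mul.1 e]; simpa [mul_assoc] using mul_mem h.zu m)
    rcases vu with e | e
    · exact cyc h.n2 h.hS zc h.z1 h.z2 h.zu vS v2 v1 vz cov h.uS h.u2 (mul_inv_eq_iff_eq_mul.1 e).symm
    have wi : ∀ g ∈ T ⊓ A, g * u * g⁻¹ = u ∨ g * u * g⁻¹ = u⁻¹ := fun g hg => by
      rcases cov g hg with e' | e'
      · exact Or.inl (by rw [(commute_of_mem_zpowers e' (mem_zpowers u)).eq]; group)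
      · refine Or.inr ?_
        calc _ = g * v⁻¹ * (v * u * v⁻¹) * (g * v⁻¹)⁻¹ := by group
          _ = _ := by rw [e, (commute_of_mem_zpowers e' (inv_mem (mem_zpowers u))).eq]; group
    have une : u⁻¹ ≠ u := fun e => h.z1 (by rw [← h.u2]; nth_rewrite 1 [← e]; rw [inv_mul_cancel])
    refine H2.Kf.fuse_contra h.n2 h.al h.la h.syl h.zc h.z1 h.z2 (w := u) (y := v) (v := t * u) (fun g hg => ?_) h.u2
      (fun m hm e1 e2 => uniq h.zu h.z1 h.z2 ((cov m hm).resolve_right fun e3 => une ?_) e2) vS v2 e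
      (h.syl.le (mul_mem h.tT h.uS.1)) ?_ ?_ fun g hg => h.sq hg
    · rcases h.cov g (h.syl.le hg) with h1 | h1
      · exact wi g ⟨hg, h1⟩
      · rw [show g * u * g⁻¹ = g * t⁻¹ * (t * u * t⁻¹) * (g * t⁻¹)⁻¹ by group, ← h.ut, mul_inv_cancel_right]
        exact wi _ ⟨T.mul_mem hg (T.inv_mem h.tT), h1⟩
    · have := (commute_of_mem_zpowers e3 (mem_zpowers u)).inv_left.mul_left (show Commute m u from e1)
      rw [← e]; simp only [mul_inv_rev, inv_inv, inv_mul_cancel_right] at this; rw [this.eq]; group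
    · rw [mul_assoc, ← mul_assoc u, h.ut, ← mul_assoc, ← mul_assoc, h.t2, one_mul, h.u2]
    · have e1 : u * v * u⁻¹ = z * v := by
        calc _ = u * (v * u * v⁻¹)⁻¹ * v := by rw [vi]; simp [mul_assoc, vi, v2]
          _ = _ := by rw [e, inv_inv, h.u2]
      calc t * u * v = t * (u * v * u⁻¹) * t⁻¹ * (t * u) := by group
        _ = _ := by rw [e1, czv t h.tT, tv, ← mul_assoc z, h.z2, one_mul]
  have c4 : Nat.card (⊤ ⊓ centralizer {π t'} : Subgroup (T ⧸ U.subgroupOf T)) ≤ 4 := by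
    have := Set.ncard_le_ncard (s := ((⊤ ⊓ centralizer {π t'} : Subgroup (T ⧸ U.subgroupOf T)) : Set _))
      (t := {1, π u', π t', π (u' * t')}) fun g hg => cen g (mem_centralizer_singleton_iff.1 hg.2)
    exact this.trans ((Set.ncard_insert_le _ _).trans (Nat.succ_le_succ ((Set.ncard_insert_le _ _).trans
      (Nat.succ_le_succ ((Set.ncard_insert_le _ _).trans (by simp))))))
  obtain ⟨k, x', hx⟩ := mc_of_card_centralizer (P := ⊤)
    ((h.syl.isPGroup.to_quotient _).of_equiv topEquiv.symm) (mem_top _) c4 hc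
  obtain ⟨x, rfl⟩ := QuotientGroup.mk'_surjective _ x'
  have tX : π t' ∉ zpowers (π x) := fun e => by
    have e1 : ⊤ ⊓ centralizer {π t'} = (⊤ : Subgroup (T ⧸ U.subgroupOf T)) := inf_eq_left.2 fun g _ => by
      rw [mem_centralizer_singleton_iff]
      rcases hx.eq_one_or_eq_u e (by rw [← map_mul, show t' * t' = 1 from Subtype.ext h.t2, map_one]) with e | e
      · rw [e]; simp
      · rw [e]; exact hx.commute_u (mem_top g)
    rw [e1, hx.card_eq] at c4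
    have := Nat.pow_le_pow_right two_pos (by omega : 3 ≤ k + 3)
    omega
  have mX : ∀ g : T, π g ∈ zpowers (π x) → ∃ i : ℤ, ∃ e ∈ U, (g : G) = (x : G) ^ i * e := fun g ⟨i, e⟩ =>
    ⟨i, _, (πe (x ^ i) g).1 (by rw [map_zpow]; exact e), by simp⟩
  obtain ⟨a, ha⟩ : ∃ a : G, a = ((x : G) * x) ^ 2 ^ k := ⟨_, rfl⟩
  have x2 : (x : G) * x ∈ T ⊓ A := ⟨mul_mem x.2 x.2, h.sq x.2⟩
  have aS : a ∈ T ⊓ A := ha ▸ pow_mem x2 _
  have x2v : (x : G) * x * v = v * (x * x) := by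
    rw [← mul_inv_eq_iff_eq_mul, show (x : G) * x * v * ((x : G) * x)⁻¹ = x * (x * v * (x : G)⁻¹) * (x : G)⁻¹ by group]
    rcases vn x x.2 with e | e <;> rw [e]
    exacts [e, by rw [czv x x.2, e, ← mul_assoc, h.z2, one_mul]]
  have x2U : ∀ e ∈ U, Commute ((x : G) * x) e := fun e he => by
    rcases (mU e).1 he with rfl | rfl | rfl | rfl
    exacts [Commute.one_right _, h.zc _ x2.1, x2v, Commute.mul_right (h.zc _ x2.1) x2v]
  have au : a⁻¹ * u ∈ U := by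
    have e0 : π x ^ 2 ^ (k + 1) = π ⟨a, aS.1⟩ := by
      rw [← map_pow]; congr 1; ext; simp [ha, pow_succ', pow_mul, pow_two]
    rcases cen _ (hx.commute_u (mem_top (π t'))).symm with e | e | e | e
    · exact absurd e hx.u_ne_one
    · exact (πe _ _).1 (e0.symm.trans e)
    · exact absurd (e ▸ hx.u_mem_x) tX
    · have := (US ((πe' _ _).1 (e0.symm.trans e))).2
      exact absurd (by simpa [mul_assoc, t', u'] using A.mul_mem this h.uS.2) (tA a aS.2)
  have a2 : a * a = z := by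
    have c : Commute a (a⁻¹ * u) := ha ▸ (x2U _ (ha ▸ au)).pow_left _
    calc a * a = a * a * ((a⁻¹ * u)⁻¹ * (a⁻¹ * u)) := by group
      _ = a * (a * (a⁻¹ * u)) * (a⁻¹ * u) := by rw [U2 _ au]; group
      _ = _ := by nth_rewrite 1 [c.eq]; rw [← h.u2]; group
  have ax : a ∈ zpowers ((x : G) * x) := ha ▸ npow_mem_zpowers _ _
  have av : a * v = v * a := ha ▸ Commute.pow_left x2v _
  by_cases xA : (x : G) ∈ A
  · have zx : z ∈ zpowers (x : G) := a2 ▸ zpowers_le.2 (mul_mem (mem_zpowers _) (mem_zpowers _)) (mul_mem ax ax)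
    refine cyc h.n2 h.hS zc h.z1 h.z2 zx vS v2 v1 vz (fun g hg => ?_) aS a2 av
    by_cases h1 : π ⟨g, hg.1⟩ ∈ zpowers (π x)
    · obtain ⟨i, e, he, rfl⟩ := mX _ h1
      have m := zpow_mem (mem_zpowers (x : G)) i
      rcases (mU e).1 he with rfl | rfl | rfl | rfl
      · exact Or.inl (by simp)
      · exact Or.inl (mul_mem m zx)
      · exact Or.inr (by simp)
      · exact Or.inr (by simpa [mul_assoc] using mul_mem m zx)
    · obtain ⟨i, e, he, e'⟩ := mX (⟨g, hg.1⟩ * t'⁻¹) (by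
        rw [map_mul, map_inv]; exact hx.mul_inv_mem (mem_top _) (mem_top _) h1 tX)
      exact absurd (e' ▸ A.mul_mem (zpow_mem xA i) (US he).2 :) (tA g hg.2)
  have sS : t * x ∈ T ⊓ A := ⟨mul_mem h.tT x.2, mul_mem_of_relIndex_two h.idx h.tT x.2 h.tA xA⟩
  have zx : z ∈ zpowers ((x : G) * x) := a2 ▸ mul_mem ax ax
  have UY : U ≤ zpowers ((x : G) * x) ⊔ zpowers v := hU ▸ sup_le_sup_right (zpowers_le.2 zx) _
  have XY : ∀ g : T, (g : G) ∈ A → π g ∈ zpowers (π x) → (g : G) ∈ zpowers ((x : G) * x) ⊔ zpowers v := fun g hg e => by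
    obtain ⟨i, e, he, e'⟩ := mX _ e
    obtain ⟨j, rfl | rfl⟩ := Int.even_or_odd' i
    · rw [e', zpow_mul, zpow_two]; exact mul_mem (mem_sup_left (zpow_mem (mem_zpowers _) j)) (UY he)
    · rw [e', zpow_add_one, zpow_mul, zpow_two, A.mul_mem_cancel_right (US he).2,
        A.mul_mem_cancel_left (A.zpow_mem x2.2 j)] at hg
      exact absurd hg xA
  have sX : π (t' * x) ∉ zpowers (π x) := fun e => tX (by
    rwa [map_mul, mul_mem_cancel_right (mem_zpowers _)] at e)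
  have sy : t * x * (x * x) * (t * x)⁻¹ = t * (x * x) * t⁻¹ := by group
  refine YD.false (S := T ⊓ A) (z := z) (v := v) (y := x * x) (a := a) (s := t * x)
    ⟨zc, h.z1, h.z2, vS, v2, v1, vz, x2, x2v, ax, a2, sS, fun e => sX ?_, fun g hg => ?_, ?_, vn _ sS.1, fun e => ?_⟩
    h.n2 h.ns h.hS
  · obtain ⟨i, e | e⟩ := (mem_Y x2v v2).1 e
    · exact ⟨2 * i, by simp only; rw [← map_zpow]; congr 1; ext; simp [zpow_mul, pow_two, e, t']⟩
    · exact ⟨2 * i, by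
        simp only; rw [← map_zpow, πe]; simpa [zpow_mul, pow_two, t', e] using vU⟩
  · by_cases h1 : π ⟨g, hg.1⟩ ∈ zpowers (π x)
    · exact Or.inl (XY _ hg.2 h1)
    · exact Or.inr (XY (⟨g, hg.1⟩ * (t' * x)⁻¹) (A.mul_mem hg.2 (A.inv_mem sS.2)) (by
        rw [map_mul, map_inv]; exact hx.mul_inv_mem (mem_top _) (mem_top _) h1 sX))
  · have e1 := hx.inv_sq (mem_top _) tX
    rw [← map_pow, ← map_inv, ← map_inv, ← map_mul, ← map_mul, eq_comm, πe] at e1
    have e2 : (x : G) * x * (t * (x * x) * t⁻¹) ∈ U := by simpa [pow_two, t'] using e1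
    have e3 : t * ((x : G) * x * (t * (x * x) * t⁻¹)) * t⁻¹ = x * x * (t * (x * x) * t⁻¹) := by
      calc _ = ((x : G) * x)⁻¹ * (x * x * (t * (x * x) * t⁻¹)) * (t * t) * (x * x) * (t * t)⁻¹ := by group
        _ = _ := by rw [h.t2, ← (x2U _ e2).inv_left.eq.symm]; group
    rw [sy]
    rcases fix _ e2 e3 with e | e
    · exact Or.inl (eq_inv_of_mul_eq_one_right e)
    · exact Or.inr (by rw [← e]; group)
  · have e1 : t * x * t⁻¹ = t * x * (t * x) * (x : G)⁻¹ := by rw [h.ti]; group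
    rw [sy, show t * ((x : G) * x) * t⁻¹ = t * x * t⁻¹ * (t * x * t⁻¹) by group, e1]
    rcases e with e | e <;> rw [e]
    · group
    · rw [mul_assoc, ← mul_assoc _ z, h.zc _ (T.inv_mem x.2), ← mul_assoc, ← mul_assoc, h.z2]; group

theorem false {y₁ y₂ : G} (h1 : y₁ ∈ T ⊓ A) (h2 : y₂ ∈ T ⊓ A) (h11 : y₁ ≠ 1) (h21 : y₂ ≠ 1) (h12 : y₁ ≠ y₂)
    (hs1 : y₁ * y₁ = 1) (hs2 : y₂ * y₂ = 1) : False := by
  haveI : (A.subgroupOf T).Normal := ⟨fun a ha g => h.cj (h.syl.le g.2) ha⟩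
  have ez : ∀ z' : T, z' ∈ A.subgroupOf T → z' ≠ 1 → z' * z' = 1 → z' ∈ center T → (z' : G) = z :=
    fun z' a b c d => (uniq h.zu h.z1 h.z2 (h.cu z' ⟨z'.2, a⟩
      (congrArg Subtype.val (mem_center_iff.1 d ⟨t, h.tT⟩)).symm) (congrArg Subtype.val c)).resolve_left
        fun e => b (Subtype.ext e)
  obtain ⟨z', w, y, hzc, hz1, hz2, hwS, hww, hwi, huniq, hinv, hcmp, hyS, hyy, hyw⟩ :=
    H2.Kf.struct (T := T) h.syl.isPGroup (A.subgroupOf T) (by
      intro z' b hz hb hz1 hz2 hzc hbb hb1 hbz hg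
      have e := ez z' hz hz1 hz2 hzc
      exact h.kl (v := (b : G)) ⟨b.2, hb⟩ (congrArg Subtype.val hbb) (fun e => hb1 (Subtype.ext e))
        (fun e' => hbz (Subtype.ext (e'.trans e.symm))) fun g hg' =>
          e ▸ (hg ⟨g, hg'⟩).imp (congrArg Subtype.val) (congrArg Subtype.val))
      (y₁ := ⟨y₁, h1.1⟩) (y₂ := ⟨y₂, h2.1⟩) h1.2 h2.2 (fun e => h11 (congrArg Subtype.val e))
      (fun e => h21 (congrArg Subtype.val e)) (fun e => h12 (congrArg Subtype.val e))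
      (Subtype.ext hs1) (Subtype.ext hs2)
  have e := ez z' (hww ▸ mul_mem hwS hwS) hz1 hz2 hzc
  have zp : ∀ a b : T, a ∈ zpowers b → (a : G) ∈ zpowers (b : G) := fun a b ⟨i, e⟩ => ⟨i, congrArg Subtype.val e⟩
  exact h.nok (w := (w : G)) (y := (y : G)) ⟨⟨w.2, hwS⟩, e ▸ congrArg Subtype.val hww,
    fun g hg => (hwi ⟨g, hg⟩).imp (congrArg Subtype.val) (congrArg Subtype.val),
    fun m hm a b => e ▸ (huniq ⟨m, hm.1⟩ hm.2 (Subtype.ext a) (Subtype.ext b)).imp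
      (congrArg Subtype.val) (congrArg Subtype.val),
    fun m hm a u hu b c => congrArg Subtype.val (hinv ⟨m, hm.1⟩ hm.2 (Subtype.ext a) ⟨u, hu⟩ (Subtype.ext b)
      (Subtype.ext c)),
    fun m hm a m' hm' b => (hcmp ⟨m, hm.1⟩ hm.2 (Subtype.ext a) ⟨m', hm'.1⟩ hm'.2 (Subtype.ext b)).imp
      (zp _ _) (zp _ _), ⟨y.2, hyS⟩, congrArg Subtype.val hyy, congrArg Subtype.val hyw⟩

end St

end H9.Z4
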